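import Mathlib
import Cfsg.Agent.Lib.OddOrder41.Sigma12Props

/-!
# The inputs of BG §14 as named propositions

Each is the type of a statement of the list: S1419 (12.7), S1378 (13.9), S1351 and S1430 (14.2 (a)--(c)).
-/

set_option autoImplicit false

namespace CfsgLib.OddOrder38

universe u

variable (G : Type u) [Group G]

/-- BG 12.7: a prime of `τ₂(M)` with non-abelian Sylow subgroups. -/
def PropTauTwoNonabelian : Prop :=
  ∀ (M : Subgroup G), IsCoatom M → ∀ (E : Subgroup G), Cfsg.IsComplIn E (Cfsg.sigmaCore M) M →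
    ∀ (p : ℕ) [Fact p.Prime], p ∈ Cfsg.tau2 M → (∀ S : Sylow p G, ¬ IsMulCommutative (S : Subgroup G)) →
    ∀ (A : Subgroup G), (A ≤ E ∧ Cfsg.IsElementaryAbelian p A ∧ Nat.card A = p ^ 2) →
    Cfsg.tau2 M = {p} ∧
      (Nat.card ↥(A ⊓ Subgroup.centralizer (Cfsg.sigmaCore M : Set G)) = p ∧
        Cfsg.fittingOf M = Cfsg.sigmaCore M ⊔ (A ⊓ Subgroup.centralizer (Cfsg.sigmaCore M : Set G))) ∧
      ∀ X : Subgroup G, X ≤ E → Nat.card X = p → X ≠ A ⊓ Subgroup.centralizer (Cfsg.sigmaCore M : Set G) →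
        Cfsg.sigmaCore M ⊓ Subgroup.centralizer (X : Set G) = ⊥ ∧ ¬ Subgroup.centralizer (X : Set G) ≤ M

/-- BG 13.9: maximal subgroups with intersecting `σ`-sets are conjugate. -/
def PropSigmaDisjoint : Prop :=
  ∀ M N : Subgroup G, IsCoatom M → IsCoatom N → (Cfsg.sigma M ∩ Cfsg.sigma N).Nonempty →
    ∃ g : G, N = M.map (MulAut.conj g).toMonoidHom

/-- Hall `κ`-subgroups exist. -/
def PropKappaExists : Prop :=
  ∀ (M : Subgroup G), IsCoatom M → ∃ K : Subgroup G, Cfsg.IsPiHallOf (Cfsg.kappa M) K M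

/-- BG 14.2 (a): the Hall `κ`-subgroups are cyclic.  In BG the cyclicity comes out of the counting in 14.7, so
it is not a field of `Inputs`; the results that need it take it as a separate hypothesis. -/
def PropKappaCyclic : Prop :=
  ∀ (M : Subgroup G), IsCoatom M →
    (∃ K : Subgroup G, Cfsg.IsPiHallOf (Cfsg.kappa M) K M) ∧
      ∀ K : Subgroup G, Cfsg.IsPiHallOf (Cfsg.kappa M) K M → IsCyclic K

/-- BG 14.2 (a)--(c). -/
def PropKappaHall : Prop :=
  ∀ (M : Subgroup G), IsCoatom M → ∀ (K : Subgroup G), Cfsg.IsPiHallOf (Cfsg.kappa M) K M → K ≠ ⊥ →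
    (∀ k ∈ K, k ≠ 1 → Cfsg.sigmaCore M ⊓ Subgroup.centralizer ({k} : Set G) = (Cfsg.sigmaCore M ⊓ Subgroup.centralizer (K : Set G))) ∧
      (∃ U : Subgroup G, IsMulCommutative U ∧ Cfsg.IsPiHallOf {q | q.Prime ∧ q ∉ Cfsg.kappa M ∧ q ∉ Cfsg.sigma M} U M ∧
        K ≤ Subgroup.normalizer (U : Set G) ∧ ∀ k ∈ K, k ≠ 1 → U ⊓ Subgroup.centralizer ({k} : Set G) = ⊥) ∧
      ∀ X : Subgroup G, X ≤ K → (Nat.card X).Prime →
        M ⊓ Subgroup.normalizer (X : Set G) = K ⊔ (Cfsg.sigmaCore M ⊓ Subgroup.centralizer (K : Set G)) ∧ M ⊓ Subgroup.normalizer (K : Set G) = K ⊔ (Cfsg.sigmaCore M ⊓ Subgroup.centralizer (K : Set G)) ∧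
        ∀ Mstar : Subgroup G, IsCoatom Mstar → Subgroup.normalizer (X : Set G) ≤ Mstar → X ≤ Cfsg.sigmaCore Mstar

open CfsgLib.OddOrder41 in
/-- The results of §12 that §14 uses. -/
structure Local : Prop where
  rankTwo : PropRankTwoInMaximal G
  tauTwo : PropTauTwoStructure G
  tauTwoCompl : PropTauTwoInComplement G
  nilpotent : PropSigmaPrimeNilpotent G
  nonabelian : PropTauTwoNonabelian G
  disjoint : PropSigmaDisjoint G

/-- All the results that the later part of §14 uses. -/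
structure Inputs : Prop extends Local G where
  kappaExists : PropKappaExists G
  kappaHall : PropKappaHall G

end CfsgLib.OddOrder38
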