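import Mathlib
import Cfsg.Agent.Lib.OddOrder38.Props14
import Cfsg.Agent.Lib.OddOrder41.Sigma12Conj
import Cfsg.Agent.Lib.OddOrder.Sigma15Fitting

/-!
# Conjugates of maximal subgroups and their `σ`-sets
-/

set_option autoImplicit false

namespace CfsgLib.OddOrder38

open Subgroup CfsgLib.OddOrder CfsgLib.OddOrder.Transitivity

universe u

variable {G : Type u} [Group G] [Finite G]

omit [Finite G] in
theorem cj_cancel (g : G) (H : Subgroup G) : cj g⁻¹ (cj g H) = H := by
  rw [cj_mul, inv_mul_cancel, cj_one]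

omit [Finite G] in
theorem cj_cancel' (g : G) (H : Subgroup G) : cj g (cj g⁻¹ H) = H := by
  rw [cj_mul, mul_inv_cancel, cj_one]

omit [Finite G] in
theorem mem_cj_self {g x : G} {H : Subgroup G} : g * x * g⁻¹ ∈ cj g H ↔ x ∈ H := by
  rw [mem_cj]
  simp [mul_assoc]

omit [Finite G] in
theorem cj_le_iff {g : G} {A B : Subgroup G} : cj g A ≤ B ↔ A ≤ cj g⁻¹ B :=
  ⟨fun h => by simpa [cj_cancel] using cj_mono (g := g⁻¹) h,
    fun h => by simpa [cj_cancel'] using cj_mono (g := g) h⟩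

omit [Finite G] in
/-- `cj g M` as a group is `M`. -/
noncomputable def cjEquiv (g : G) (M : Subgroup G) : M ≃* cj g M :=
  M.equivMapOfInjective _ (MulAut.conj g).injective

omit [Finite G] in
theorem sylowOf_cj {p : ℕ} {R M : Subgroup G} (h : SylowOf p R M) (g : G) :
    SylowOf p (cj g R) (cj g M) := by
  refine ⟨cj_mono h.1, h.2.1.map _, fun Q hQ hQp hle => ?_⟩
  have h1 : cj g⁻¹ Q = R := h.2.2 _ ((cj_mono hQ).trans (cj_cancel g M).le) (hQp.map _)
    ((cj_cancel g R).ge.trans (cj_mono hle))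
  rw [← h1, cj_cancel']

theorem sigma_cj_le (g : G) (M : Subgroup G) : Cfsg.sigma M ⊆ Cfsg.sigma (cj g M) := by
  rintro p ⟨hp, hd, P, hP⟩
  have := Fact.mk hp
  exact Sigma10.mem_sigma_of_normalizer_le hp (by rwa [card_cj]) (sylowOf_cj (sylowOf_map P) g)
    ((OddOrder41.cj_normalizer g _).ge.trans (cj_mono hP))

theorem sigma_cj (g : G) (M : Subgroup G) : Cfsg.sigma (cj g M) = Cfsg.sigma M := by
  refine subset_antisymm ?_ (sigma_cj_le g M)
  have h := sigma_cj_le g⁻¹ (cj g M)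
  rwa [cj_cancel] at h

theorem sigmaCore_cj (g : G) (M : Subgroup G) :
    Cfsg.sigmaCore (cj g M) = cj g (Cfsg.sigmaCore M) := by
  rw [sigmaCore_eq, sigmaCore_eq, sigma_cj]
  exact (piCoreOf_map _ _ (MulAut.conj g).injective M).symm

theorem tau2_cj (g : G) (M : Subgroup G) : Cfsg.tau2 (cj g M) = Cfsg.tau2 M := by
  ext p
  unfold Cfsg.tau2
  rw [Set.mem_ofPred_eq, Set.mem_ofPred_eq, sigma_cj, PRankLE.congr (cjEquiv g M),
    PRankLE.congr (cjEquiv g M)]

variable (hG : Cfsg.IsMinSimpleOddOrder G)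

include hG in
theorem mem_of_cj_eq {M : Subgroup G} (hM : IsCoatom M) {g : G} (h : cj g M = M) : g ∈ M :=
  (normalizer_self_eq_of_isCoatom hG hM).le (mem_normalizer_of_cj_eq h)

include hG in
/-- The `σ(M)`-subgroups of `M` lie in `M_σ`. -/
theorem le_sigmaCore {M Y : Subgroup G} (hM : IsCoatom M) (hYM : Y ≤ M)
    (hY : PiNat (Cfsg.sigma M) (Nat.card Y)) : Y ≤ Cfsg.sigmaCore M := by
  have hhall := (Sigma10.sigmaCore_hall hG hM).1
  have := minSimple_solvable hG hM.1
  obtain ⟨g, hg, hle⟩ := OddOrder41.exists_conj_into hhall.1 (fun r hr hrσ => hhall.2.2 r hr hrσ) hYM hY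
  exact (cj_le_iff.mp hle).trans (cj_eq_of_mem_normalizer (piCoreOf_normal _ _ (inv_mem hg))).le

theorem mem_sigma_of_mem_sigmaCore {M : Subgroup G} {x : G} (hx : x ∈ Cfsg.sigmaCore M) {p : ℕ}
    (hp : p.Prime) (hd : p ∣ orderOf x) : p ∈ Cfsg.sigma M :=
  piNat_card_piCoreOf (Cfsg.sigma M) M p hp (hd.trans (Subgroup.orderOf_dvd_natCard _ hx))

omit [Finite G] in
theorem sigmaCore_le (M : Subgroup G) : Cfsg.sigmaCore M ≤ M := piCoreOf_le _ _

include hG in
/-- A complement of `M_σ` is a `σ(M)'`-group. -/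
theorem not_mem_sigma_of_compl {M E : Subgroup G} (hM : IsCoatom M)
    (hE : Cfsg.IsComplIn E (Cfsg.sigmaCore M) M) {p : ℕ} (hp : p.Prime) (hd : p ∣ Nat.card E) :
    p ∉ Cfsg.sigma M := Sigma10.not_mem_sigma_of_dvd_compl hG hM hE hp hd

/-- BG 13.9 in the form used below. -/
theorem exists_cj_eq_of_sigma (hD : PropSigmaDisjoint G) {M N : Subgroup G} (hM : IsCoatom M)
    (hN : IsCoatom N) {p : ℕ} (hpM : p ∈ Cfsg.sigma M) (hpN : p ∈ Cfsg.sigma N) :
    ∃ g : G, N = cj g M := hD M N hM hN ⟨p, hpM, hpN⟩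

theorem sigma_eq_of_sigma (hD : PropSigmaDisjoint G) {M N : Subgroup G} (hM : IsCoatom M)
    (hN : IsCoatom N) {p : ℕ} (hpM : p ∈ Cfsg.sigma M) (hpN : p ∈ Cfsg.sigma N) :
    Cfsg.sigma N = Cfsg.sigma M := by
  obtain ⟨g, rfl⟩ := exists_cj_eq_of_sigma hD hM hN hpM hpN
  exact sigma_cj g M

/-- An element of prime order in the group generated by an element. -/
theorem exists_mem_zpowers_prime {x : G} {p : ℕ} (hp : p.Prime) (hd : p ∣ orderOf x) :
    ∃ y ∈ Subgroup.zpowers x, orderOf y = p := by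
  have := Fact.mk hp
  obtain ⟨y, hy⟩ := exists_prime_orderOf_dvd_card' (G := Subgroup.zpowers x) p
    (by rwa [Nat.card_zpowers])
  exact ⟨y, y.2, by rw [Subgroup.orderOf_coe, hy]⟩

omit [Finite G] in
theorem centralizer_le_of_mem_zpowers {x y : G} (hy : y ∈ Subgroup.zpowers x) :
    Subgroup.centralizer ({x} : Set G) ≤ Subgroup.centralizer ({y} : Set G) := by
  rw [← OddOrder41.centralizer_zpowers x, ← OddOrder41.centralizer_zpowers y]
  exact Subgroup.centralizer_le (fun _ hz => Subgroup.zpowers_le.mpr hy hz)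

omit [Finite G] in
theorem self_mem_centralizer (x : G) : x ∈ Subgroup.centralizer ({x} : Set G) :=
  Subgroup.mem_centralizer_singleton_iff.mpr rfl

omit [Finite G] in
theorem zpowers_le_of_cent {x : G} {M : Subgroup G} (h : Subgroup.centralizer ({x} : Set G) ≤ M) :
    Subgroup.zpowers x ≤ M := Subgroup.zpowers_le.mpr (h (self_mem_centralizer x))

omit [Finite G] in
theorem centralizer_zpowers_le_normalizer (x : G) :
    Subgroup.centralizer ({x} : Set G) ≤ Subgroup.normalizer ((Subgroup.zpowers x : Subgroup G) : Set G) := by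
  rw [← OddOrder41.centralizer_zpowers x]
  exact Subgroup.centralizer_le_normalizer _

end CfsgLib.OddOrder38
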