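import Mathlib
import Cfsg.Agent.Lib.OddOrder38.Conj14

/-!
# BG 14.4: the maximal subgroup over `C_G(x)` for `x ∈ M_σ` with `C_G(x)` not in `M`
-/

set_option autoImplicit false

namespace CfsgLib.OddOrder38

open Subgroup CfsgLib.OddOrder CfsgLib.OddOrder.Transitivity CfsgLib.OddOrder41

universe u

variable {G : Type u} [Group G] [Finite G] (hG : Cfsg.IsMinSimpleOddOrder G)

include hG in
theorem fittingHallOf_eq_sigmaCore {L : Subgroup G} (hL : IsCoatom L)
    (hnil : Group.IsNilpotent (Cfsg.sigmaCore L)) (hτ : ∀ p ∈ Cfsg.tau2 L, ¬ Cfsg.PRankLE p 1 L) :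
    Cfsg.fittingHallOf L = Cfsg.sigmaCore L := by
  set S := Cfsg.sigmaCore L with hS
  have hSL : S ≤ L := piCoreOf_le _ _
  have hall := (Sigma10.sigmaCore_hall hG hL).1
  refine le_antisymm ?_ ?_
  · rw [Cfsg.fittingHallOf, Subgroup.map_le_iff_le_comap]
    refine sSup_le fun N ⟨hNn, hNnil, hNc⟩ => Subgroup.map_le_iff_le_comap.mp ?_
    refine le_sigmaCore hG hL (Subgroup.map_subtype_le N) fun r hr hd => ?_
    rw [Subgroup.card_map_of_injective L.subtype_injective] at hd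
    by_contra hrσ
    have := Fact.mk hr
    have hri : ¬ r ∣ N.index := fun h => hr.ne_one (Nat.eq_one_of_dvd_coprimes hNc hd h)
    obtain ⟨T⟩ : Nonempty (Sylow r N) := inferInstance
    have hTn : (T : Subgroup N).Characteristic := Sylow.characteristic_of_normal T inferInstance
    obtain ⟨P, hP⟩ := (T.isPGroup'.map N.subtype).exists_le_sylow
    have hTP : (T : Subgroup N).map N.subtype = (P : Subgroup L) := by
      refine Subgroup.eq_of_le_of_card_ge hP ?_
      rw [Subgroup.card_map_of_injective N.subtype_injective, P.card_eq_multiplicity,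
        T.card_eq_multiplicity]
      refine Nat.pow_le_pow_right hr.pos (le_of_eq ?_)
      rw [← Subgroup.card_mul_index N, Nat.factorization_mul Nat.card_pos.ne' Subgroup.index_ne_zero_of_finite,
        Finsupp.add_apply, Nat.factorization_eq_zero_of_not_dvd hri, add_zero]
    have hPn : (P : Subgroup L).Normal := hTP ▸ inferInstance
    set R := (P : Subgroup L).map L.subtype with hR
    obtain ⟨hYc, hYτ, -⟩ := Sigma15.fitting_structure hG hL
    set F := Cfsg.fittingOf L with hF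
    have hRF : R ≤ F := by
      rw [hR, hF, Cfsg.fittingOf]
      refine Subgroup.map_mono ?_
      rw [← hTP]
      exact le_sSup ⟨hTP ▸ hPn, (T.isPGroup'.map N.subtype).isNilpotent⟩
    have hRn : L ≤ Subgroup.normalizer (R : Set G) := map_subtype_normalized _
    have hRY : R ≤ Cfsg.piCoreOf {q | q.Prime ∧ q ∉ Cfsg.sigma L} F := by
      refine le_piCoreOf hRF ((fittingOf_le L).trans hRn) fun q hq hqd => ?_
      obtain ⟨n, hn⟩ := (P.isPGroup'.map L.subtype).exists_card_eq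
      rw [hn] at hqd
      rw [(Nat.prime_dvd_prime_iff_eq hq hr).mp (hq.dvd_of_dvd_pow hqd)]
      exact ⟨hr, hrσ⟩
    have hcyc : IsCyclic R := by
      have := hYc
      exact isCyclic_of_injective (Subgroup.inclusion hRY) (Subgroup.inclusion_injective hRY)
    have hPd : r ∣ Nat.card R := by
      rw [hR, Subgroup.card_map_of_injective L.subtype_injective]
      exact P.dvd_card_of_dvd_card (hd.trans (Subgroup.card_subgroup_dvd_card N))
    refine hτ r (hYτ r hr (hPd.trans (Subgroup.card_dvd_of_le hRY))) (Sigma10.pRankLE_of_sylowOf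
      (sylowOf_map P) ?_)
    rw [pRankLE_iff]
    intro A hA
    rw [pow_one]
    have : IsCyclic A := isCyclic_of_injective A.subtype A.subtype_injective
    rw [← IsCyclic.exponent_eq_card]
    exact Nat.le_of_dvd hr.pos (Monoid.exponent_dvd_of_forall_pow_eq_one fun a =>
      Subtype.ext (by simpa using hA.2 a a.2))
  · rw [Cfsg.fittingHallOf, ← Subgroup.map_subgroupOf_eq_of_le hSL]
    refine Subgroup.map_mono (le_sSup ⟨?_, ?_, ?_⟩)
    · exact (Subgroup.normal_subgroupOf_iff_le_normalizer hSL).mpr (piCoreOf_normal _ _)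
    · have := hnil
      exact (Group.isNilpotent_congr (Subgroup.subgroupOfEquivOfLe hSL)).mpr inferInstance
    · rw [Nat.card_congr (Subgroup.subgroupOfEquivOfLe hSL).toEquiv]
      exact Nat.coprime_of_dvd fun q hq h1 h2 => hall.2.2 q hq (hall.2.1 q hq h1) h2

variable {M : Subgroup G}

include hG in
/-- The maximal subgroup over the normalizer of a subgroup of order `p` of `M`, `p ∈ σ(M)`. -/
theorem partner_structure (hI : Local G) (hM : IsCoatom M) {L : Subgroup G} (hL : IsCoatom L)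
    (hLM : L ≠ M) {p : ℕ} [hp : Fact p.Prime] (hpσ : p ∈ Cfsg.sigma M) {X : Subgroup G}
    (hX : Nat.card X = p) (hXM : X ≤ M) (hNX : Subgroup.normalizer (X : Set G) ≤ L) :
    p ∈ Cfsg.tau2 L ∧ Group.IsNilpotent (Cfsg.sigmaCore L) ∧
      Cfsg.IsComplIn (M ⊓ L) (Cfsg.sigmaCore L) L := by
  have hXp : IsPGroup p X := IsPGroup.of_card (n := 1) (by rw [hX, pow_one])
  have hX1 : X ≠ ⊥ := fun h => by
    rw [h, Subgroup.card_bot] at hX
    exact hp.out.ne_one hX.symm
  have hpL : p ∉ Cfsg.sigma L := fun h => by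
    obtain ⟨g, hg⟩ := exists_cj_eq_of_sigma hI.disjoint hM hL hpσ h
    exact partner_not_conj hG hM hpσ hXp hX1 hXM hLM hNX g hg
  obtain ⟨⟨hr2, hr1⟩, -, -⟩ := Sigma10.rank_two_of_normalizer_le hG hL hpL hX hNX
  obtain ⟨S, hS, hXS⟩ := exists_sylowOf_ge (M := M ⊓ L)
    (le_inf hXM (Subgroup.le_normalizer.trans hNX)) hXp
  have hSL := (partner_sylow hG hM hpσ hNX hI.nilpotent hS hXS).2
  obtain ⟨A, hAS, hAe, hA2⟩ :=
    not_pRankLE_subgroup_iff.mp fun h => hr1 (Sigma10.pRankLE_of_sylowOf hSL h)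
  have hA2' : Nat.card A = p ^ 2 := hA2
  have hAM : A ≤ M := hAS.trans (hS.1.trans inf_le_left)
  have hAL : A ≤ L := hAS.trans hSL.1
  have hτ : p ∈ Cfsg.tau2 L := ⟨hp.out, hpL, hr2, hr1⟩
  obtain ⟨E, hE, hAE⟩ := exists_compl_ge hG hL hAL fun t ht htd => by
    rw [hA2'] at htd
    rwa [(Nat.prime_dvd_prime_iff_eq ht hp.out).mp (ht.dvd_of_dvd_pow htd)]
  obtain ⟨hnil, -, -, -, hinf, -⟩ := hI.tauTwo L hL p hτ A ⟨hAL, hAe, hA2'⟩
  obtain ⟨E₀, hE₀⟩ := exists_compl hG hM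
  have hAnc : ¬ IsCyclic A := fun hc => by
    have h1 := IsCyclic.exponent_eq_card (α := A)
    rw [hA2'] at h1
    have h2 : Monoid.exponent A ∣ p :=
      Monoid.exponent_dvd_of_forall_pow_eq_one fun a => Subtype.ext (by simpa using hAe.2 a a.2)
    rw [h1] at h2
    exact absurd (Nat.le_of_dvd hp.out.pos h2) (not_le.mpr (lt_self_pow₀ hp.out.one_lt one_lt_two))
  have hNA : Subgroup.normalizer (A : Set G) ≤ M :=
    (hI.nilpotent M hM E₀ hE₀).2.2.1 p A hpσ (isPGroup_of_elemAb hAe) hAM hAnc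
  have hEM : E ≤ M ⊓ L :=
    le_inf ((hI.tauTwoCompl L hL E hE p hτ A ⟨hAE, hAe, hA2'⟩).1.1.trans hNA) hE.1
  have hbot : Cfsg.sigmaCore L ⊓ M = ⊥ := hinf M hM (Ne.symm hLM) hAM
  have hEeq : E = M ⊓ L := by
    refine le_antisymm hEM fun l hl => ?_
    obtain ⟨a, ha, b, hb, rfl⟩ := hE.2.2.2 l hl.2
    have hbM : b ∈ M := by
      simpa using mul_mem (M.inv_mem (Subgroup.mem_inf.mp (hEM ha)).1) (Subgroup.mem_inf.mp hl).1
    have hb1 : b ∈ Cfsg.sigmaCore L ⊓ M := ⟨hb, hbM⟩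
    rw [hbot, Subgroup.mem_bot] at hb1
    rw [hb1, mul_one]
    exact ha
  exact ⟨hτ, hnil, hEeq ▸ hE⟩

omit [Finite G] in
/-- The centralizer in `L = (M ⊓ L) L_σ` of an element of `M ⊓ L`. -/
theorem centralizer_decomp {L : Subgroup G} (hc : Cfsg.IsComplIn (M ⊓ L) (Cfsg.sigmaCore L) L)
    {x c : G} (hx : x ∈ M ⊓ L) (hcL : c ∈ L) (hc' : c * x * c⁻¹ ∈ M) :
    ∃ a ∈ M ⊓ L, ∃ b ∈ Cfsg.sigmaCore L, c = a * b ∧ b * x = x * b := by
  obtain ⟨a, ha, b, hb, rfl⟩ := hc.2.2.2 c hcL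
  refine ⟨a, ha, b, hb, rfl, ?_⟩
  have h1 : b * x * b⁻¹ * x⁻¹ ∈ Cfsg.sigmaCore L := by
    have h := (Subgroup.mem_normalizer_iff.mp (piCoreOf_normal (Cfsg.sigma L) L hx.2) b⁻¹).mp (inv_mem hb)
    have h2 := mul_mem hb h
    simpa [mul_assoc] using h2
  have h2 : b * x * b⁻¹ * x⁻¹ ∈ M := by
    have h := mul_mem (mul_mem (M.inv_mem ha.1) hc') ha.1
    have h3 : b * x * b⁻¹ ∈ M := by simpa [mul_assoc] using h
    exact mul_mem h3 (inv_mem hx.1)
  have h3 : b * x * b⁻¹ * x⁻¹ = 1 := by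
    have h4 : b * x * b⁻¹ * x⁻¹ ∈ (M ⊓ L) ⊓ Cfsg.sigmaCore L :=
      ⟨⟨h2, piCoreOf_le _ _ h1⟩, h1⟩
    rwa [hc.2.2.1, Subgroup.mem_bot] at h4
  calc b * x = b * x * b⁻¹ * x⁻¹ * (x * b) := by group
    _ = x * b := by rw [h3, one_mul]

include hG in
/-- Conjugation into `M` of an element with a prime of `σ(M)` is done by `M C_G(x)`. -/
theorem exists_mul_centralizer (hI : Local G) (hM : IsCoatom M) {x : G} (hxM : x ∈ M) {p : ℕ}
    (hp : p.Prime) (hpσ : p ∈ Cfsg.sigma M) (hd : p ∣ orderOf x) {g : G} (hg : g * x * g⁻¹ ∈ M) :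
    ∃ m ∈ M, ∃ c ∈ Subgroup.centralizer ({x} : Set G), g = m * c := by
  have := Fact.mk hp
  obtain ⟨y, hy, hyo⟩ := exists_mem_zpowers_prime hp hd
  have hYc : Nat.card (Subgroup.zpowers y) = p := by rw [Nat.card_zpowers, hyo]
  have hYp : IsPGroup p (Subgroup.zpowers y) := IsPGroup.of_card (n := 1) (by rw [hYc, pow_one])
  have hY1 : Subgroup.zpowers y ≠ ⊥ := Subgroup.zpowers_ne_bot.mpr fun h => by
    rw [h, orderOf_one] at hyo
    exact hp.ne_one hyo.symm
  have hYx : Subgroup.zpowers y ≤ Subgroup.zpowers x := Subgroup.zpowers_le.mpr hy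
  have hYM : Subgroup.zpowers y ≤ M := hYx.trans (Subgroup.zpowers_le.mpr hxM)
  have hgY : cj g (Subgroup.zpowers y) ≤ M :=
    (cj_mono hYx).trans ((cj_zpowers g x).le.trans (Subgroup.zpowers_le.mpr hg))
  obtain ⟨m, hm, c, hc, rfl⟩ := Sigma10.conjFactor hG hM hpσ hYp hY1 hYM g hgY
  have hcx : c * x * c⁻¹ ∈ M := by
    have h := mul_mem (mul_mem (inv_mem hm) hg) hm
    simpa [mul_assoc] using h
  by_cases hle : Subgroup.normalizer ((Subgroup.zpowers y : Subgroup G) : Set G) ≤ M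
  · exact ⟨m * c, mul_mem hm (hle (Subgroup.centralizer_le_normalizer _ hc)), 1, one_mem _, (mul_one _).symm⟩
  obtain ⟨L, hL, hLle⟩ := exists_isCoatom_ge
    (minSimple_normalizer_ne_top hG hY1 (minSimple_pgroup_ne_top hG hYp))
  have hLM : L ≠ M := fun h => hle (h ▸ hLle)
  obtain ⟨-, -, hcompl⟩ := partner_structure hG hI hM hL hLM hpσ hYc hYM hLle
  have hxL : x ∈ L := hLle (centralizer_zpowers_le_normalizer y
    (centralizer_le_of_mem_zpowers hy (self_mem_centralizer x)))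
  obtain ⟨a, ha, b, -, rfl, hb⟩ := centralizer_decomp hcompl ⟨hxM, hxL⟩
    (hLle (Subgroup.centralizer_le_normalizer _ hc)) hcx
  exact ⟨m * a, mul_mem hm ha.1, b, Subgroup.mem_centralizer_singleton_iff.mpr hb, (mul_assoc _ _ _).symm⟩

end CfsgLib.OddOrder38
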