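import Mathlib
import Cfsg.Agent.Lib.OddOrder38.Partner14

/-!
# BG 14.2, 14.4: recognising `κ(M)` and the uniqueness of the maximal subgroup over `C_G(x)`
-/

set_option autoImplicit false

namespace CfsgLib.OddOrder38

open Subgroup CfsgLib.OddOrder CfsgLib.OddOrder.Transitivity CfsgLib.OddOrder41

universe u

variable {G : Type u} [Group G] [Finite G] (hG : Cfsg.IsMinSimpleOddOrder G)

include hG in
theorem pRankLE_two_of_not_sigma {M : Subgroup G} (hM : IsCoatom M) {p : ℕ} (hp : p.Prime)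
    (hpσ : p ∉ Cfsg.sigma M) : Cfsg.PRankLE p 2 M := by
  by_contra h
  exact Sigma10.not_mem_alpha_of_not_mem_sigma hG hM hpσ ⟨hp, h⟩

include hG in
/-- Membership in `τ₂(M) ∪` (rank one). -/
theorem tau2_or_rank_one {M : Subgroup G} (hM : IsCoatom M) {p : ℕ} (hp : p.Prime)
    (hpσ : p ∉ Cfsg.sigma M) : p ∈ Cfsg.tau2 M ∨ Cfsg.PRankLE p 1 M := by
  by_cases h : Cfsg.PRankLE p 1 M
  · exact Or.inr h
  · exact Or.inl ⟨hp, hpσ, pRankLE_two_of_not_sigma hG hM hp hpσ, h⟩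

include hG in
/-- A rank one prime outside `σ(M)` with a non-trivial centralizer in `M_σ` is in `κ(M)`. -/
theorem mem_kappa {M : Subgroup G} (hM : IsCoatom M) {p : ℕ} [hp : Fact p.Prime]
    (hpσ : p ∉ Cfsg.sigma M) (hr : Cfsg.PRankLE p 1 M) {x y : G} (hx : x ∈ M) (hxo : orderOf x = p)
    (hy : y ∈ Cfsg.sigmaCore M) (hy1 : y ≠ 1) (hxy : x * y = y * x) : p ∈ Cfsg.kappa M := by
  have hd : p ∣ Nat.card M := hxo ▸ Subgroup.orderOf_dvd_natCard _ hx
  have hp2 : p ≠ 2 := fun h => by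
    subst h
    exact (Nat.not_even_iff_odd.mpr (minSimple_odd hG M)) (even_iff_two_dvd.mpr hd)
  refine ⟨hp.out, hd, hpσ, fun P => ⟨Isolated.isCyclic_of_small_abelian hp2 P.isPGroup' fun A hA hAe => by
    simpa using pRankLE_iff.mp (PRankLE.subgroup _ hr) A ⟨hA, hAe⟩, ?_⟩⟩
  obtain ⟨m, hm, hle⟩ := Sigma10.exists_conj_le (sylowOf_map P) (Subgroup.zpowers_le.mpr hx)
    (IsPGroup.of_card (n := 1) (by rw [Nat.card_zpowers, hxo, pow_one]))
  obtain ⟨x', hx', hxe⟩ := hle (Subgroup.mem_map_of_mem _ (Subgroup.mem_zpowers x))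
  have hxe' : (x' : G) = m * x * m⁻¹ := hxe
  refine ⟨x', hx', fun h => ?_, m * y * m⁻¹, ?_, fun h => hy1 (by simpa using h), ?_⟩
  · rw [h, OneMemClass.coe_one] at hxe'
    have hx1 : x = 1 := by simpa using hxe'.symm
    rw [hx1, orderOf_one] at hxo
    exact hp.out.ne_one hxo.symm
  · exact (Subgroup.mem_normalizer_iff.mp (piCoreOf_normal (Cfsg.sigma M) M hm) y).mp hy
  · rw [hxe']
    calc m * x * m⁻¹ * (m * y * m⁻¹) = m * (x * y) * m⁻¹ := by group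
      _ = m * (y * x) * m⁻¹ := by rw [hxy]
      _ = m * y * m⁻¹ * (m * x * m⁻¹) := by group

variable (hI : Inputs G)

include hG hI in
/-- A `κ(M)`-subgroup lies in a Hall `κ(M)`-subgroup. -/
theorem exists_hall_kappa_ge {M X : Subgroup G} (hM : IsCoatom M) (hXM : X ≤ M)
    (hX : PiNat (Cfsg.kappa M) (Nat.card X)) :
    ∃ K : Subgroup G, Cfsg.IsPiHallOf (Cfsg.kappa M) K M ∧ X ≤ K := by
  obtain ⟨K, hK⟩ := hI.kappaExists M hM
  have := minSimple_solvable hG hM.1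
  obtain ⟨g, hg, hle⟩ := OddOrder41.exists_conj_into hK.1 (fun r hr hrκ => hK.2.2 r hr hrκ) hXM hX
  refine ⟨cj g⁻¹ K, ⟨(cj_mono hK.1).trans (cj_eq_of_mem (M.inv_mem hg)).le, fun p hp hd => ?_,
    fun p hp hpκ hd => hK.2.2 p hp hpκ ?_⟩, cj_le_iff.mp hle⟩
  · exact hK.2.1 p hp (by rwa [card_cj] at hd)
  · have e1 := card_mul_relIndex_of_le ((cj_mono hK.1).trans (cj_eq_of_mem (M.inv_mem hg)).le)
    have e2 := card_mul_relIndex_of_le hK.1
    rw [card_cj] at e1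
    rwa [Nat.eq_of_mul_eq_mul_left Nat.card_pos (e1.trans e2.symm)] at hd

include hG hI in
/-- BG 14.2: `X ≤ M*_σ` for `X` of order `q ∈ κ(M)` and `M* ⊇ N_G(X)`. -/
theorem mem_sigma_of_kappa {M X Mstar : Subgroup G} (hM : IsCoatom M) {q : ℕ}
    (hq : q ∈ Cfsg.kappa M) (hX : Nat.card X = q) (hXM : X ≤ M) (hMs : IsCoatom Mstar)
    (hle : Subgroup.normalizer (X : Set G) ≤ Mstar) :
    q ∈ Cfsg.sigma Mstar ∧ X ≤ Cfsg.sigmaCore Mstar := by
  obtain ⟨K, hK, hXK⟩ := exists_hall_kappa_ge hG hI hM hXM fun r hr hd => by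
    rw [hX] at hd
    rwa [(Nat.prime_dvd_prime_iff_eq hr hq.1).mp hd]
  have hK1 : K ≠ ⊥ := fun h => hq.1.ne_one (by
    rw [h] at hXK
    rw [← hX, le_bot_iff.mp hXK, Subgroup.card_bot])
  have h := ((hI.kappaHall M hM K hK hK1).2.2 X hXK (hX.symm ▸ hq.1)).2.2 Mstar hMs hle
  exact ⟨piNat_card_piCoreOf (Cfsg.sigma Mstar) Mstar q hq.1 (hX ▸ Subgroup.card_dvd_of_le h), h⟩

include hG hI in
/-- **BG 14.4**: the maximal subgroup over `C_G(x)`. -/
theorem centralizer_partner {M : Subgroup G} (hM : IsCoatom M) {x : G}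
    (hx : x ∈ Cfsg.sigmaCore M) (hx1 : x ≠ 1) (hxM : ¬ Subgroup.centralizer ({x} : Set G) ≤ M) :
    ∃ L : Subgroup G, IsCoatom L ∧ OnlyIn (Subgroup.centralizer ({x} : Set G)) L ∧ L ≠ M ∧
      Group.IsNilpotent (Cfsg.sigmaCore L) ∧ Cfsg.IsComplIn (M ⊓ L) (Cfsg.sigmaCore L) L ∧
      ∀ p : ℕ, p.Prime → p ∣ orderOf x → p ∈ Cfsg.tau2 L := by
  have hxM' : x ∈ M := sigmaCore_le M hx
  have main : ∀ p : ℕ, p.Prime → p ∣ orderOf x → ∃ L y, IsCoatom L ∧ L ≠ M ∧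
      Subgroup.centralizer ({x} : Set G) ≤ L ∧ p ∈ Cfsg.tau2 L ∧
      Group.IsNilpotent (Cfsg.sigmaCore L) ∧ Cfsg.IsComplIn (M ⊓ L) (Cfsg.sigmaCore L) L ∧
      y ∈ Subgroup.zpowers x ∧ orderOf y = p ∧
      Subgroup.normalizer ((Subgroup.zpowers y : Subgroup G) : Set G) ≤ L := by
    intro p hp hd
    have := Fact.mk hp
    obtain ⟨y, hy, hyo⟩ := exists_mem_zpowers_prime hp hd
    have hYc : Nat.card (Subgroup.zpowers y) = p := by rw [Nat.card_zpowers, hyo]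
    have hY1 : Subgroup.zpowers y ≠ ⊥ := Subgroup.zpowers_ne_bot.mpr fun h => by
      rw [h, orderOf_one] at hyo
      exact hp.ne_one hyo.symm
    obtain ⟨L, hL, hle⟩ := exists_isCoatom_ge (minSimple_normalizer_ne_top hG hY1
      (minSimple_pgroup_ne_top hG (IsPGroup.of_card (n := 1) (by rw [hYc, pow_one]))))
    have hCL : Subgroup.centralizer ({x} : Set G) ≤ L :=
      ((centralizer_le_of_mem_zpowers hy).trans (centralizer_zpowers_le_normalizer y)).trans hle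
    have hLM : L ≠ M := fun h => hxM (h ▸ hCL)
    obtain ⟨hτ, hnil, hc⟩ := partner_structure hG hI.toLocal hM hL hLM
      (mem_sigma_of_mem_sigmaCore hx hp hd) hYc
      ((Subgroup.zpowers_le.mpr hy).trans (Subgroup.zpowers_le.mpr hxM')) hle
    exact ⟨L, y, hL, hLM, hCL, hτ, hnil, hc, hy, hyo, hle⟩
  obtain ⟨p, hp, hd⟩ := Nat.exists_prime_and_dvd (n := orderOf x)
    (fun h => hx1 (orderOf_eq_one_iff.mp h))
  obtain ⟨L, y, hL, hLM, hCL, hτ, hnil, hc, hy, hyo, hle⟩ := main p hp hd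
  have hxL : x ∈ L := hCL (self_mem_centralizer x)
  -- a non-trivial element of `C_{L_σ}(x)`
  obtain ⟨c, hcx, hcM⟩ := SetLike.not_le_iff_exists.mp hxM
  obtain ⟨a, ha, b, hb, rfl, hbx⟩ := centralizer_decomp hc ⟨hxM', hxL⟩ (hCL hcx) (by
    rwa [Subgroup.mem_centralizer_singleton_iff.mp hcx, mul_inv_cancel_right])
  have hb1 : b ≠ 1 := fun h => hcM (by rw [h, mul_one]; exact ha.1)
  have hall : ∀ q : ℕ, q.Prime → q ∣ orderOf x → q ∈ Cfsg.tau2 L := by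
    intro q hq hqd
    have := Fact.mk hq
    obtain ⟨L', z, hL', -, -, hτ', -, -, hz, hzo, hle'⟩ := main q hq hqd
    have hzm : z ∈ M ⊓ L := (Subgroup.zpowers_le.mpr (⟨hxM', hxL⟩ : x ∈ M ⊓ L)) hz
    have hzσ : q ∉ Cfsg.sigma L :=
      not_mem_sigma_of_compl hG hL hc hq (hzo ▸ Subgroup.orderOf_dvd_natCard _ hzm)
    refine (tau2_or_rank_one hG hL hq hzσ).resolve_right fun hr => ?_
    have hzb : z * b = b * z := (Subgroup.mem_centralizer_singleton_iff.mp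
      (centralizer_le_of_mem_zpowers hz (Subgroup.mem_centralizer_singleton_iff.mpr hbx))).symm
    have hκ := mem_kappa hG hL hzσ hr hzm.2 hzo hb hb1 hzb
    exact hτ'.2.1 (mem_sigma_of_kappa hG hI hL hκ (by rw [Nat.card_zpowers, hzo])
      (Subgroup.zpowers_le.mpr hzm.2) hL' hle').1
  obtain ⟨E, hE⟩ := exists_compl hG hL
  exact ⟨L, hL, (hI.nilpotent L hL E hE).2.2.2 x hxL hx1 hall ⟨hxL, b, hb, hb1, hbx.symm⟩,
    hLM, hnil, hc, hall⟩

include hG in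
/-- The support subgroup `R(x)`. -/
theorem supportR_eq {M L : Subgroup G} {x : G} (hL : IsCoatom L)
    (hxM : ¬ Subgroup.centralizer ({x} : Set G) ≤ M)
    (honly : OnlyIn (Subgroup.centralizer ({x} : Set G)) L)
    (hnil : Group.IsNilpotent (Cfsg.sigmaCore L)) :
    Cfsg.supportR M x = Cfsg.sigmaCore L ⊓ Subgroup.centralizer ({x} : Set G) := by
  have he : ∃! N : Subgroup G, IsCoatom N ∧ Subgroup.centralizer ({x} : Set G) ≤ N :=
    ⟨L, ⟨hL, honly.1⟩, fun N hN => honly.2 N hN.1 hN.2⟩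
  rw [Cfsg.supportR, dif_pos ⟨hxM, he⟩]
  have h := Classical.choose_spec he.exists
  rw [honly.2 _ h.1 h.2, fittingHallOf_eq_sigmaCore hG hL hnil (fun p hp => hp.2.2.2)]

end CfsgLib.OddOrder38
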