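import Mathlib
import Cfsg.Agent.Lib.OddOrder38.Kappa14
import Cfsg.Agent.Lib.OddOrder.PuigSeries
import Cfsg.Agent.Lib.OddOrder.Sigma11Aux

/-!
# BG 12.8: `τ₂(M)` lies in one `σ(L)`, and `τ₂` precedes `σ` in size

If `q ∈ τ₂(M)` and `r ∈ σ(M)` has a maximal elementary abelian subgroup of order `r ^ 2` in `G`,
then `q < r`.
-/

set_option autoImplicit false

namespace CfsgLib.OddOrder38

open Subgroup CfsgLib.OddOrder CfsgLib.OddOrder.Transitivity CfsgLib.OddOrder41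

universe u

variable {G : Type u} [Group G] [Finite G] (hG : Cfsg.IsMinSimpleOddOrder G)

/-- A maximal elementary abelian subgroup of order `r ^ 2`. -/
def HasMaxPlane (G : Type u) [Group G] (r : ℕ) : Prop :=
  ∃ B : Subgroup G, Cfsg.IsElementaryAbelian r B ∧ Nat.card B = r ^ 2 ∧
    ∀ C : Subgroup G, Cfsg.IsElementaryAbelian r C → B ≤ C → C = B

include hG in
theorem hasMaxPlane_of_tau2 {N : Subgroup G} (hN : IsCoatom N) {r : ℕ} (hr : r ∈ Cfsg.tau2 N) :
    HasMaxPlane G r := by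
  have := Fact.mk hr.1
  obtain ⟨B, hBN, hBe, hB2⟩ := not_pRankLE_subgroup_iff.mp hr.2.2.2
  exact ⟨B, hBe, hB2, fun C hC hle => Sigma10.elemAb_sq_maximal hG hN hr.2.1 hBN hBe hB2 hC hle⟩

include hG in
theorem exists_plane_compl {M E : Subgroup G} (hM : IsCoatom M)
    (hE : Cfsg.IsComplIn E (Cfsg.sigmaCore M) M) {p : ℕ} (hp : p ∈ Cfsg.tau2 M) :
    ∃ A : Subgroup G, A ≤ E ∧ Cfsg.IsElementaryAbelian p A ∧ Nat.card A = p ^ 2 := by
  have := Fact.mk hp.1
  obtain ⟨A, hAM, hAe, hA2⟩ := not_pRankLE_subgroup_iff.mp hp.2.2.2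
  have := minSimple_solvable hG hM.1
  obtain ⟨g, -, hle⟩ := OddOrder41.exists_conj_into (π := (Cfsg.sigma M)ᶜ) hE.1 (fun r hr hrσ hd => by
    rw [IsComplIn.relIndex_left hE] at hd
    exact hrσ (piNat_card_piCoreOf (Cfsg.sigma M) M r hr hd)) hAM (fun r hr hd => by
    rw [hA2] at hd
    rw [(Nat.prime_dvd_prime_iff_eq hr hp.1).mp (hr.dvd_of_dvd_pow hd)]
    exact hp.2.1)
  exact ⟨cj g A, hle, elemAb_map hAe _, by rw [card_cj]; exact hA2⟩

include hG in
/-- The planes of two `τ₂`-primes in one complement commute, and the first determines the second. -/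
theorem normalizer_plane_le (hI : Local G) {M E : Subgroup G} (hM : IsCoatom M)
    (hE : Cfsg.IsComplIn E (Cfsg.sigmaCore M) M) {p q : ℕ} (hp : p ∈ Cfsg.tau2 M)
    (hq : q ∈ Cfsg.tau2 M) (hpq : p ≠ q) {A B : Subgroup G} (hAE : A ≤ E)
    (hAe : Cfsg.IsElementaryAbelian p A) (hA2 : Nat.card A = p ^ 2) (hBE : B ≤ E)
    (hBe : Cfsg.IsElementaryAbelian q B) (hB2 : Nat.card B = q ^ 2) :
    Subgroup.normalizer (A : Set G) ≤ Subgroup.normalizer (B : Set G) := by
  have := Fact.mk hp.1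
  have := Fact.mk hq.1
  obtain ⟨⟨hAn, -⟩, ⟨hC, hCE, -⟩, -⟩ := hI.tauTwoCompl M hM E hE p hp A ⟨hAE, hAe, hA2⟩
  obtain ⟨⟨hBn, hBall⟩, -, -⟩ := hI.tauTwoCompl M hM E hE q hq B ⟨hBE, hBe, hB2⟩
  have hdisj : A ⊓ B = ⊥ := Subgroup.inf_eq_bot_of_coprime (by
    rw [hA2, hB2]
    exact Nat.Coprime.pow 2 2 ((Nat.coprime_primes hp.1 hq.1).mpr hpq))
  have hBC : B ≤ Subgroup.centralizer (A : Set G) := fun b hb =>
    Subgroup.mem_centralizer_iff.mpr fun a ha =>
      (Subgroup.mem_centralizer_iff.mp (commute_of_normalizes (hBE.trans hAn) (hAE.trans hBn)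
        (fun x hxB hxA => Subgroup.mem_bot.mp (hdisj.le ⟨hxA, hxB⟩)) hb) a ha)
  refine fun n hn => CfsgLib.Coprime.mem_normalizer_of_forall_conj (H := B) fun b hb => ?_
  by_cases hb1 : b = 1
  · simp [hb1]
  have h1 : n * b * n⁻¹ ∈ E := by
    have hbC : n * b * n⁻¹ ∈ Subgroup.centralizer (A : Set G) := by
      rw [Subgroup.mem_centralizer_iff]
      intro a ha
      have h2 := Subgroup.mem_centralizer_iff.mp (hBC hb) _
        ((Subgroup.mem_normalizer_iff''.mp hn a).mp ha)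
      calc a * (n * b * n⁻¹) = n * ((n⁻¹ * a * n) * b) * n⁻¹ := by group
        _ = n * (b * (n⁻¹ * a * n)) * n⁻¹ := by rw [h2]
        _ = n * b * n⁻¹ * a := by group
    exact hCE ▸ hC hbC
  have hord : orderOf (n * b * n⁻¹) = q := by
    rw [show n * b * n⁻¹ = MulAut.conj n b from rfl, MulEquiv.orderOf_eq]
    exact orderOf_eq_prime (hBe.2 b hb) hb1
  exact Subgroup.zpowers_le.mp
    (hBall _ (Subgroup.zpowers_le.mpr h1) (by rw [Nat.card_zpowers, hord]))

include hG in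
/-- The normalizer of a Sylow subgroup of `G` containing a plane of `τ₂`-elements. -/
theorem mem_sigma_of_plane {M L : Subgroup G} (hM : IsCoatom M) {p : ℕ} [hp : Fact p.Prime]
    (hτ : p ∈ Cfsg.tau2 M) (hS : ∀ S : Sylow p G, IsMulCommutative (S : Subgroup G))
    {A : Subgroup G} (hAM : A ≤ M) (hAe : Cfsg.IsElementaryAbelian p A) (hA2 : Nat.card A = p ^ 2)
    (hle : Subgroup.normalizer (A : Set G) ≤ L) : p ∈ Cfsg.sigma L := by
  obtain ⟨S, hAS⟩ := (isPGroup_of_elemAb hAe).exists_le_sylow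
  have hpα : p ∉ Cfsg.alpha M := Sigma10.not_mem_alpha_of_not_mem_sigma hG hM hτ.2.1
  have homega := Sigma11.omega_eq hG hM hpα hAM hAe hA2
  have hSC : (S : Subgroup G) ≤ Subgroup.centralizer (A : Set G) := fun s hs =>
    Subgroup.mem_centralizer_iff.mpr fun a ha => mul_comm_of_mem (hS S) (hAS ha) hs
  refine mem_sigma_of_sylow_normalizer_le ?_ S
    (fun n hn => hle (CfsgLib.Coprime.mem_normalizer_of_forall_conj (H := A) fun a ha => ?_))
  · exact (dvd_pow_self p two_ne_zero).trans (hA2 ▸ Subgroup.card_subgroup_dvd_card A)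
  · have h1 := (Subgroup.mem_normalizer_iff.mp hn a).mp (hAS ha)
    refine (homega _ (hSC h1)).mp ?_
    rw [conj_pow, hAe.2 a ha, mul_one, mul_inv_cancel]

include hG in
/-- **BG 12.8**: a single `σ`-set contains `τ₂(M)`. -/
theorem tau2_subset_sigma (hI : Local G) {M : Subgroup G} (hM : IsCoatom M)
    (hne : (Cfsg.tau2 M).Nonempty) :
    ∃ L : Subgroup G, IsCoatom L ∧ Cfsg.tau2 M ⊆ Cfsg.sigma L := by
  obtain ⟨E, hE⟩ := exists_compl hG hM
  by_cases hab : ∀ p ∈ Cfsg.tau2 M, ∀ S : Sylow p G, IsMulCommutative (S : Subgroup G)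
  · obtain ⟨p, hp⟩ := hne
    have := Fact.mk hp.1
    obtain ⟨A, hAE, hAe, hA2⟩ := exists_plane_compl hG hM hE hp
    obtain ⟨L, hL, hle⟩ := exists_isCoatom_ge (minSimple_normalizer_ne_top hG (H := A) (fun h => by
      rw [h, Subgroup.card_bot] at hA2
      exact absurd hA2.symm (Nat.one_lt_pow two_ne_zero hp.1.one_lt).ne')
      (minSimple_pgroup_ne_top hG (isPGroup_of_elemAb hAe)))
    refine ⟨L, hL, fun q hq => ?_⟩
    have := Fact.mk hq.1
    by_cases hqp : q = p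
    · subst hqp
      exact mem_sigma_of_plane hG hM hq (hab q hq) (hAE.trans hE.1) hAe hA2 hle
    obtain ⟨B, hBE, hBe, hB2⟩ := exists_plane_compl hG hM hE hq
    exact mem_sigma_of_plane hG hM hq (hab q hq) (hBE.trans hE.1) hBe hB2
      ((normalizer_plane_le hG hI hM hE hq hp hqp hBE hBe hB2 hAE hAe hA2).trans hle)
  · push_neg at hab
    obtain ⟨p, hp, S, hS⟩ := hab
    have := Fact.mk hp.1
    obtain ⟨A, hAE, hAe, hA2⟩ := exists_plane_compl hG hM hE hp
    have hall : ∀ T : Sylow p G, ¬ IsMulCommutative (T : Subgroup G) := fun T hT => hS (by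
      have := hT
      obtain ⟨e⟩ : Nonempty ((S : Subgroup G) ≃* (T : Subgroup G)) := ⟨S.equiv T⟩
      exact ⟨⟨fun a b => e.injective (by rw [map_mul, map_mul]; exact this.is_comm.comm _ _)⟩⟩)
    obtain ⟨hτ, -, -⟩ := hI.nonabelian M hM E hE p hp hall A ⟨hAE, hAe, hA2⟩
    obtain ⟨L, hL, hpL⟩ := exists_isCoatom_mem_sigma hG (p := p) hp.1
      ((dvd_pow_self p two_ne_zero).trans (hA2 ▸ Subgroup.card_subgroup_dvd_card A))
    exact ⟨L, hL, hτ ▸ Set.singleton_subset_iff.mpr hpL⟩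

theorem prime_lt_of_dvd {q r : ℕ} (hq : q.Prime) (hr : r.Prime) (hq2 : q ≠ 2) (hr2 : r ≠ 2)
    (h : q ∣ (r - 1) * (r + 1)) : q < r := by
  have hr3 : 3 ≤ r := by have := hr.two_le; omega
  rcases hq.dvd_mul.mp h with h | h
  · exact lt_of_le_of_lt (Nat.le_of_dvd (by omega) h) (by omega)
  · obtain ⟨c, hc⟩ := h
    have hodd : Odd r := hr.odd_of_ne_two hr2
    have hqodd : Odd q := hq.odd_of_ne_two hq2
    have hc2 : 2 ≤ c := by
      rcases c with _ | _ | c
      · omega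
      · exact absurd (show Odd (r + 1) by rw [hc]; simpa using hqodd)
          (Nat.not_odd_iff_even.mpr hodd.add_one)
      · omega
    have : q * 2 ≤ r + 1 := hc ▸ Nat.mul_le_mul_left q hc2
    omega

/-- A `q`-element acting on a group of order `r` or `r ^ 2`. -/
theorem prime_lt_of_action {q r : ℕ} [hq : Fact q.Prime] [hr : Fact r.Prime] (hq2 : q ≠ 2)
    (hr2 : r ≠ 2) (hqr : q ≠ r) {V : Subgroup G} {n : ℕ} (hn : n ≤ 2) (hV : Nat.card V = r ^ n)
    {a : G} (haq : a ^ q = 1) (haV : a ∈ Subgroup.normalizer (V : Set G))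
    (hne : ¬ V ≤ Subgroup.centralizer ({a} : Set G)) : q < r := by
  set Q := Subgroup.zpowers a with hQ
  have hQV : ∀ (c : Q) (v : V), (c : G) * v * (c : G)⁻¹ ∈ V := fun c v =>
    (Subgroup.mem_normalizer_iff.mp (Subgroup.zpowers_le.mpr haV c.2) v).mp v.2
  let act : MulAction Q V :=
    { smul := fun c v => ⟨(c : G) * v * (c : G)⁻¹, hQV c v⟩
      one_smul := fun v => Subtype.ext (by
        show ((1 : Q) : G) * v * ((1 : Q) : G)⁻¹ = v
        simp)
      mul_smul := fun c d v => Subtype.ext (by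
        show ((c * d : Q) : G) * v * ((c * d : Q) : G)⁻¹ =
          (c : G) * ((d : G) * v * (d : G)⁻¹) * (c : G)⁻¹
        rw [Subgroup.coe_mul]; group) }
  have hQp : IsPGroup q Q := isPGroup_of_elemAb (elemAb_zpowers haq)
  have hmod := hQp.card_modEq_card_fixedPoints V
  have hfix : Nat.card (MulAction.fixedPoints Q V) =
      Nat.card ↥(V ⊓ Subgroup.centralizer ({a} : Set G)) := by
    refine Nat.card_congr ⟨fun v => ⟨v.1.1, v.1.2, ?_⟩, fun v => ⟨⟨v.1, v.2.1⟩, ?_⟩,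
      fun _ => rfl, fun _ => rfl⟩
    · refine Subgroup.mem_centralizer_singleton_iff.mpr ?_
      have h := congrArg Subtype.val (v.2 ⟨a, Subgroup.mem_zpowers a⟩)
      exact mul_inv_eq_iff_eq_mul.mp h |>.symm
    · intro c
      refine Subtype.ext (mul_inv_eq_iff_eq_mul.mpr ?_)
      obtain ⟨i, hi⟩ := c.2
      have h : Commute a (v : G) := (Subgroup.mem_centralizer_singleton_iff.mp v.2.2).symm
      rw [← hi]
      exact (h.zpow_left i).eq
  rw [hV, hfix] at hmod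
  have hlt : Nat.card ↥(V ⊓ Subgroup.centralizer ({a} : Set G)) < r ^ n := by
    rw [← hV]
    refine lt_of_le_of_ne (Subgroup.card_le_of_le inf_le_left) fun h => hne ?_
    exact (Subgroup.eq_of_le_of_card_ge inf_le_left h.ge).symm.le.trans inf_le_right
  obtain ⟨k, hk, hke⟩ := (Nat.dvd_prime_pow hr.out).mp
    (hV ▸ Subgroup.card_dvd_of_le (inf_le_left : V ⊓ Subgroup.centralizer ({a} : Set G) ≤ V))
  rw [hke] at hmod hlt
  have hkn : k < n := (Nat.pow_lt_pow_iff_right hr.out.one_lt).mp hlt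
  have hd : q ∣ r ^ k * (r ^ (n - k) - 1) := by
    rw [Nat.mul_sub, mul_one, ← pow_add, Nat.add_sub_cancel' hkn.le]
    exact (Nat.modEq_iff_dvd' hlt.le).mp hmod.symm
  have hd' : q ∣ r ^ (n - k) - 1 := ((hq.out.dvd_mul).mp hd).resolve_left fun h =>
    hqr ((Nat.prime_dvd_prime_iff_eq hq.out hr.out).mp (hq.out.dvd_of_dvd_pow h))
  refine prime_lt_of_dvd hq.out hr.out hq2 hr2 ?_
  have : n - k = 1 ∨ n - k = 2 := by omega
  rcases this with h | h <;> rw [h] at hd'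
  · rw [pow_one] at hd'; exact hd'.mul_right _
  · rwa [show r ^ 2 - 1 = (r - 1) * (r + 1) by
      rw [mul_comm, ← Nat.sq_sub_sq, one_pow]] at hd'

include hG in
/-- A non-trivial `M`-invariant subgroup of order at most `r ^ 2` of a nilpotent `M_σ`. -/
theorem exists_small_layer {M : Subgroup G} (hM : IsCoatom M) {r : ℕ} [hr' : Fact r.Prime]
    (hr : r ∈ Cfsg.sigma M) (hnil : Group.IsNilpotent (Cfsg.sigmaCore M)) (hB : HasMaxPlane G r) :
    ∃ V : Subgroup G, V ≤ Cfsg.sigmaCore M ∧ V ≠ ⊥ ∧ M ≤ Subgroup.normalizer (V : Set G) ∧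
      Nat.card V ∣ r ^ 2 := by
  set S := Cfsg.sigmaCore M with hS
  have hSn : M ≤ Subgroup.normalizer (S : Set G) := piCoreOf_normal _ _
  obtain ⟨B, hBe, hB2, hBmax⟩ := hB
  -- a conjugate of the plane inside `M_σ`
  obtain ⟨T⟩ : Nonempty (Sylow r M) := inferInstance
  obtain ⟨P, hP⟩ := Sigma10.exists_sylow_of_mem_sigma hr (sylowOf_map T)
  have hPS : (P : Subgroup G) ≤ S := hP ▸ le_sigmaCore hG hM (Subgroup.map_subtype_le _)
    (fun t ht htd => by
      obtain ⟨n, hn⟩ := (T.isPGroup'.map M.subtype).exists_card_eq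
      rw [hn] at htd
      rwa [(Nat.prime_dvd_prime_iff_eq ht hr.1).mp (ht.dvd_of_dvd_pow htd)])
  obtain ⟨P', hBP'⟩ := (isPGroup_of_elemAb hBe).exists_le_sylow
  obtain ⟨g, hg⟩ := MulAction.exists_smul_eq G P' P
  set B' := cj g B with hB'
  have hB'S : B' ≤ S := by
    refine le_trans ?_ hPS
    rw [← hg, Sylow.coe_subgroup_smul]
    exact cj_mono hBP'
  have hB'max : ∀ C : Subgroup G, Cfsg.IsElementaryAbelian r C → B' ≤ C → C = B' := fun C hC hle => by
    rw [← cj_cancel' g C, hBmax (cj g⁻¹ C) (elemAb_map hC _)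
      ((cj_cancel g B).ge.trans (cj_mono hle))]
  have hB'2 : Nat.card B' = r ^ 2 := by rw [hB', card_cj, hB2]
  have hB'e : Cfsg.IsElementaryAbelian r B' := elemAb_map hBe _
  -- `Ω₁(Z(M_σ))`
  let V : Subgroup G :=
    { carrier := {v | v ∈ S ∧ v ∈ Subgroup.centralizer (S : Set G) ∧ v ^ r = 1}
      one_mem' := ⟨one_mem _, one_mem _, one_pow _⟩
      mul_mem' := fun {u v} hu hv => ⟨mul_mem hu.1 hv.1, mul_mem hu.2.1 hv.2.1, by
        rw [(show Commute u v from (Subgroup.mem_centralizer_iff.mp hu.2.1 v hv.1).symm).mul_pow,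
          hu.2.2, hv.2.2, one_mul]⟩
      inv_mem' := fun {u} hu => ⟨inv_mem hu.1, inv_mem hu.2.1, by rw [inv_pow, hu.2.2, inv_one]⟩ }
  have hVB : V ≤ B' := fun v hv => by
    have h1 : v ∈ Subgroup.centralizer (B' : Set G) :=
      Subgroup.centralizer_le (fun _ hx => hB'S hx) hv.2.1
    have h := hB'max _ (elemAb_sup_zpowers hB'e hv.2.2 h1) le_sup_left
    exact h.le (Subgroup.mem_sup_right (Subgroup.mem_zpowers v))
  have hV1 : ∃ v ∈ V, v ≠ 1 := by
    have := hnil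
    have hPd : r ∣ Nat.card S :=
      ((P.dvd_card_of_dvd_card (hr.2.1.trans (Subgroup.card_subgroup_dvd_card M))).trans
        (Subgroup.card_dvd_of_le hPS))
    obtain ⟨T'⟩ : Nonempty (Sylow r S) := inferInstance
    have hT'n : (T' : Subgroup S).Normal := inferInstance
    have hT'1 : (T' : Subgroup S) ≠ ⊥ := T'.ne_bot_of_dvd_card hPd
    obtain ⟨n', hn'0, hn'⟩ : ∃ k, 0 < k ∧
        Nat.card ↥((T' : Subgroup S) ⊓ Subgroup.center S) = r ^ k := by
      obtain ⟨k, hk⟩ := (T'.isPGroup'.to_le (inf_le_left : (T' : Subgroup S) ⊓ Subgroup.center S ≤ T')).exists_card_eq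
      refine ⟨k, Nat.pos_of_ne_zero fun h0 => PuigSeries.inf_center_ne_bot (T' : Subgroup S) hT'1 ?_, hk⟩
      exact Subgroup.card_eq_one.mp (by rw [inf_comm, hk, h0, pow_zero])
    obtain ⟨z, hz⟩ := exists_prime_orderOf_dvd_card' (G := Subgroup.center S) r
      ((hn' ▸ dvd_pow_self r hn'0.ne').trans (Subgroup.card_dvd_of_le inf_le_right))
    refine ⟨((z : S) : G), ⟨(z : S).2, ?_, ?_⟩, fun h => hr.1.ne_one ?_⟩
    · rw [Subgroup.mem_centralizer_iff]
      exact fun s hs => congrArg Subtype.val (Subgroup.mem_center_iff.mp z.2 ⟨s, hs⟩)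
    · rw [← Subgroup.coe_pow, ← Subgroup.coe_pow, ← hz, pow_orderOf_eq_one]
      rfl
    · rw [← hz, ← Subgroup.orderOf_coe, ← Subgroup.orderOf_coe, h, orderOf_one]
  obtain ⟨v, hv, hv1⟩ := hV1
  refine ⟨V, fun w hw => hw.1, fun h => hv1 (Subgroup.mem_bot.mp (h ▸ hv)),
    fun m hm => CfsgLib.Coprime.mem_normalizer_of_forall_conj fun w hw => ⟨?_, ?_, ?_⟩,
    hB'2 ▸ Subgroup.card_dvd_of_le hVB⟩
  · exact (Subgroup.mem_normalizer_iff.mp (hSn hm) w).mp hw.1
  · rw [Subgroup.mem_centralizer_iff]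
    intro s hs
    have h2 := Subgroup.mem_centralizer_iff.mp hw.2.1 _
      ((Subgroup.mem_normalizer_iff''.mp (hSn hm) s).mp hs)
    calc s * (m * w * m⁻¹) = m * ((m⁻¹ * s * m) * w) * m⁻¹ := by group
      _ = m * (w * (m⁻¹ * s * m)) * m⁻¹ := by rw [h2]
      _ = m * w * m⁻¹ * s := by group
  · rw [conj_pow, hw.2.2, mul_one, mul_inv_cancel]

include hG in
/-- If `q ∈ τ₂(M)`, `r ∈ σ(M)` and `G` has a maximal plane of exponent `r` then `q < r`. -/
theorem tau2_lt_sigma (hI : Local G) {M : Subgroup G} (hM : IsCoatom M) {q r : ℕ}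
    (hq : q ∈ Cfsg.tau2 M) (hr : r ∈ Cfsg.sigma M) (hB : HasMaxPlane G r) : q < r := by
  have := Fact.mk hq.1
  have := Fact.mk hr.1
  obtain ⟨A, hAM, hAe, hA2⟩ := not_pRankLE_subgroup_iff.mp hq.2.2.2
  obtain ⟨hnil, -, -, hCA, -, -⟩ := hI.tauTwo M hM q hq A ⟨hAM, hAe, hA2⟩
  obtain ⟨V, hVS, hV1, hVn, hVd⟩ := exists_small_layer hG hM hr hnil hB
  obtain ⟨n, hn, hVc⟩ := (Nat.dvd_prime_pow hr.1).mp hVd
  obtain ⟨v, hv, hv1⟩ := (Subgroup.bot_or_exists_ne_one V).resolve_left hV1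
  obtain ⟨a, ha, hav⟩ : ∃ a ∈ A, ¬ a * v = v * a := by
    by_contra hcon
    push_neg at hcon
    exact hv1 (Subgroup.mem_bot.mp (hCA ▸ (⟨hVS hv, Subgroup.mem_centralizer_iff.mpr hcon⟩ :
      v ∈ Cfsg.sigmaCore M ⊓ Subgroup.centralizer (A : Set G))))
  refine prime_lt_of_action (minSimple_prime_ne_two' hG ?_) (minSimple_prime_ne_two' hG ?_)
    (fun h => hq.2.1 (h ▸ hr)) hn hVc (hAe.2 a ha) (hVn (hAM ha)) (fun h => hav ?_)
  · exact (dvd_pow_self q two_ne_zero).trans (hA2 ▸ Subgroup.card_subgroup_dvd_card A)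
  · exact hr.2.1.trans (Subgroup.card_subgroup_dvd_card M)
  · exact (Subgroup.mem_centralizer_singleton_iff.mp (h hv)).symm

include hG in
/-- `τ₂` and `σ` cannot be mutual. -/
theorem no_mutual (hI : Local G) {M N : Subgroup G} (hM : IsCoatom M) (hN : IsCoatom N) {q r : ℕ}
    (hqM : q ∈ Cfsg.tau2 M) (hqN : q ∈ Cfsg.sigma N) (hrN : r ∈ Cfsg.tau2 N)
    (hrM : r ∈ Cfsg.sigma M) : False :=
  lt_asymm (tau2_lt_sigma hG hI hM hqM hrM (hasMaxPlane_of_tau2 hG hN hrN))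
    (tau2_lt_sigma hG hI hN hrN hqN (hasMaxPlane_of_tau2 hG hM hqM))

end CfsgLib.OddOrder38
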