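import Mathlib
import Cfsg.Agent.Lib.OddOrder38.Cycle14
import Cfsg.Agent.Lib.OddOrder41.FixedFormula
import Cfsg.Agent.Lib.OddOrder.InvariantCore

/-!
# BG 14.2 (d): centralizers of the elements of `K* = C_{M_σ}(K)`
-/

set_option autoImplicit false

namespace CfsgLib.OddOrder38

open Subgroup CfsgLib.OddOrder CfsgLib.OddOrder.Transitivity CfsgLib.OddOrder41
open scoped commutatorElement

universe u

variable {G : Type u} [Group G] [Finite G]

/-- A prime of `κ(M)` has rank one in `M`. -/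
theorem pRankLE_one_of_kappa {M : Subgroup G} {q : ℕ} (hq : q ∈ Cfsg.kappa M) :
    Cfsg.PRankLE q 1 M := by
  have := Fact.mk hq.1
  obtain ⟨T⟩ : Nonempty (Sylow q M) := inferInstance
  refine Sigma10.pRankLE_of_sylowOf (sylowOf_map T) ?_
  have := (hq.2.2.2 T).1
  rw [← PRankLE.congr ((T : Subgroup M).equivMapOfInjective M.subtype M.subtype_injective), pRankLE_iff]
  intro A hA
  rw [pow_one]
  have : IsCyclic A := isCyclic_of_injective A.subtype A.subtype_injective
  rw [← IsCyclic.exponent_eq_card]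
  exact Nat.le_of_dvd hq.1.pos (Monoid.exponent_dvd_of_forall_pow_eq_one fun a =>
    Subtype.ext (by simpa using hA.2 a a.2))

theorem not_plane_le_of_kappa {M A : Subgroup G} {q : ℕ} (hq : q ∈ Cfsg.kappa M) (hAM : A ≤ M)
    (hAe : Cfsg.IsElementaryAbelian q A) (hA2 : Nat.card A = q ^ 2) : False := by
  have := Fact.mk hq.1
  have h := pRankLE_iff.mp (pRankLE_one_of_kappa hq) (A.subgroupOf M)
    (elemAb_comap hAe M.subtype M.subtype_injective)
  rw [Nat.card_congr (Subgroup.subgroupOfEquivOfLe hAM).toEquiv, hA2] at h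
  exact absurd h (not_le.mpr (Nat.pow_lt_pow_right hq.1.one_lt (by norm_num)))

theorem commutator_le_of_normalizes {A B : Subgroup G} (h : B ≤ Subgroup.normalizer (A : Set G)) :
    ⁅A, B⁆ ≤ A := by
  refine Subgroup.commutator_le.mpr fun a ha b hb => ?_
  have h1 := (Subgroup.mem_normalizer_iff.mp (h hb) a⁻¹).mp (A.inv_mem ha)
  simpa [commutatorElement_def, mul_assoc] using A.mul_mem ha h1

theorem mem_normalizer_inf {A B : Subgroup G} {g : G} (hA : g ∈ Subgroup.normalizer (A : Set G))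
    (hB : g ∈ Subgroup.normalizer (B : Set G)) :
    g ∈ Subgroup.normalizer ((A ⊓ B : Subgroup G) : Set G) :=
  Subgroup.mem_normalizer_iff.mpr fun x =>
    and_congr (Subgroup.mem_normalizer_iff.mp hA x) (Subgroup.mem_normalizer_iff.mp hB x)

theorem card_sup_dvd_mul {H N : Subgroup G} (h : H ≤ Subgroup.normalizer (N : Set G)) :
    Nat.card ↥(H ⊔ N) ∣ Nat.card H * Nat.card N := CfsgLib.Coprime.card_sup_dvd h

theorem kstar_le_centralizer (M K : Subgroup G) :
    Cfsg.sigmaCore M ⊓ Subgroup.centralizer (K : Set G) ≤ Subgroup.centralizer (K : Set G) :=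
  inf_le_right

theorem piNat_sup_kstar {M K : Subgroup G} (hK : Cfsg.IsPiHallOf (Cfsg.kappa M) K M) :
    PiNat (Cfsg.kappa M ∪ Cfsg.sigma M)
      (Nat.card ↥(K ⊔ (Cfsg.sigmaCore M ⊓ Subgroup.centralizer (K : Set G)))) := by
  set C := Cfsg.sigmaCore M ⊓ Subgroup.centralizer (K : Set G) with hC
  have hKn : K ≤ Subgroup.normalizer (C : Set G) := by
    refine le_trans ?_ (Subgroup.centralizer_le_normalizer (C : Set G))
    intro k hk
    exact Subgroup.mem_centralizer_iff.mpr fun c hc =>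
      (Subgroup.mem_centralizer_iff.mp (kstar_le_centralizer M K hc) k hk).symm
  intro p hp hd
  rcases hp.dvd_mul.mp (hd.trans (card_sup_dvd_mul hKn)) with h | h
  · exact Or.inl (hK.2.1 p hp h)
  · exact Or.inr (piNat_card_piCoreOf (Cfsg.sigma M) M p hp
      (h.trans (Subgroup.card_dvd_of_le inf_le_left)))

variable (hG : Cfsg.IsMinSimpleOddOrder G) (hI : Inputs G)

include hG hI in
/-- `C_G(x) ≤ M` for `x` of prime order in `K*`. -/
theorem centralizer_kstar_prime_le {M K : Subgroup G} (hM : IsCoatom M)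
    (hK : Cfsg.IsPiHallOf (Cfsg.kappa M) K M) (hK1 : K ≠ ⊥) {x : G}
    (hx : x ∈ Cfsg.sigmaCore M ⊓ Subgroup.centralizer (K : Set G)) {p : ℕ} (hp : p.Prime)
    (hxo : orderOf x = p) : Subgroup.centralizer ({x} : Set G) ≤ M := by
  by_contra hxM
  have := Fact.mk hp
  have hx1 : x ≠ 1 := fun h => hp.ne_one (by rw [← hxo, h, orderOf_one])
  have hxσ := Subgroup.mem_inf.mp hx
  obtain ⟨L, hL, honly, hLM, -, hc, hτall⟩ := centralizer_partner hG hI hM hxσ.1 hx1 hxM
  have hpτ : p ∈ Cfsg.tau2 L := hτall p hp (by rw [hxo])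
  have hpσM : p ∈ Cfsg.sigma M := mem_sigma_of_mem_sigmaCore hxσ.1 hp (by rw [hxo])
  have hxM' : x ∈ M := sigmaCore_le M hxσ.1
  have hxL : x ∈ L := honly.1 (self_mem_centralizer x)
  obtain ⟨q, hq, hqd⟩ := Nat.exists_prime_and_dvd (n := Nat.card K) fun h =>
    hK1 (Subgroup.card_eq_one.mp h)
  have := Fact.mk hq
  have hqκ : q ∈ Cfsg.kappa M := hK.2.1 q hq hqd
  obtain ⟨k₀, hk₀⟩ := exists_prime_orderOf_dvd_card' (G := K) q hqd
  set k : G := (k₀ : G) with hkdef
  have hkK : k ∈ K := k₀.2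
  have hko : orderOf k = q := by rw [hkdef, Subgroup.orderOf_coe, hk₀]
  have hkM : k ∈ M := hK.1 hkK
  have hkx : k * x = x * k := Subgroup.mem_centralizer_iff.mp hxσ.2 k hkK
  have hkL : k ∈ L := honly.1 (Subgroup.mem_centralizer_singleton_iff.mpr hkx)
  set Xq := Subgroup.zpowers k with hXq
  have hXqc : Nat.card Xq = q := by rw [hXq, Nat.card_zpowers, hko]
  have hqσL : q ∉ Cfsg.sigma L :=
    not_mem_sigma_of_compl hG hL hc hq (hXqc ▸ Subgroup.card_dvd_of_le
      (Subgroup.zpowers_le.mpr (⟨hkM, hkL⟩ : k ∈ M ⊓ L)))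
  have hqrank : Cfsg.PRankLE q 1 L := by
    refine (tau2_or_rank_one hG hL hq hqσL).resolve_left fun hqτ => ?_
    obtain ⟨B, hB, hBe, hB2⟩ := exists_plane_compl hG hL hc hqτ
    exact not_plane_le_of_kappa hqκ (hB.trans inf_le_left) hBe hB2
  -- the plane of `p`-elements
  obtain ⟨A, hAc, hAe, hA2⟩ := exists_plane_compl hG hL hc hpτ
  obtain ⟨⟨hAn, hAall⟩, -, -⟩ := hI.tauTwoCompl L hL (M ⊓ L) hc p hpτ A ⟨hAc, hAe, hA2⟩
  obtain ⟨-, -, -, hCA, hAint, -⟩ := hI.tauTwo L hL p hpτ A ⟨hAc.trans inf_le_right, hAe, hA2⟩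
  set X := Subgroup.zpowers x with hX
  have hXc : Nat.card X = p := by rw [hX, Nat.card_zpowers, hxo]
  have hXA : X ≤ A := hAall X (Subgroup.zpowers_le.mpr ⟨hxM', hxL⟩) hXc
  have hkA : k ∈ Subgroup.normalizer (A : Set G) := hAn ⟨hkM, hkL⟩
  have hXqA : Xq ≤ Subgroup.normalizer (A : Set G) := Subgroup.zpowers_le.mpr hkA
  have hpq : p ≠ q := fun h => hqκ.2.2.1 (h ▸ hpσM)
  have hcopA : (Nat.card Xq).Coprime (Nat.card A) := by
    rw [hXqc, hA2]
    exact ((Nat.coprime_primes hq hp).mpr (Ne.symm hpq)).pow_right 2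
  by_cases hkc : A ≤ Subgroup.centralizer ({k} : Set G)
  · -- `A` centralizes `k`
    have hXq1 : Xq ≠ ⊥ := fun h => hq.ne_one (by rw [← hXqc, h, Subgroup.card_bot])
    obtain ⟨Ms, hMs, hle⟩ := exists_isCoatom_ge (minSimple_normalizer_ne_top hG hXq1
      (minSimple_pgroup_ne_top hG (IsPGroup.of_card (n := 1) (by rw [hXqc, pow_one]))))
    obtain ⟨hqσ, hXqσ⟩ := mem_sigma_of_kappa hG hI hM hqκ hXqc (Subgroup.zpowers_le.mpr hkM) hMs hle
    have hAMs : A ≤ Ms := hkc.trans ((centralizer_zpowers_le_normalizer k).trans hle)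
    have hMsM : M ≠ Ms := fun h => hqκ.2.2.1 (h ▸ hqσ)
    have hpMs : p ∉ Cfsg.sigma Ms := fun h =>
      hqκ.2.2.1 (sigma_eq_of_sigma hI.disjoint hM hMs hpσM h ▸ hqσ)
    have hpτs : p ∈ Cfsg.tau2 Ms := by
      refine (tau2_or_rank_one hG hMs hp hpMs).resolve_right fun h => ?_
      have h' := pRankLE_iff.mp h (A.subgroupOf Ms) (elemAb_comap hAe Ms.subtype Ms.subtype_injective)
      rw [Nat.card_congr (Subgroup.subgroupOfEquivOfLe hAMs).toEquiv, hA2] at h'
      exact absurd h' (not_le.mpr (Nat.pow_lt_pow_right hp.one_lt (by norm_num)))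
    obtain ⟨-, -, -, -, hMsint, -⟩ := hI.tauTwo Ms hMs p hpτs A ⟨hAMs, hAe, hA2⟩
    have h1 : k ∈ Cfsg.sigmaCore Ms ⊓ M := ⟨hXqσ (Subgroup.mem_zpowers k), hkM⟩
    rw [hMsint M hM hMsM (hAc.trans inf_le_left), Subgroup.mem_bot] at h1
    exact hq.ne_one (by rw [← hko, h1, orderOf_one])
  · -- `k` moves `A`
    set Y := ⁅A, Xq⁆ with hY
    have hAcomm : IsMulCommutative A := hAe.1
    have hYA : Y ≤ A := commutator_le_of_normalizes hXqA
    have hYC := CfsgLib.Coprime.commutator_inf_centralizer_eq_bot Xq A hXqA hcopA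
    have hY1 : Y ≠ ⊥ := fun h => hkc (((Subgroup.commutator_eq_bot_iff_le_centralizer).mp h).trans
      (by rw [← OddOrder41.centralizer_zpowers k]))
    have hXXq : X ≤ Subgroup.centralizer (Xq : Set G) := by
      rw [OddOrder41.centralizer_zpowers, hX, Subgroup.zpowers_le, Subgroup.mem_centralizer_singleton_iff]
      exact hkx.symm
    have hYX : Y ⊓ X = ⊥ := le_bot_iff.mp (hYC ▸ inf_le_inf le_rfl hXXq)
    have hAXY : A = X ⊔ Y := by
      refine (Subgroup.eq_of_le_of_card_ge (sup_le hXA hYA) ?_).symm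
      have hn : Y ≤ Subgroup.normalizer (X : Set G) := fun y hy =>
        Subgroup.centralizer_le_normalizer (X : Set G) (Subgroup.mem_centralizer_iff.mpr
          fun z hz => mul_comm_of_mem hAcomm (hXA hz) (hYA hy))
      have hyp : IsPGroup p Y := (isPGroup_of_elemAb hAe).to_le hYA
      rw [sup_comm, CfsgLib.Coprime.card_sup_of_disjoint hn (by rwa [inf_comm]), hA2, hXc, sq]
      exact Nat.mul_le_mul_right p (Nat.le_of_dvd Nat.card_pos (Uniq.prime_dvd_card hyp hY1))
    have hfpf : ∀ e ∈ Xq, e ≠ 1 → ∀ u ∈ Y, e * u = u * e → u = 1 := by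
      intro e he he1 u hu heu
      have hze : Subgroup.zpowers e = Xq := by
        refine Subgroup.eq_of_le_of_card_ge (Subgroup.zpowers_le.mpr he) ?_
        rw [hXqc, Nat.card_zpowers]
        rcases (Nat.dvd_prime hq).mp (hXqc ▸ Subgroup.orderOf_dvd_natCard _ he) with h | h
        · exact absurd (orderOf_eq_one_iff.mp h) he1
        · exact h.ge
      have h1 : u ∈ Y ⊓ Subgroup.centralizer (Xq : Set G) := ⟨hu, by
        rw [← hze, OddOrder41.centralizer_zpowers]
        exact Subgroup.mem_centralizer_singleton_iff.mpr heu.symm⟩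
      exact Subgroup.mem_bot.mp (hYC ▸ h1)
    set H := Cfsg.sigmaCore L ⊓ Subgroup.centralizer ({x} : Set G) with hH
    have hXqY : Xq ≤ Subgroup.normalizer (Y : Set G) :=
      InvariantCore.le_normalizer_commutator hXqA Subgroup.le_normalizer
    have hYL : Y ≤ L := hYA.trans (hAc.trans inf_le_right)
    have hnormH : Y ⊔ Xq ≤ Subgroup.normalizer (H : Set G) := by
      refine sup_le (fun y hy => ?_) (Subgroup.zpowers_le.mpr ?_)
      · refine mem_normalizer_inf (piCoreOf_normal _ _ (hYL hy)) ?_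
        exact Subgroup.le_normalizer (Subgroup.mem_centralizer_singleton_iff.mpr
          (mul_comm_of_mem hAcomm (hYA hy) (hXA (Subgroup.mem_zpowers x))))
      · exact mem_normalizer_inf (piCoreOf_normal _ _ hkL)
          (Subgroup.le_normalizer (Subgroup.mem_centralizer_singleton_iff.mpr hkx))
    have hsup : Nat.card ↥(Y ⊔ Xq) ∣ Nat.card (M ⊓ L : Subgroup G) :=
      Subgroup.card_dvd_of_le (sup_le (hYA.trans hAc) (Subgroup.zpowers_le.mpr ⟨hkM, hkL⟩))
    have hcop : (Nat.card H).Coprime (Nat.card ↥(Y ⊔ Xq)) :=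
      Nat.coprime_of_dvd fun r hr h1 h2 => not_mem_sigma_of_compl hG hL hc hr (h2.trans hsup)
        (piNat_card_piCoreOf (Cfsg.sigma L) L r hr (h1.trans (Subgroup.card_dvd_of_le inf_le_left)))
    have hsolv : Group.IsSolvable H := by
      have := minSimple_solvable hG hL.1
      exact solvable_of_solvable_injective
        (Subgroup.inclusion_injective ((inf_le_left : H ≤ _).trans (sigmaCore_le L)))
    have hXq1 : Xq ≠ ⊥ := fun h => hq.ne_one (by rw [← hXqc, h, Subgroup.card_bot])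
    have hf := FixedFormula.fixed_formula Y Xq hXq1 hXqY
      (FixedFormula.coprime_of_fpf hXqY hfpf) hfpf H hnormH hsolv hcop
    have hHY : H ⊓ Subgroup.centralizer (Y : Set G) = ⊥ := by
      rw [← le_bot_iff, ← hCA]
      refine le_inf (inf_le_left.trans inf_le_left) ?_
      rw [hAXY]
      intro z hz
      obtain ⟨⟨-, hzx⟩, hzY⟩ := hz
      have hA' : X ⊔ Y ≤ Subgroup.centralizer ({z} : Set G) :=
        sup_le (Subgroup.zpowers_le.mpr (Subgroup.mem_centralizer_singleton_iff.mpr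
            (Subgroup.mem_centralizer_singleton_iff.mp hzx).symm))
          (fun y hy => Subgroup.mem_centralizer_singleton_iff.mpr
            (Subgroup.mem_centralizer_iff.mp hzY y hy))
      exact Subgroup.mem_centralizer_iff.mpr fun a ha =>
        Subgroup.mem_centralizer_singleton_iff.mp (hA' ha)
    have hHYX : H ⊓ Subgroup.centralizer ((Y ⊔ Xq : Subgroup G) : Set G) = ⊥ :=
      le_bot_iff.mp (hHY ▸ inf_le_inf le_rfl (Subgroup.centralizer_le fun _ hz =>
        Subgroup.mem_sup_left hz))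
    rw [hHY, hHYX, Subgroup.card_bot, one_pow, one_mul, mul_one] at hf
    -- `C_{L_σ}(x) ≠ 1`
    obtain ⟨c, hcx, hcM⟩ := SetLike.not_le_iff_exists.mp hxM
    obtain ⟨a, ha, b, hb, rfl, hbx⟩ := centralizer_decomp hc ⟨hxM', hxL⟩ (honly.1 hcx) (by
      rwa [Subgroup.mem_centralizer_singleton_iff.mp hcx, mul_inv_cancel_right])
    have hb1 : b ≠ 1 := fun h => hcM (by rw [h, mul_one]; exact ha.1)
    have hbH : b ∈ H := ⟨hb, Subgroup.mem_centralizer_singleton_iff.mpr hbx⟩
    obtain ⟨z, hz, hz1⟩ : ∃ z ∈ H ⊓ Subgroup.centralizer (Xq : Set G), z ≠ 1 := by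
      by_contra hcon
      push_neg at hcon
      have h0 : H ⊓ Subgroup.centralizer (Xq : Set G) = ⊥ := (Subgroup.eq_bot_iff_forall _).mpr hcon
      rw [h0, Subgroup.card_bot, one_pow] at hf
      exact hb1 (Subgroup.mem_bot.mp (Subgroup.card_eq_one.mp hf ▸ hbH))
    have hzk : k * z = z * k := Subgroup.mem_centralizer_iff.mp hz.2 k (Subgroup.mem_zpowers k)
    have hqκL := mem_kappa hG hL hqσL hqrank hkL hko hz.1.1 hz1 hzk
    obtain ⟨KL, hKL, hkKL⟩ := exists_hall_kappa_ge hG hI hL (Subgroup.zpowers_le.mpr hkL)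
      (fun r hr hd => by
        rw [hXqc] at hd
        rwa [(Nat.prime_dvd_prime_iff_eq hr hq).mp hd])
    have hKL1 : KL ≠ ⊥ := fun h => hXq1 (by rw [h] at hkKL; exact le_bot_iff.mp hkKL)
    obtain ⟨hN, -, -⟩ := (hI.kappaHall L hL KL hKL hKL1).2.2 Xq hkKL (hXqc.symm ▸ hq)
    have hxN : x ∈ L ⊓ Subgroup.normalizer (Xq : Set G) :=
      ⟨hxL, centralizer_zpowers_le_normalizer k (Subgroup.mem_centralizer_singleton_iff.mpr hkx.symm)⟩
    rw [hN] at hxN
    rcases piNat_sup_kstar hKL p hp (hxo ▸ Subgroup.orderOf_dvd_natCard _ hxN) with h | h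
    · exact hpτ.2.2.2 (pRankLE_one_of_kappa h)
    · exact hpτ.2.1 h

include hG hI in
/-- `C_G(x) ≤ M` for `1 ≠ x ∈ K*`. -/
theorem centralizer_kstar_le {M K : Subgroup G} (hM : IsCoatom M)
    (hK : Cfsg.IsPiHallOf (Cfsg.kappa M) K M) (hK1 : K ≠ ⊥) {x : G}
    (hx : x ∈ Cfsg.sigmaCore M ⊓ Subgroup.centralizer (K : Set G)) (hx1 : x ≠ 1) :
    Subgroup.centralizer ({x} : Set G) ≤ M := by
  obtain ⟨p, hp, hd⟩ := Nat.exists_prime_and_dvd (n := orderOf x)
    fun h => hx1 (orderOf_eq_one_iff.mp h)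
  obtain ⟨y, hy, hyo⟩ := exists_mem_zpowers_prime hp hd
  exact (centralizer_le_of_mem_zpowers hy).trans
    (centralizer_kstar_prime_le hG hI hM hK hK1 ((Subgroup.zpowers_le.mpr hx) hy) hp hyo)

end CfsgLib.OddOrder38
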