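import Mathlib
import Cfsg.Agent.Lib.OddOrder38.KStar14
import Cfsg.Agent.Lib.OddOrder41.RankTwoAction
import Cfsg.Agent.Lib.OddOrder41.Sigma12Inter

/-!
# BG 14.2 (d)--(g): `K*` and `K` as TI-subgroups, Sylow subgroups meeting `K*`
-/

set_option autoImplicit false

namespace CfsgLib.OddOrder38

open Subgroup CfsgLib.OddOrder CfsgLib.OddOrder.Transitivity CfsgLib.OddOrder41
open scoped commutatorElement

universe u

variable {G : Type u} [Group G] [Finite G] (hG : Cfsg.IsMinSimpleOddOrder G) (hI : Inputs G)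
  {M K : Subgroup G} (hM : IsCoatom M) (hK : Cfsg.IsPiHallOf (Cfsg.kappa M) K M) (hK1 : K ≠ ⊥)

include hG hI hM hK hK1 in
/-- An element of `G` conjugating a non-identity element of `K*` into `M` lies in `M`. -/
theorem mem_of_conj_kstar {x g : G} (hx : x ∈ Cfsg.sigmaCore M ⊓ Subgroup.centralizer (K : Set G))
    (hx1 : x ≠ 1) (hg : g * x * g⁻¹ ∈ M) : g ∈ M := by
  obtain ⟨p, hp, hd⟩ := Nat.exists_prime_and_dvd (n := orderOf x)
    fun h => hx1 (orderOf_eq_one_iff.mp h)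
  obtain ⟨m, hm, c, hc, rfl⟩ := exists_mul_centralizer hG hI.toLocal hM
    (sigmaCore_le M (Subgroup.mem_inf.mp hx).1) hp
    (mem_sigma_of_mem_sigmaCore (Subgroup.mem_inf.mp hx).1 hp hd) hd hg
  exact mul_mem hm (centralizer_kstar_le hG hI hM hK hK1 hx hx1 hc)

include hG hI hM hK hK1 in
/-- **BG 14.2 (d)**: `K* ∩ M^g = 1`. -/
theorem kstar_inf_conj {g : G} (hg : g ∉ M) :
    (Cfsg.sigmaCore M ⊓ Subgroup.centralizer (K : Set G)) ⊓ cj g M = ⊥ := by
  refine (Subgroup.eq_bot_iff_forall _).mpr fun x hx => ?_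
  by_contra hx1
  have h := mem_of_conj_kstar hG hI hM hK hK1 (g := g⁻¹) hx.1 hx1
    (by simpa using mem_cj.mp hx.2)
  exact hg (by simpa using M.inv_mem h)

omit [Finite G] in
/-- Two subgroups of the same finite order of a cyclic group are equal. -/
theorem eq_of_card_eq_cyclic [Finite G] {K A B : Subgroup G} (hK : IsCyclic K) (hA : A ≤ K)
    (hB : B ≤ K) (h : Nat.card A = Nat.card B) : A = B := by
  refine Subgroup.eq_of_le_of_card_ge (fun a ha => mem_of_pow_card_eq_one hB (hA ha) ?_) h.ge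
  rw [← h]
  exact congrArg Subtype.val (pow_card_eq_one' (x := (⟨a, ha⟩ : A)))

include hI hM hK hK1 in
/-- `K` has only one subgroup of order `p` for each prime `p`. -/
theorem kappa_prime_subgroup_unique {p : ℕ} (hp : p.Prime) {Y Z : Subgroup G} (hY : Y ≤ K)
    (hZ : Z ≤ K) (hYc : Nat.card Y = p) (hZc : Nat.card Z = p) : Z = Y := by
  have := Fact.mk hp
  obtain ⟨hN, -, -⟩ := (hI.kappaHall M hM K hK hK1).2.2 Y hY (hYc.symm ▸ hp)
  have hZN : Z ≤ Subgroup.normalizer (Y : Set G) :=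
    hZ.trans ((le_sup_left.trans hN.ge).trans inf_le_right)
  have hd : Nat.card ↥(Z ⊔ Y) ∣ p ^ 2 := (card_sup_dvd_mul hZN).trans (by rw [hYc, hZc, sq])
  obtain ⟨i, -, hi⟩ := (Nat.dvd_prime_pow hp).mp hd
  obtain ⟨R, hR, hle⟩ := exists_sylowOf_ge (sup_le (hZ.trans hK.1) (hY.trans hK.1))
    (IsPGroup.of_card hi)
  obtain ⟨T, hT⟩ := hR.toSylow
  have hpκ : p ∈ Cfsg.kappa M := hK.2.1 p hp (hYc ▸ Subgroup.card_dvd_of_le hY)
  have := (hpκ.2.2.2 T).1
  have hRc : IsCyclic R := by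
    rw [← hT]
    exact isCyclic_of_surjective ((T : Subgroup M).equivMapOfInjective M.subtype M.subtype_injective).toMonoidHom
      (MulEquiv.surjective _)
  exact eq_of_card_eq_cyclic hRc (le_sup_left.trans hle) (le_sup_right.trans hle) (by rw [hYc, hZc])

include hG hI hM hK hK1 in
/-- **BG 14.2 (e)**: `K ∩ K^g = 1` for `g ∈ M` outside `K K*`. -/
theorem kappa_inf_conj {g : G} (hgM : g ∈ M)
    (hg : g ∉ K ⊔ (Cfsg.sigmaCore M ⊓ Subgroup.centralizer (K : Set G))) :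
    K ⊓ cj g K = ⊥ := by
  refine (Subgroup.eq_bot_iff_forall _).mpr fun x hx => ?_
  by_contra hx1
  obtain ⟨p, hp, hd⟩ := Nat.exists_prime_and_dvd (n := orderOf x)
    fun h => hx1 (orderOf_eq_one_iff.mp h)
  obtain ⟨y, hy, hyo⟩ := exists_mem_zpowers_prime hp hd
  set Y := Subgroup.zpowers y with hY
  have hYK : Y ≤ K ⊓ cj g K := Subgroup.zpowers_le.mpr ((Subgroup.zpowers_le.mpr hx) hy)
  have hYc : Nat.card Y = p := by rw [hY, Nat.card_zpowers, hyo]
  have heq : cj g⁻¹ Y = Y := by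
    exact kappa_prime_subgroup_unique hI hM hK hK1 hp (hYK.trans inf_le_left)
      ((cj_mono (hYK.trans inf_le_right)).trans (cj_cancel g K).le) hYc (by rw [card_cj, hYc])
  obtain ⟨hN, -, -⟩ := (hI.kappaHall M hM K hK hK1).2.2 Y (hYK.trans inf_le_left) (hYc.symm ▸ hp)
  have h1 : g⁻¹ ∈ M ⊓ Subgroup.normalizer (Y : Set G) :=
    ⟨M.inv_mem hgM, mem_normalizer_of_cj_eq heq⟩
  rw [hN] at h1
  exact hg (by simpa using inv_mem h1)

include hG hI hM hK hK1 in
/-- **BG 14.2 (f)**: a `σ(M)`-subgroup meeting `K*` lies in `M_σ`. -/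
theorem le_sigmaCore_of_meets_kstar {Y : Subgroup G}
    (hY : ∀ p : ℕ, p.Prime → p ∣ Nat.card Y → p ∈ Cfsg.sigma M)
    (hne : Y ⊓ (Cfsg.sigmaCore M ⊓ Subgroup.centralizer (K : Set G)) ≠ ⊥) :
    Y ≤ Cfsg.sigmaCore M := by
  obtain ⟨x, hx, hx1⟩ := (Subgroup.bot_or_exists_ne_one _).resolve_left hne
  obtain ⟨g, hg⟩ := sigma_subgroup_conj hG hI.tauTwo hI.tauTwoCompl hI.nilpotent hM
    (fun h => hne (by rw [h, bot_inf_eq])) hY
  have hgx : g * x * g⁻¹ ∈ M := sigmaCore_le M (hg (mem_cj_self.mpr hx.1))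
  have hgM := mem_of_conj_kstar hG hI hM hK hK1 hx.2 hx1 hgx
  exact (cj_le_iff.mp hg).trans
    (cj_eq_of_mem_normalizer (piCoreOf_normal _ _ (M.inv_mem hgM))).le

include hG hI hM hK hK1 in
/-- A complement `U K` of `M_σ` containing `K`. -/
theorem exists_compl_kappa :
    ∃ U E : Subgroup G, Cfsg.IsComplIn E (Cfsg.sigmaCore M) M ∧ E = U ⊔ K ∧
      IsMulCommutative U ∧ K ≤ Subgroup.normalizer (U : Set G) ∧ ⁅U, K⁆ = U ∧
      Cfsg.IsPiHallOf {q | q.Prime ∧ q ∉ Cfsg.kappa M ∧ q ∉ Cfsg.sigma M} U M ∧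
      ∀ k ∈ K, k ≠ 1 → U ⊓ Subgroup.centralizer ({k} : Set G) = ⊥ := by
  obtain ⟨-, ⟨U, hUc, hU, hKU, hfpf⟩, -⟩ := hI.kappaHall M hM K hK hK1
  obtain ⟨E, hE, hle⟩ := exists_compl_ge hG hM (sup_le hU.1 hK.1) fun r hr hd => by
    rcases hr.dvd_mul.mp (hd.trans (by rw [sup_comm]; exact card_sup_dvd_mul hKU)) with h | h
    · exact (hK.2.1 r hr h |>.2.2.1)
    · exact (hU.2.1 r hr h).2.2
  refine ⟨U, E, hE, ?_, hUc, hKU, ?_, hU, hfpf⟩
  · refine le_antisymm ?_ hle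
    rw [← Subgroup.relIndex_eq_one]
    by_contra hne
    obtain ⟨r, hr, hd⟩ := Nat.exists_prime_and_dvd hne
    have key : ∀ {A : Subgroup G}, A ≤ U ⊔ K → A ≤ M → r ∣ A.relIndex M := fun {A} hA hAM => by
      rw [← Subgroup.relIndex_mul_relIndex A E M (hA.trans hle) hE.1,
        ← Subgroup.relIndex_mul_relIndex A (U ⊔ K) E hA hle]
      exact (hd.mul_left _).mul_right _
    have hrσ : r ∉ Cfsg.sigma M := not_mem_sigma_of_compl hG hM hE hr
      (hd.trans (Subgroup.relIndex_dvd_card _ _))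
    by_cases hrκ : r ∈ Cfsg.kappa M
    · exact hK.2.2 r hr hrκ (key le_sup_right hK.1)
    · exact hU.2.2 r hr ⟨hr, hrκ, hrσ⟩ (key le_sup_left hU.1)
  · have hcop : (Nat.card K).Coprime (Nat.card U) :=
      Nat.coprime_of_dvd fun r hr h1 h2 => (hU.2.1 r hr h2).2.1 (hK.2.1 r hr h1)
    have h := CfsgLib.Coprime.commutator_sup_centralizer K U hKU hcop
      (Or.inr (by have := hUc; exact Group.isSolvable_of_comm fun a b => this.is_comm.comm a b))
    obtain ⟨k, hk, hk1⟩ := (Subgroup.bot_or_exists_ne_one K).resolve_left hK1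
    have hbot : U ⊓ Subgroup.centralizer (K : Set G) = ⊥ := le_bot_iff.mp
      (hfpf k hk hk1 ▸ inf_le_inf le_rfl (Subgroup.centralizer_le (Set.singleton_subset_iff.mpr hk)))
    rwa [hbot, sup_bot_eq] at h

include hG hI hM hK hK1 in
/-- **BG 14.2 (g)**: Sylow subgroups of `M_σ` for the primes of `K*`. -/
theorem sylow_kstar {p : ℕ} [hp : Fact p.Prime]
    (hd : p ∣ Nat.card ↥(Cfsg.sigmaCore M ⊓ Subgroup.centralizer (K : Set G))) {P : Subgroup G}
    (hP : SylowOf p P (Cfsg.sigmaCore M)) :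
    Cfsg.InUniqueMaximal P ∧ P ≤ M ∧
      ¬ P ≤ Cfsg.sigmaCore M ⊓ Subgroup.centralizer (K : Set G) := by
  set S := Cfsg.sigmaCore M with hS
  set C := S ⊓ Subgroup.centralizer (K : Set G) with hC
  have hSM : S ≤ M := sigmaCore_le M
  have hpσ : p ∈ Cfsg.sigma M := piNat_card_piCoreOf (Cfsg.sigma M) M p hp.out
    (hd.trans (Subgroup.card_dvd_of_le inf_le_left))
  have hPM : P ≤ M := hP.1.trans hSM
  obtain ⟨P₁, hP₁, hPP₁⟩ := exists_sylowOf_ge hPM hP.2.1
  obtain rfl : P₁ = P := hP.2.2 P₁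
    (Sigma10.sylow_le_piCore hG hM (Sigma10.alpha_subset_sigma hG hM) hpσ hpσ hP₁) hP₁.2.1 hPP₁
  have huniq : Cfsg.InUniqueMaximal P₁ := by
    by_cases hr : Cfsg.PRankLE p 2 P₁
    swap
    · exact Sigma10.inUnique_of_rank_three hG hr (minSimple_pgroup_ne_top hG hP.2.1)
    obtain ⟨U, E, hE, hEUK, hUc, hKU, hUK, -, -⟩ := exists_compl_kappa hG hI hM hK hK1
    have hSn : M ≤ Subgroup.normalizer (S : Set G) := piCoreOf_normal _ _
    have hcopE : (Nat.card E).Coprime (Nat.card S) := Nat.coprime_of_dvd fun r hr h1 h2 =>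
      not_mem_sigma_of_compl hG hM hE hr h1 (piNat_card_piCoreOf (Cfsg.sigma M) M r hr h2)
    have hcopK : (Nat.card K).Coprime (Nat.card S) :=
      hcopE.coprime_dvd_left (Subgroup.card_dvd_of_le (hEUK ▸ le_sup_right))
    have := minSimple_solvable hG hM.1
    have hSs : Group.IsSolvable S := solvable_of_solvable_injective (Subgroup.inclusion_injective hSM)
    obtain ⟨y, hy⟩ := exists_prime_orderOf_dvd_card' (G := C) p hd
    set X₀ := Subgroup.zpowers (y : G) with hX₀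
    have hX₀c : Nat.card X₀ = p := by rw [hX₀, Nat.card_zpowers, Subgroup.orderOf_coe, hy]
    have hyC := Subgroup.mem_inf.mp y.2
    have hKX₀ : K ≤ Subgroup.normalizer (X₀ : Set G) := fun k hk =>
      centralizer_zpowers_le_normalizer (y : G) (Subgroup.mem_centralizer_singleton_iff.mpr
        (Subgroup.mem_centralizer_iff.mp hyC.2 k hk))
    obtain ⟨Q₁, hQ₁, hQ₁K⟩ := CfsgLib.Coprime.exists_invariant_sylow_ge K S (hK.1.trans hSn) hcopK
      (Or.inr hSs) p X₀ (Subgroup.zpowers_le.mpr hyC.1)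
      (IsPGroup.of_card (n := 1) (by rw [hX₀c, pow_one])) hKX₀
    obtain ⟨Q₀, hQ₀⟩ := CfsgLib.Coprime.exists_invariant_sylow E S (hE.1.trans hSn) hcopE
      (Or.inr hSs) p
    have hKE : K ≤ E := hEUK ▸ le_sup_right
    obtain ⟨c, hc, hce⟩ := CfsgLib.Coprime.invariant_sylow_conj K S (hK.1.trans hSn) hcopK
      (Or.inr hSs) p Q₁ Q₀ hQ₁K (hKE.trans hQ₀)
    set x : G := (c : G) * y * (c : G)⁻¹ with hx
    have hxQ₀ : x ∈ (Q₀ : Subgroup S).map S.subtype := by
      obtain ⟨w, hw, hwe⟩ := hQ₁ (Subgroup.mem_zpowers (y : G))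
      rw [← hce, Sylow.coe_subgroup_smul]
      exact ⟨c * w * c⁻¹, ⟨w, hw, rfl⟩, by rw [hx, ← hwe]; rfl⟩
    have hxC : x ∈ Subgroup.centralizer (K : Set G) := mul_mem (mul_mem hc hyC.2) (inv_mem hc)
    have hxS : x ∈ S := mul_mem (mul_mem c.2 hyC.1) (S.inv_mem c.2)
    have hQ₀r : Cfsg.PRankLE p 2 ↥((Q₀ : Subgroup S).map S.subtype) := by
      obtain ⟨s, hs, hle⟩ := Sigma10.exists_conj_le hP₁ ((Subgroup.map_subtype_le (Q₀ : Subgroup S)).trans hSM)
        (Q₀.isPGroup'.map _)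
      exact (PRankLE.congr (cjEquiv s ((Q₀ : Subgroup S).map S.subtype))).mpr (PRankLE.of_le hle hr)
    have hEsolv : Group.IsSolvable E := solvable_of_solvable_injective (Subgroup.inclusion_injective hE.1)
    have hfix := OddOrder41.rank_two_commutator_fixes (p := p) (minSimple_prime_ne_two' hG
      (hpσ.2.1.trans (Subgroup.card_subgroup_dvd_card M))) ((Q₀ : Subgroup S).map S.subtype) E
      (Q₀.isPGroup'.map _) hQ₀r hQ₀ hEsolv (minSimple_odd hG E)
    have hUD : U ≤ ⁅E, E⁆ := hUK ▸ Subgroup.commutator_mono (hEUK ▸ le_sup_left) hKE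
    have hxE : x ∈ Subgroup.centralizer (E : Set G) := by
      have h1 : E ≤ Subgroup.centralizer ({x} : Set G) := by
        rw [hEUK]
        refine sup_le (fun u hu => ?_) (fun k hk => ?_)
        · refine Subgroup.mem_centralizer_singleton_iff.mpr (hfix u (hUD hu) ?_ x hxQ₀)
          have hpd : p ∣ Nat.card S := hd.trans (Subgroup.card_dvd_of_le inf_le_left)
          exact (hcopE.coprime_dvd_left (Subgroup.orderOf_dvd_natCard _
            (hEUK ▸ Subgroup.mem_sup_left hu : u ∈ E))).coprime_dvd_right hpd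
        · exact Subgroup.mem_centralizer_singleton_iff.mpr (Subgroup.mem_centralizer_iff.mp hxC k hk)
      exact Subgroup.mem_centralizer_iff.mpr fun e he =>
        Subgroup.mem_centralizer_singleton_iff.mp (h1 he)
    have hxo : orderOf x = p := by
      rw [hx, show (c : G) * y * (c : G)⁻¹ = MulAut.conj (c : G) y from rfl, MulEquiv.orderOf_eq,
        Subgroup.orderOf_coe, hy]
    exact (centralizer_unique hG hI.rankTwo hI.nilpotent hM hpσ
      (Subgroup.zpowers_le.mpr (hSM hxS)) (by rw [Nat.card_zpowers, hxo]) hP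
      (Or.inr (Subgroup.zpowers_le.mpr (sigmaCore_inf_centralizer_le hG hM hE ⟨hxS, hxE⟩)))).2.1
  refine ⟨huniq, hPM, fun hle => ?_⟩
  obtain ⟨q, hq, hqd⟩ := Nat.exists_prime_and_dvd (n := Nat.card K) fun h =>
    hK1 (Subgroup.card_eq_one.mp h)
  have := Fact.mk hq
  obtain ⟨k, hk⟩ := exists_prime_orderOf_dvd_card' (G := K) q hqd
  set Xq := Subgroup.zpowers (k : G) with hXq
  have hXqc : Nat.card Xq = q := by rw [hXq, Nat.card_zpowers, Subgroup.orderOf_coe, hk]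
  have hXq1 : Xq ≠ ⊥ := fun h => hq.ne_one (by rw [← hXqc, h, Subgroup.card_bot])
  obtain ⟨Ms, hMs, hMsle⟩ := exists_isCoatom_ge (minSimple_normalizer_ne_top hG hXq1
    (minSimple_pgroup_ne_top hG (IsPGroup.of_card (n := 1) (by rw [hXqc, pow_one]))))
  have hqκ := hK.2.1 q hq hqd
  have hqσ := (mem_sigma_of_kappa hG hI hM hqκ hXqc (Subgroup.zpowers_le.mpr (hK.1 k.2)) hMs hMsle).1
  have hPMs : P₁ ≤ Ms := (hle.trans ((inf_le_right : C ≤ _).trans
    (Subgroup.centralizer_le (Set.singleton_subset_iff.mpr k.2)))).trans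
    ((centralizer_zpowers_le_normalizer (k : G)).trans hMsle)
  exact hqκ.2.2.1 (Uniq.InUniqueMaximal.eq huniq hM hPM hMs hPMs ▸ hqσ)

end CfsgLib.OddOrder38
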