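import Mathlib
import Cfsg.Agent.Lib.OddOrder38.KappaTI

/-!
# S1431, S1432, S1433 from the inputs of `Props14`
-/

set_option autoImplicit false

namespace CfsgLib.OddOrder38

open Subgroup CfsgLib.OddOrder CfsgLib.OddOrder.Transitivity CfsgLib.OddOrder41

universe u

variable {G : Type u} [Group G] [Finite G] (hG : Cfsg.IsMinSimpleOddOrder G) (hI : Inputs G)

include hG hI in
theorem kappa_star_intersections
    (M : Subgroup G) (hM : IsCoatom M) (K : Subgroup G) (hK : Cfsg.IsPiHallOf (Cfsg.kappa M) K M) (hK1 : K ≠ ⊥) :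
    (∀ g : G, g ∉ M → (Cfsg.sigmaCore M ⊓ Subgroup.centralizer (K : Set G)) ⊓ M.map (MulAut.conj g).toMonoidHom = ⊥) ∧
      (∀ g ∈ M, g ∉ K ⊔ (Cfsg.sigmaCore M ⊓ Subgroup.centralizer (K : Set G)) → K ⊓ K.map (MulAut.conj g).toMonoidHom = ⊥) ∧
      (∀ (p : ℕ), p.Prime → p ∣ Nat.card ↥(Cfsg.sigmaCore M ⊓ Subgroup.centralizer (K : Set G)) → ∀ S : Sylow p ↥(Cfsg.sigmaCore M),
        Cfsg.InUniqueMaximal ((S : Subgroup ↥(Cfsg.sigmaCore M)).map (Cfsg.sigmaCore M).subtype) ∧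
        (S : Subgroup ↥(Cfsg.sigmaCore M)).map (Cfsg.sigmaCore M).subtype ≤ M ∧
        ¬ (S : Subgroup ↥(Cfsg.sigmaCore M)).map (Cfsg.sigmaCore M).subtype ≤ (Cfsg.sigmaCore M ⊓ Subgroup.centralizer (K : Set G))) ∧
      ∀ Y : Subgroup G, (∀ p : ℕ, p.Prime → p ∣ Nat.card Y → p ∈ Cfsg.sigma M) → Y ⊓ (Cfsg.sigmaCore M ⊓ Subgroup.centralizer (K : Set G)) ≠ ⊥ → Y ≤ Cfsg.sigmaCore M :=
  ⟨fun _ hg => kstar_inf_conj hG hI hM hK hK1 hg,
    fun _ hgM hg => kappa_inf_conj hG hI hM hK hK1 hgM hg,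
    fun p hp hd S => by
      have := Fact.mk hp
      exact sylow_kstar hG hI hM hK hK1 hd (sylowOf_map S),
    fun _ hY hne => le_sigmaCore_of_meets_kstar hG hI hM hK hK1 hY hne⟩

omit [Finite G] in
/-- `(K K*) ∩ M_σ = K*`. -/
theorem sup_kstar_inf_sigma [Finite G] {M K : Subgroup G} (hK : Cfsg.IsPiHallOf (Cfsg.kappa M) K M)
    {x : G} (hx : x ∈ K ⊔ (Cfsg.sigmaCore M ⊓ Subgroup.centralizer (K : Set G)))
    (hxσ : x ∈ Cfsg.sigmaCore M) : x ∈ Cfsg.sigmaCore M ⊓ Subgroup.centralizer (K : Set G) := by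
  set C := Cfsg.sigmaCore M ⊓ Subgroup.centralizer (K : Set G) with hC
  have hKn : K ≤ Subgroup.normalizer (C : Set G) := by
    refine le_trans ?_ (Subgroup.centralizer_le_normalizer (C : Set G))
    intro k hk
    exact Subgroup.mem_centralizer_iff.mpr fun c hc =>
      (Subgroup.mem_centralizer_iff.mp (kstar_le_centralizer M K hc) k hk).symm
  obtain ⟨k, hk, c, hc, rfl⟩ := CfsgLib.Coprime.exists_mul_of_mem_sup hKn hx
  have hkσ : k ∈ Cfsg.sigmaCore M := by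
    simpa using mul_mem hxσ (Subgroup.inv_mem _ (Subgroup.mem_inf.mp hc).1)
  have hk1 : k = 1 := by
    by_contra hk1
    obtain ⟨p, hp, hd⟩ := Nat.exists_prime_and_dvd (n := orderOf k)
      fun h => hk1 (orderOf_eq_one_iff.mp h)
    exact (hK.2.1 p hp (hd.trans (Subgroup.orderOf_dvd_natCard _ hk))).2.2.1
      (mem_sigma_of_mem_sigmaCore hkσ hp hd)
  rw [hk1, one_mul]
  exact hc

include hG hI in
theorem sigma_element_centralizer_dichotomy
    (M : Subgroup G) (hM : IsCoatom M) (x : G) (hx : x ∈ Cfsg.sigmaCore M) (hx1 : x ≠ 1) (x' : G) (hx' : x' ∈ M ⊓ Subgroup.centralizer ({x} : Set G)) (hx'1 : x' ≠ 1)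
    (hσ : ∀ p : ℕ, p.Prime → p ∣ orderOf x' → p ∉ Cfsg.sigma M) :
    ((∀ p : ℕ, p.Prime → p ∣ orderOf x' → p ∈ Cfsg.kappa M) ∧ Subgroup.centralizer ({x} : Set G) ≤ M) ∨
      ((∀ p : ℕ, p.Prime → p ∣ orderOf x' → p ∈ Cfsg.tau2 M) ∧
        (∃ L : Subgroup G, IsCoatom L ∧ ∀ p : ℕ, p.Prime → p ∣ orderOf x' → p ∈ Cfsg.sigma L) ∧
        (Subgroup.centralizer ({x'} : Set G) ≤ M ∧ ∀ L : Subgroup G, IsCoatom L → Subgroup.centralizer ({x'} : Set G) ≤ L → L = M)) := by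
  have hx'M : x' ∈ M := (Subgroup.mem_inf.mp hx').1
  have hcomm : x' * x = x * x' := Subgroup.mem_centralizer_singleton_iff.mp (Subgroup.mem_inf.mp hx').2
  have hall : ∀ p : ℕ, p.Prime → p ∣ orderOf x' → p ∈ Cfsg.kappa M ∨ p ∈ Cfsg.tau2 M := by
    intro p hp hd
    have := Fact.mk hp
    refine (tau2_or_rank_one hG hM hp (hσ p hp hd)).symm.imp (fun hr => ?_) id
    obtain ⟨y, hy, hyo⟩ := exists_mem_zpowers_prime hp hd
    exact mem_kappa hG hM (hσ p hp hd) hr (Subgroup.zpowers_le.mpr hx'M hy) hyo hx hx1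
      (Subgroup.mem_centralizer_singleton_iff.mp
        (centralizer_le_of_mem_zpowers hy (Subgroup.mem_centralizer_singleton_iff.mpr hcomm.symm))).symm
  by_cases hex : ∃ p, p.Prime ∧ p ∣ orderOf x' ∧ p ∈ Cfsg.kappa M
  · obtain ⟨p, hp, hd, hpκ⟩ := hex
    obtain ⟨y, hy, hyo⟩ := exists_mem_zpowers_prime hp hd
    have hYc : Nat.card (Subgroup.zpowers y) = p := by rw [Nat.card_zpowers, hyo]
    have hyM : y ∈ M := Subgroup.zpowers_le.mpr hx'M hy
    obtain ⟨K, hK, hYK⟩ := exists_hall_kappa_ge hG hI hM (Subgroup.zpowers_le.mpr hyM) fun r hr hrd => by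
      rw [hYc] at hrd
      rwa [(Nat.prime_dvd_prime_iff_eq hr hp).mp hrd]
    have hK1 : K ≠ ⊥ := fun h => hp.ne_one (by
      rw [h] at hYK
      rw [← hYc, le_bot_iff.mp hYK, Subgroup.card_bot])
    obtain ⟨hN, -, -⟩ := (hI.kappaHall M hM K hK hK1).2.2 _ hYK (hYc.symm ▸ hp)
    have hin : ∀ w ∈ M, w * x' = x' * w → w ∈ K ⊔ (Cfsg.sigmaCore M ⊓ Subgroup.centralizer (K : Set G)) :=
      fun w hw hwx => hN ▸ ⟨hw, centralizer_zpowers_le_normalizer y
        (centralizer_le_of_mem_zpowers hy (Subgroup.mem_centralizer_singleton_iff.mpr hwx))⟩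
    have hxC := sup_kstar_inf_sigma hK (hin x (sigmaCore_le M hx) hcomm.symm) hx
    refine Or.inl ⟨fun r hr hrd => (hall r hr hrd).resolve_right fun hrτ => ?_,
      centralizer_kstar_le hG hI hM hK hK1 hxC hx1⟩
    rcases piNat_sup_kstar hK r hr (hrd.trans (Subgroup.orderOf_dvd_natCard _ (hin x' hx'M rfl))) with h | h
    · exact hrτ.2.2.2 (pRankLE_one_of_kappa h)
    · exact hrτ.2.1 h
  · push_neg at hex
    have hτ : ∀ p : ℕ, p.Prime → p ∣ orderOf x' → p ∈ Cfsg.tau2 M :=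
      fun p hp hd => (hall p hp hd).resolve_left (hex p hp hd)
    obtain ⟨p, hp, hd⟩ := Nat.exists_prime_and_dvd (n := orderOf x')
      fun h => hx'1 (orderOf_eq_one_iff.mp h)
    obtain ⟨L, hL, hsub⟩ := tau2_subset_sigma hG hI.toLocal hM ⟨p, hτ p hp hd⟩
    obtain ⟨E, hE⟩ := exists_compl hG hM
    exact Or.inr ⟨hτ, ⟨L, hL, fun r hr hrd => hsub (hτ r hr hrd)⟩,
      (hI.nilpotent M hM E hE).2.2.2 x' hx'M hx'1 hτ ⟨hx'M, x, hx, hx1, hcomm⟩⟩

include hG hI in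
theorem supportR_spec {M : Subgroup G} (hM : IsCoatom M) {x : G} (hx : x ∈ Cfsg.sigmaCore M)
    (hx1 : x ≠ 1) {r : G} (hr : r ∈ Cfsg.supportR M x) :
    Commute x r ∧ (r = 1 ∨ ∃ L : Subgroup G, IsCoatom L ∧
      (∀ p : ℕ, p.Prime → p ∣ orderOf r → p ∈ Cfsg.sigma L) ∧
      (∀ p : ℕ, p.Prime → p ∣ orderOf x → p ∈ Cfsg.tau2 L) ∧
      ∀ p ∈ Cfsg.sigma L, p ∉ Cfsg.sigma M) := by
  by_cases hxM : Subgroup.centralizer ({x} : Set G) ≤ M
  · rw [Cfsg.supportR, dif_neg fun h => h.1 hxM, Subgroup.mem_bot] at hr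
    exact ⟨hr ▸ Commute.one_right x, Or.inl hr⟩
  obtain ⟨L, hL, honly, -, hnil, -, hτ⟩ := centralizer_partner hG hI hM hx hx1 hxM
  rw [supportR_eq hG hL hxM honly hnil] at hr
  refine ⟨(Subgroup.mem_centralizer_singleton_iff.mp (Subgroup.mem_inf.mp hr).2).symm,
    Or.inr ⟨L, hL, fun p hp hd => mem_sigma_of_mem_sigmaCore (Subgroup.mem_inf.mp hr).1 hp hd, hτ,
      fun p hp hpM => ?_⟩⟩
  obtain ⟨q, hq, hqd⟩ := Nat.exists_prime_and_dvd (n := orderOf x)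
    fun h => hx1 (orderOf_eq_one_iff.mp h)
  exact (hτ q hq hqd).2.1
    (sigma_eq_of_sigma hI.disjoint hM hL hpM hp ▸ mem_sigma_of_mem_sigmaCore hx hq hqd)

omit [Group G] [Finite G] in
/-- The `π`-part of a product of commuting elements is unique. -/
theorem eq_of_parts {G : Type u} [Group G] [Finite G] {x y r s : G} (hxr : Commute x r)
    (hys : Commute y s) (he : x * r = y * s)
    (hcop : (orderOf r * orderOf s).Coprime (orderOf x * orderOf y)) : x = y := by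
  set n := orderOf r * orderOf s with hn
  have h1 : x ^ n = y ^ n := by
    have h := congrArg (· ^ n) he
    simp only [hxr.mul_pow, hys.mul_pow] at h
    rwa [hn, pow_mul r, pow_orderOf_eq_one, one_pow, mul_one, mul_comm (orderOf r), pow_mul s,
      pow_orderOf_eq_one, one_pow, mul_one, mul_comm (orderOf s)] at h
  set m : ℤ := Nat.gcdA n (orderOf x * orderOf y) with hm
  have key : ∀ z : G, orderOf z ∣ orderOf x * orderOf y → (z ^ n) ^ m = z := fun z hz => by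
    have hb := Nat.gcd_eq_gcd_ab n (orderOf x * orderOf y)
    rw [hcop.gcd_eq_one, Nat.cast_one] at hb
    have hz1 : z ^ ((orderOf x * orderOf y : ℕ) : ℤ) = 1 := by
      rw [zpow_natCast]
      exact orderOf_dvd_iff_pow_eq_one.mp hz
    have h := congrArg (fun e : ℤ => z ^ e) hb
    simp only [zpow_one, zpow_add, zpow_mul, hz1, one_zpow, mul_one, zpow_natCast] at h
    exact h.symm
  rw [← key x (dvd_mul_right _ _), h1, key y (dvd_mul_left _ _)]

include hG hI in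
theorem sigma_cosets_disjoint
    (M N : Subgroup G) (hM : IsCoatom M) (hN : IsCoatom N) (x y : G) (hx : x ∈ Cfsg.sigmaCore M) (hy : y ∈ Cfsg.sigmaCore N)
    (hx1 : x ≠ 1) (hy1 : y ≠ 1) (hxy : x ≠ y) :
    ∀ r ∈ Cfsg.supportR M x, ∀ s ∈ Cfsg.supportR N y, x * r ≠ y * s := by
  intro r hr s hs he
  obtain ⟨hxr, hr'⟩ := supportR_spec hG hI hM hx hx1 hr
  obtain ⟨hys, hs'⟩ := supportR_spec hG hI hN hy hy1 hs
  have hrσ : ∀ p : ℕ, p.Prime → p ∣ orderOf r → p ∉ Cfsg.sigma M := by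
    intro p hp hd
    rcases hr' with rfl | ⟨L, -, h1, -, h3⟩
    · exact absurd (Nat.dvd_one.mp (orderOf_one (G := G) ▸ hd)) hp.ne_one
    · exact h3 p (h1 p hp hd)
  have hsσ : ∀ p : ℕ, p.Prime → p ∣ orderOf s → p ∉ Cfsg.sigma N := by
    intro p hp hd
    rcases hs' with rfl | ⟨L, -, h1, -, h3⟩
    · exact absurd (Nat.dvd_one.mp (orderOf_one (G := G) ▸ hd)) hp.ne_one
    · exact h3 p (h1 p hp hd)
  by_cases hcommon : ∃ p, p ∈ Cfsg.sigma M ∧ p ∈ Cfsg.sigma N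
  · obtain ⟨p₀, h1, h2⟩ := hcommon
    have heq := sigma_eq_of_sigma hI.disjoint hM hN h1 h2
    refine hxy (eq_of_parts hxr hys he (Nat.coprime_of_dvd fun p hp hd1 hd2 => ?_))
    have hin : p ∈ Cfsg.sigma M := (hp.dvd_mul.mp hd2).elim (mem_sigma_of_mem_sigmaCore hx hp)
      (fun h => heq ▸ mem_sigma_of_mem_sigmaCore hy hp h)
    exact (hp.dvd_mul.mp hd1).elim (fun h => hrσ p hp h hin) (fun h => hsσ p hp h (heq ▸ hin))
  push_neg at hcommon
  have key : ∀ {M N : Subgroup G} {x y r s : G}, IsCoatom M → IsCoatom N →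
      x ∈ Cfsg.sigmaCore M → y ∈ Cfsg.sigmaCore N → x ≠ 1 → y ≠ 1 →
      Commute x r → Commute y s → x * r = y * s →
      (∀ p : ℕ, p.Prime → p ∣ orderOf r → p ∉ Cfsg.sigma M) →
      (∀ p, p ∈ Cfsg.sigma M → p ∉ Cfsg.sigma N) →
      (s = 1 ∨ ∃ L : Subgroup G, IsCoatom L ∧
        (∀ p : ℕ, p.Prime → p ∣ orderOf s → p ∈ Cfsg.sigma L) ∧
        (∀ p : ℕ, p.Prime → p ∣ orderOf y → p ∈ Cfsg.tau2 L) ∧
        ∀ p ∈ Cfsg.sigma L, p ∉ Cfsg.sigma N) →
      ∃ q, q ∈ Cfsg.tau2 M ∧ q ∈ Cfsg.sigma N := by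
    intro M N x y r s hM hN hx hy hx1 hy1 hxr hys he hrσ hdis hs'
    obtain ⟨p, hp, hd⟩ := Nat.exists_prime_and_dvd (n := orderOf x)
      fun h => hx1 (orderOf_eq_one_iff.mp h)
    have hpM := mem_sigma_of_mem_sigmaCore hx hp hd
    have hcop : (orderOf x).Coprime (orderOf r) := Nat.coprime_of_dvd fun t ht h1 h2 =>
      hrσ t ht h2 (mem_sigma_of_mem_sigmaCore hx ht h1)
    have hz : p ∣ orderOf (y * s) := by
      rw [← he, hxr.orderOf_mul_eq_mul_orderOf_of_coprime hcop]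
      exact hd.mul_right _
    rcases hp.dvd_mul.mp (hz.trans hys.orderOf_mul_dvd_mul_orderOf) with h | h
    · exact absurd (mem_sigma_of_mem_sigmaCore hy hp h) (hdis p hpM)
    obtain ⟨L, hL, h1, h2, -⟩ := hs'.resolve_left fun hs1 => by
      rw [hs1, orderOf_one] at h
      exact hp.ne_one (Nat.dvd_one.mp h)
    obtain ⟨g, rfl⟩ := exists_cj_eq_of_sigma hI.disjoint hM hL hpM (h1 p hp h)
    obtain ⟨q, hq, hqd⟩ := Nat.exists_prime_and_dvd (n := orderOf y)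
      fun h => hy1 (orderOf_eq_one_iff.mp h)
    exact ⟨q, tau2_cj g M ▸ h2 q hq hqd, mem_sigma_of_mem_sigmaCore hy hq hqd⟩
  obtain ⟨q, hqM, hqN⟩ := key hM hN hx hy hx1 hy1 hxr hys he hrσ hcommon hs'
  obtain ⟨p, hpN, hpM⟩ := key hN hM hy hx hy1 hx1 hys hxr he.symm hsσ
    (fun p h1 h2 => hcommon p h2 h1) hr'
  exact no_mutual hG hI.toLocal hM hN hqM hqN hpN hpM

include hG hI in
/-- S1436 (b). -/
theorem partner_conj_by_mem
    (M : Subgroup G) (hM : IsCoatom M) (x : G) (hx : x ∈ Cfsg.sigmaCore M) (hx1 : x ≠ 1) (hxM : ¬ Subgroup.centralizer ({x} : Set G) ≤ M)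
    (N : Subgroup G) (hN : IsCoatom N) (hxN : Subgroup.centralizer ({x} : Set G) ≤ N) :
    ∀ (y : G) (N' : Subgroup G) (g : G), y ∈ Cfsg.sigmaCore M → y ≠ 1 → ¬ Subgroup.centralizer ({y} : Set G) ≤ M → IsCoatom N' → Subgroup.centralizer ({y} : Set G) ≤ N' →
        N'.map (MulAut.conj g).toMonoidHom = N → ∃ m ∈ M, N'.map (MulAut.conj m).toMonoidHom = N := by
  intro y N' g hy hy1 hyM hN' hyN' hgN
  change cj g N' = N at hgN
  obtain ⟨L, -, honly, -, -, hc, hτ⟩ := centralizer_partner hG hI hM hx hx1 hxM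
  obtain rfl : N = L := honly.2 N hN hxN
  obtain ⟨L', -, honly', -, -, hc', -⟩ := centralizer_partner hG hI hM hy hy1 hyM
  obtain rfl : N' = L' := honly'.2 N' hN' hyN'
  obtain ⟨p, hp, hd⟩ := Nat.exists_prime_and_dvd (n := orderOf x)
    fun h => hx1 (orderOf_eq_one_iff.mp h)
  have := Fact.mk hp
  have hpσ := mem_sigma_of_mem_sigmaCore hx hp hd
  have hNsolv := minSimple_solvable hG hN.1
  have hle : cj g (M ⊓ N') ≤ N := (cj_mono inf_le_right).trans hgN.le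
  have hidx : ∀ r : ℕ, r.Prime → r ∈ (Cfsg.sigma N)ᶜ → ¬ r ∣ (M ⊓ N).relIndex N := fun r hr hrσ hd' => by
    rw [IsComplIn.relIndex_left hc] at hd'
    exact hrσ (piNat_card_piCoreOf (Cfsg.sigma N) N r hr hd')
  obtain ⟨n, hn, hnle⟩ := OddOrder41.exists_conj_into (π := (Cfsg.sigma N)ᶜ) inf_le_right hidx hle
    (fun r hr hrd => by
      rw [card_cj] at hrd
      rw [← hgN, Set.mem_compl_iff, sigma_cj]
      exact not_mem_sigma_of_compl hG hN' hc' hr hrd)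
  set m := n * g with hm
  have hmN : cj m N' = N := by rw [hm, ← cj_mul, hgN, cj_eq_of_mem hn]
  have hle2 : cj m (M ⊓ N') ≤ M ⊓ N := by rw [hm, ← cj_mul]; exact hnle
  have hcard : Nat.card ↥(M ⊓ N) ≤ Nat.card ↥(cj m (M ⊓ N')) := by
    rw [card_cj]
    have e1 := card_mul_relIndex_of_le (inf_le_right : M ⊓ N ≤ N)
    have e2 := card_mul_relIndex_of_le (inf_le_right : M ⊓ N' ≤ N')
    rw [IsComplIn.relIndex_left hc] at e1
    rw [IsComplIn.relIndex_left hc'] at e2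
    have e3 : Nat.card ↥(Cfsg.sigmaCore N) = Nat.card ↥(Cfsg.sigmaCore N') := by
      rw [← hmN, sigmaCore_cj, card_cj]
    have e4 : Nat.card ↥N = Nat.card ↥N' := by rw [← hmN, card_cj]
    rw [e3, e4, ← e2] at e1
    exact (Nat.eq_of_mul_eq_mul_right Nat.card_pos e1).le
  have heq := Subgroup.eq_of_le_of_card_ge hle2 hcard
  obtain ⟨A, hA, hAe, hA2⟩ := exists_plane_compl hG hN hc (hτ p hp hd)
  refine ⟨m, ?_, hmN⟩
  by_contra hmM
  have hAσ : A ≤ Cfsg.sigmaCore M := le_sigmaCore hG hM (hA.trans inf_le_left) fun r hr hrd => by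
    rw [hA2] at hrd
    rwa [(Nat.prime_dvd_prime_iff_eq hr hp).mp (hr.dvd_of_dvd_pow hrd)]
  have hAm : A ≤ cj m M := hA.trans (heq.symm.le.trans (cj_mono inf_le_left))
  have hcyc := (sigmaCore_inter_conj hG hM hI.rankTwo hI.nilpotent hmM).1
  exact Sigma11.not_isCyclic_plane hAe hA2
    (isCyclic_of_injective (Subgroup.inclusion (le_inf hAσ hAm)) (Subgroup.inclusion_injective _))

end CfsgLib.OddOrder38
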