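import Mathlib
import Cfsg.Agent.Lib.OddOrder38.Main1431

/-!
# BG 14.7 (b), (c): `K*` is a Hall `σ(M)`-subgroup of the partner of `M`
-/

set_option autoImplicit false

namespace CfsgLib.OddOrder38

open Subgroup CfsgLib.OddOrder CfsgLib.OddOrder.Transitivity CfsgLib.OddOrder41
open scoped commutatorElement

universe u

variable {G : Type u} [Group G] [Finite G] (hG : Cfsg.IsMinSimpleOddOrder G) (hI : Inputs G)
  {M K : Subgroup G} (hM : IsCoatom M) (hK : Cfsg.IsPiHallOf (Cfsg.kappa M) K M) (hK1 : K ≠ ⊥)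

/-- A plane is not contained in a group of rank one. -/
theorem not_plane_le_of_rank_one {M A : Subgroup G} {q : ℕ} (hq : q.Prime)
    (h : Cfsg.PRankLE q 1 M) (hAM : A ≤ M)
    (hAe : Cfsg.IsElementaryAbelian q A) (hA2 : Nat.card A = q ^ 2) : False := by
  have h' := pRankLE_iff.mp h (A.subgroupOf M) (elemAb_comap hAe M.subtype M.subtype_injective)
  rw [Nat.card_congr (Subgroup.subgroupOfEquivOfLe hAM).toEquiv, hA2] at h'
  exact absurd h' (not_le.mpr (Nat.pow_lt_pow_right hq.one_lt (by norm_num)))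

/-- Two elements of order `q` of an abelian subgroup of rank one generate the same subgroup. -/
theorem zpowers_eq_of_rank_one {M U : Subgroup G} {q : ℕ} [hq : Fact q.Prime]
    (h : Cfsg.PRankLE q 1 M) (hUM : U ≤ M) (hU : IsMulCommutative U) {a b : G} (ha : a ∈ U)
    (hb : b ∈ U) (hao : orderOf a = q) (hbo : orderOf b = q) :
    b ∈ Subgroup.zpowers a := by
  by_contra hba
  have hc : b ∈ Subgroup.centralizer ((Subgroup.zpowers a : Subgroup G) : Set G) := by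
    rw [OddOrder41.centralizer_zpowers, Subgroup.mem_centralizer_singleton_iff]
    exact mul_comm_of_mem hU hb ha
  set A := Subgroup.zpowers a ⊔ Subgroup.zpowers b
  have hAe : Cfsg.IsElementaryAbelian q A :=
    elemAb_sup_zpowers (elemAb_zpowers (hao ▸ pow_orderOf_eq_one a)) (hbo ▸ pow_orderOf_eq_one b) hc
  have hinf : Subgroup.zpowers a ⊓ Subgroup.zpowers b = ⊥ := by
    by_contra hne
    have hd := Subgroup.card_dvd_of_le (inf_le_right : Subgroup.zpowers a ⊓ Subgroup.zpowers b ≤ _)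
    rw [Nat.card_zpowers, hbo] at hd
    rcases (Nat.dvd_prime hq.out).mp hd with h1 | h1
    · exact hne (Subgroup.card_eq_one.mp h1)
    · exact hba ((Subgroup.eq_of_le_of_card_ge
        (inf_le_right : Subgroup.zpowers a ⊓ Subgroup.zpowers b ≤ _)
        (by rw [Nat.card_zpowers, hbo, h1])).ge.trans inf_le_left (Subgroup.mem_zpowers b))
  refine not_plane_le_of_rank_one hq.out h (sup_le (Subgroup.zpowers_le.mpr (hUM ha))
    (Subgroup.zpowers_le.mpr (hUM hb))) hAe ?_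
  rw [sup_comm, CfsgLib.Coprime.card_sup_of_disjoint
    (Subgroup.zpowers_le.mpr (Subgroup.centralizer_le_normalizer _ hc)) hinf,
    Nat.card_zpowers, Nat.card_zpowers, hao, hbo, sq]

include hI hM hK hK1 in
/-- `K* ≠ 1`. -/
theorem kstar_ne_bot : Cfsg.sigmaCore M ⊓ Subgroup.centralizer (K : Set G) ≠ ⊥ := by
  obtain ⟨q, hq, hqd⟩ := Nat.exists_prime_and_dvd (n := Nat.card K) fun h =>
    hK1 (Subgroup.card_eq_one.mp h)
  have := Fact.mk hq
  obtain ⟨k, hk⟩ := exists_prime_orderOf_dvd_card' (G := K) q hqd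
  have hko : orderOf (k : G) = q := by rw [Subgroup.orderOf_coe, hk]
  have hqκ := hK.2.1 q hq hqd
  obtain ⟨R, hR, hXR⟩ := exists_sylowOf_ge (Subgroup.zpowers_le.mpr (hK.1 k.2))
    (IsPGroup.of_card (n := 1) (by rw [Nat.card_zpowers, hko, pow_one]) :
      IsPGroup q (Subgroup.zpowers (k : G)))
  obtain ⟨T, hT⟩ := hR.toSylow
  obtain ⟨hcyc, x, hxT, hx1, y, hy, hy1, hxy⟩ := hqκ.2.2.2 T
  have hRc : IsCyclic R := by
    rw [← hT]
    exact isCyclic_of_surjective ((T : Subgroup M).equivMapOfInjective M.subtype M.subtype_injective).toMonoidHom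
      (MulEquiv.surjective _)
  have hxR : (x : G) ∈ R := hT ▸ ⟨x, hxT, rfl⟩
  obtain ⟨n, hn⟩ := IsPGroup.iff_orderOf.mp hR.2.1 ⟨x, hxR⟩
  have hxd : q ∣ orderOf (x : G) := by
    rw [Subgroup.orderOf_mk] at hn
    rw [hn]
    refine dvd_pow_self q fun h0 => hx1 (Subtype.ext ?_)
    rw [h0, pow_zero, orderOf_eq_one_iff] at hn
    exact hn
  obtain ⟨w, hw, hwo⟩ := exists_mem_zpowers_prime hq hxd
  have hkw : Subgroup.zpowers (k : G) = Subgroup.zpowers w :=
    eq_of_card_eq_cyclic hRc hXR (Subgroup.zpowers_le.mpr (Subgroup.zpowers_le.mpr hxR hw))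
      (by rw [Nat.card_zpowers, Nat.card_zpowers, hko, hwo])
  have hyw : y ∈ Subgroup.centralizer ({(k : G)} : Set G) := by
    rw [← OddOrder41.centralizer_zpowers, hkw, OddOrder41.centralizer_zpowers]
    exact centralizer_le_of_mem_zpowers hw (Subgroup.mem_centralizer_singleton_iff.mpr hxy.symm)
  have hk1 : (k : G) ≠ 1 := fun h => hq.ne_one (by rw [← hko, h, orderOf_one])
  rw [← (hI.kappaHall M hM K hK hK1).1 k k.2 hk1]
  exact fun h => hy1 (Subgroup.mem_bot.mp (h ▸ (⟨hy, hyw⟩ :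
    y ∈ Cfsg.sigmaCore M ⊓ Subgroup.centralizer ({(k : G)} : Set G))))

variable {Mstar : Subgroup G} (hMstar : IsCoatom Mstar)
  (hKs : K ≤ Cfsg.sigmaCore Mstar)
  (hKstH : Cfsg.IsPiHallOf (Cfsg.kappa Mstar) (Cfsg.sigmaCore M ⊓ Subgroup.centralizer (K : Set G)) Mstar)

include hI hM hMstar hKs hK hK1 in
theorem sigma_partner_disjoint {p : ℕ} (hp : p ∈ Cfsg.sigma M) : p ∉ Cfsg.sigma Mstar := by
  intro hps
  obtain ⟨q, hq, hqd⟩ := Nat.exists_prime_and_dvd (n := Nat.card K) fun h =>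
    hK1 (Subgroup.card_eq_one.mp h)
  exact (hK.2.1 q hq hqd).2.2.1 (sigma_eq_of_sigma hI.disjoint hM hMstar hp hps ▸
    piNat_card_piCoreOf (Cfsg.sigma Mstar) Mstar q hq (hqd.trans (Subgroup.card_dvd_of_le hKs)))

include hG hI hM hK hK1 hMstar hKs hKstH in
/-- `τ₂(M*)` avoids `σ(M)`. -/
theorem tau2_partner_disjoint {p : ℕ} (hpσ : p ∈ Cfsg.sigma M) : p ∉ Cfsg.tau2 Mstar := by
  intro hpτ
  have := Fact.mk hpτ.1
  set C := Cfsg.sigmaCore M ⊓ Subgroup.centralizer (K : Set G) with hC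
  obtain ⟨E, hE, hCE⟩ := exists_compl_ge hG hMstar hKstH.1 fun r hr hd => (hKstH.2.1 r hr hd).2.2.1
  obtain ⟨B, hBE, hBe, hB2⟩ := exists_plane_compl hG hMstar hE hpτ
  obtain ⟨⟨hBn, -⟩, -, -⟩ := hI.tauTwoCompl Mstar hMstar E hE p hpτ B ⟨hBE, hBe, hB2⟩
  obtain ⟨-, -, -, -, hint, -⟩ := hI.tauTwo Mstar hMstar p hpτ B ⟨hBE.trans hE.1, hBe, hB2⟩
  have hY : ∀ r : ℕ, r.Prime → r ∣ Nat.card ↥(C ⊔ B) → r ∈ Cfsg.sigma M := fun r hr hd => by
    rcases hr.dvd_mul.mp (hd.trans (card_sup_dvd_mul (hCE.trans hBn))) with h | h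
    · exact piNat_card_piCoreOf (Cfsg.sigma M) M r hr (h.trans (Subgroup.card_dvd_of_le inf_le_left))
    · rw [hB2] at h
      rwa [(Nat.prime_dvd_prime_iff_eq hr hpτ.1).mp (hr.dvd_of_dvd_pow h)]
  have hne : (C ⊔ B) ⊓ C ≠ ⊥ := by
    rw [inf_eq_right.mpr (le_sup_left : C ≤ C ⊔ B)]
    exact kstar_ne_bot hI hM hK hK1
  have hBM : B ≤ M := (le_sup_right.trans
    (le_sigmaCore_of_meets_kstar hG hI hM hK hK1 hY hne)).trans (sigmaCore_le M)
  have hne2 : M ≠ Mstar := fun h =>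
    sigma_partner_disjoint hI hM hK hK1 hMstar hKs hpσ (h ▸ hpσ)
  have hbot := hint M hM hne2 hBM
  exact hK1 (le_bot_iff.mp (hbot ▸ le_inf hKs hK.1))

include hG hI hM hK hK1 hMstar hKs hKstH in
/-- **BG 14.7 (b)**: `K*` is a Hall `σ(M)`-subgroup of `M*`. -/
theorem kstar_hall_sigma :
    Cfsg.IsPiHallOf (Cfsg.sigma M) (Cfsg.sigmaCore M ⊓ Subgroup.centralizer (K : Set G)) Mstar := by
  set C := Cfsg.sigmaCore M ⊓ Subgroup.centralizer (K : Set G) with hC
  refine ⟨hKstH.1, fun p hp hd => piNat_card_piCoreOf (Cfsg.sigma M) M p hp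
    (hd.trans (Subgroup.card_dvd_of_le inf_le_left)), fun s hs hsσ hd => ?_⟩
  have := Fact.mk hs
  have hsM : s ∣ Nat.card Mstar := hd.trans (Subgroup.relIndex_dvd_card _ _)
  have hs1 := sigma_partner_disjoint hI hM hK hK1 hMstar hKs hsσ
  have hsκ : s ∉ Cfsg.kappa Mstar := fun h => hKstH.2.2 s hs h hd
  have hC1 : C ≠ ⊥ := kstar_ne_bot hI hM hK hK1
  have hrank : Cfsg.PRankLE s 1 Mstar := (tau2_or_rank_one hG hMstar hs hs1).resolve_left
    (tau2_partner_disjoint hG hI hM hK hK1 hMstar hKs hKstH hsσ)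
  obtain ⟨U, E, -, -, hUc, hCU, -, hU, -⟩ := exists_compl_kappa hG hI hMstar hKstH hC1
  have hsU : s ∣ Nat.card U := by
    rw [← card_mul_relIndex_of_le hU.1] at hsM
    exact (hs.dvd_mul.mp hsM).resolve_right (hU.2.2 s hs ⟨hs, hsκ, hs1⟩)
  obtain ⟨a', ha'⟩ := exists_prime_orderOf_dvd_card' (G := U) s hsU
  set a : G := (a' : G) with ha
  have haU : a ∈ U := a'.2
  have hao : orderOf a = s := by rw [ha, Subgroup.orderOf_coe, ha']
  have hCn : C ≤ Subgroup.normalizer ((Subgroup.zpowers a : Subgroup G) : Set G) := fun c hc => by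
    refine CfsgLib.Coprime.mem_normalizer_of_forall_conj fun w hw => ?_
    obtain ⟨i, rfl⟩ := Subgroup.mem_zpowers_iff.mp hw
    rw [← conj_zpow]
    refine Subgroup.zpow_mem _ (zpowers_eq_of_rank_one hrank hU.1 hUc haU
      ((Subgroup.mem_normalizer_iff.mp (hCU hc) a).mp haU) hao ?_) i
    rw [show c * a * c⁻¹ = MulAut.conj c a from rfl, MulEquiv.orderOf_eq, hao]
  have hY : ∀ r : ℕ, r.Prime → r ∣ Nat.card ↥(C ⊔ Subgroup.zpowers a) → r ∈ Cfsg.sigma M := fun r hr hd => by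
    rcases hr.dvd_mul.mp (hd.trans (card_sup_dvd_mul hCn)) with h | h
    · exact piNat_card_piCoreOf (Cfsg.sigma M) M r hr (h.trans (Subgroup.card_dvd_of_le inf_le_left))
    · rw [Nat.card_zpowers, hao] at h
      rwa [(Nat.prime_dvd_prime_iff_eq hr hs).mp h]
  have hne : (C ⊔ Subgroup.zpowers a) ⊓ C ≠ ⊥ := by
    rw [inf_eq_right.mpr (le_sup_left : C ≤ C ⊔ Subgroup.zpowers a)]
    exact hC1
  have haσ : a ∈ Cfsg.sigmaCore M :=
    le_sigmaCore_of_meets_kstar hG hI hM hK hK1 hY hne (Subgroup.mem_sup_right (Subgroup.mem_zpowers a))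
  have haC : a ∈ C := by
    refine ⟨haσ, Subgroup.mem_centralizer_iff.mpr fun k hk => ?_⟩
    have h1 : k * a * k⁻¹ * a⁻¹ ∈ Cfsg.sigmaCore M :=
      mul_mem ((Subgroup.mem_normalizer_iff.mp (piCoreOf_normal _ _ (hK.1 hk)) a).mp haσ) (inv_mem haσ)
    have h2 : k * a * k⁻¹ * a⁻¹ ∈ Cfsg.sigmaCore Mstar := by
      have h := mul_mem (hKs hk) ((Subgroup.mem_normalizer_iff.mp
        (piCoreOf_normal (Cfsg.sigma Mstar) Mstar (hU.1 haU)) k⁻¹).mp (inv_mem (hKs hk)))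
      simpa [mul_assoc] using h
    have h3 : k * a * k⁻¹ * a⁻¹ = 1 := by
      by_contra h3
      obtain ⟨r, hr, hrd⟩ := Nat.exists_prime_and_dvd (n := orderOf (k * a * k⁻¹ * a⁻¹))
        fun h => h3 (orderOf_eq_one_iff.mp h)
      exact sigma_partner_disjoint hI hM hK hK1 hMstar hKs (mem_sigma_of_mem_sigmaCore h1 hr hrd)
        (mem_sigma_of_mem_sigmaCore h2 hr hrd)
    exact commutatorElement_eq_one_iff_mul_comm.mp (by rw [commutatorElement_def]; exact h3)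
  exact hsκ (hKstH.2.1 s hs (hao ▸ Subgroup.orderOf_dvd_natCard _ haC))

end CfsgLib.OddOrder38
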