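import Mathlib
import Cfsg.Agent.Lib.OddOrder38.KStarHall

/-!
# S1434 (BG 14.7) from the inputs of `Props14`
-/

set_option autoImplicit false

namespace CfsgLib.OddOrder38

open Subgroup CfsgLib.OddOrder CfsgLib.OddOrder.Transitivity CfsgLib.OddOrder41
open scoped commutatorElement

universe u

variable {G : Type u} [Group G] [Finite G] (hG : Cfsg.IsMinSimpleOddOrder G) (hI : Inputs G)
  {M K U : Subgroup G} (hM : IsCoatom M) (hKU : Cfsg.IsSigmaDecomposition M K U) (hK1 : K ≠ ⊥)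

omit [Finite G] in
theorem le_normalizer_sup {A B C : Subgroup G} (h1 : C ≤ Subgroup.normalizer (A : Set G))
    (h2 : C ≤ Subgroup.normalizer (B : Set G)) :
    C ≤ Subgroup.normalizer ((A ⊔ B : Subgroup G) : Set G) := by
  intro c hc
  refine mem_normalizer_of_cj_eq ?_
  rw [Transitivity.cj, Subgroup.map_sup]
  exact congrArg₂ (· ⊔ ·) (cj_eq_of_mem_normalizer (h1 hc)) (cj_eq_of_mem_normalizer (h2 hc))

include hG hM hKU in
/-- The factor `U` of a standard factorisation is a Hall `(κ ∪ σ)'`-subgroup. -/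
theorem decomp_U_hall :
    Cfsg.IsPiHallOf {q | q.Prime ∧ q ∉ Cfsg.kappa M ∧ q ∉ Cfsg.sigma M} U M := by
  set S := Cfsg.sigmaCore M with hS
  have hall := (Sigma10.sigmaCore_hall hG hM).1
  have hidx : U.relIndex M = Nat.card ↥(K ⊔ S) := IsComplIn.relIndex_left hKU.compl
  have hcard : Nat.card U = (K ⊔ S).relIndex M := by
    refine (IsComplIn.relIndex_left (A := K ⊔ S) (B := U) ⟨hKU.compl.2.1, hKU.compl.1,
      by rw [inf_comm]; exact hKU.compl.2.2.1, fun m hm => ?_⟩).symm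
    obtain ⟨a, ha, b, hb, he⟩ := hKU.compl.2.2.2 m⁻¹ (M.inv_mem hm)
    exact ⟨b⁻¹, inv_mem hb, a⁻¹, inv_mem ha, by rw [← inv_inv m, he, mul_inv_rev]⟩
  refine ⟨hKU.compl.1, fun p hp hd => ⟨hp, fun hpκ => ?_, fun hpσ => ?_⟩, fun p hp hpU hd => ?_⟩
  · refine hKU.hall.2.2 p hp hpκ ?_
    rw [hcard] at hd
    rw [← Subgroup.relIndex_mul_relIndex K (K ⊔ S) M le_sup_left hKU.compl.2.1]
    exact hd.mul_left _
  · refine hall.2.2 p hp hpσ ?_
    rw [hcard] at hd
    rw [← Subgroup.relIndex_mul_relIndex S (K ⊔ S) M le_sup_right hKU.compl.2.1]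
    exact hd.mul_left _
  · rw [hidx] at hd
    rcases hp.dvd_mul.mp (hd.trans (card_sup_dvd_mul (hKU.hall.1.trans (piCoreOf_normal _ _)))) with h | h
    · exact hpU.2.1 (hKU.hall.2.1 p hp h)
    · exact hpU.2.2 (hall.2.1 p hp h)

include hG hI hM hKU hK1 in
/-- `C_U(k) = 1`. -/
theorem decomp_fpf {k : G} (hk : k ∈ K) (hk1 : k ≠ 1) :
    U ⊓ Subgroup.centralizer ({k} : Set G) = ⊥ := by
  refine (Subgroup.eq_bot_iff_forall _).mpr fun u hu => ?_
  by_contra hu1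
  obtain ⟨p, hp, hd⟩ := Nat.exists_prime_and_dvd (n := orderOf k)
    fun h => hk1 (orderOf_eq_one_iff.mp h)
  obtain ⟨y, hy, hyo⟩ := exists_mem_zpowers_prime hp hd
  have hYK : Subgroup.zpowers y ≤ K := Subgroup.zpowers_le.mpr (Subgroup.zpowers_le.mpr hk hy)
  obtain ⟨hN, -, -⟩ := (hI.kappaHall M hM K hKU.hall hK1).2.2 _ hYK
    (by rw [Nat.card_zpowers, hyo]; exact hp)
  have hu' := Subgroup.mem_inf.mp hu
  have huN : u ∈ M ⊓ Subgroup.normalizer ((Subgroup.zpowers y : Subgroup G) : Set G) :=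
    ⟨hKU.compl.1 hu'.1, centralizer_zpowers_le_normalizer y (centralizer_le_of_mem_zpowers hy hu'.2)⟩
  rw [hN] at huN
  obtain ⟨r, hr, hrd⟩ := Nat.exists_prime_and_dvd (n := orderOf u)
    fun h => hu1 (orderOf_eq_one_iff.mp h)
  have hrU := (decomp_U_hall hG hM hKU).2.1 r hr (hrd.trans (Subgroup.orderOf_dvd_natCard _ hu'.1))
  rcases piNat_sup_kstar hKU.hall r hr (hrd.trans (Subgroup.orderOf_dvd_natCard _ huN)) with h | h
  · exact hrU.2.1 h
  · exact hrU.2.2 h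

include hG hI hM hKU hK1 in
/-- `U = [U, K]`. -/
theorem decomp_commutator : ⁅U, K⁆ = U := by
  have hU := decomp_U_hall hG hM hKU
  have hcop : (Nat.card K).Coprime (Nat.card U) :=
    Nat.coprime_of_dvd fun r hr h1 h2 => (hU.2.1 r hr h2).2.1 (hKU.hall.2.1 r hr h1)
  have hs : Group.IsSolvable U := by
    have := minSimple_solvable hG hM.1
    exact solvable_of_solvable_injective (Subgroup.inclusion_injective hU.1)
  have h := CfsgLib.Coprime.commutator_sup_centralizer K U hKU.normal hcop (Or.inr hs)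
  obtain ⟨k, hk, hk1⟩ := (Subgroup.bot_or_exists_ne_one K).resolve_left hK1
  have hbot : U ⊓ Subgroup.centralizer (K : Set G) = ⊥ := le_bot_iff.mp
    (decomp_fpf hG hI hM hKU hK1 hk hk1 ▸
      inf_le_inf le_rfl (Subgroup.centralizer_le (Set.singleton_subset_iff.mpr hk)))
  rwa [hbot, sup_bot_eq] at h

include hM hKU in
/-- `M' ≤ U M_σ`. -/
theorem decomp_derived_le : ⁅M, M⁆ ≤ U ⊔ Cfsg.sigmaCore M := by
  set S := Cfsg.sigmaCore M with hS
  have hSM : S ≤ M := sigmaCore_le M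
  have hSn : M ≤ Subgroup.normalizer (S : Set G) := piCoreOf_normal _ _
  set N := U ⊔ S with hN
  have hNM : N ≤ M := sup_le hKU.compl.1 hSM
  have hKn : K ≤ Subgroup.normalizer (N : Set G) :=
    le_normalizer_sup hKU.normal (hKU.hall.1.trans hSn)
  have hMn : M ≤ Subgroup.normalizer (N : Set G) := fun m hm => by
    obtain ⟨a, ha, b, hb, rfl⟩ := hKU.compl.2.2.2 m hm
    exact mul_mem (Subgroup.le_normalizer (Subgroup.mem_sup_left ha))
      (sup_le hKn (le_sup_right.trans Subgroup.le_normalizer) hb)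
  have hn : (N.subgroupOf M).Normal := (Subgroup.normal_subgroupOf_iff_le_normalizer hNM).mpr hMn
  have htop : N.subgroupOf M ⊔ K.subgroupOf M = ⊤ := by
    rw [eq_top_iff]
    rintro ⟨m, hm⟩ -
    obtain ⟨a, ha, b, hb, he⟩ := hKU.compl.2.2.2 m hm
    rw [Subgroup.subgroupOf_sup hNM hKU.hall.1 |>.symm]
    show m ∈ N ⊔ K
    rw [he]
    exact mul_mem (Subgroup.mem_sup_left (Subgroup.mem_sup_left ha))
      (sup_le (le_sup_right : K ≤ N ⊔ K) ((le_sup_right : S ≤ N).trans le_sup_left) hb)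
  have hKc : IsMulCommutative (K.subgroupOf M) := by
    have := hKU.cyclic
    have hc : IsMulCommutative K := IsCyclic.isMulCommutative
    exact ⟨⟨fun a b => Subtype.ext (Subtype.ext (mul_comm_of_mem hc a.2 b.2))⟩⟩
  have h := Subgroup.map_mono (f := M.subtype)
    (Subgroup.Normal.commutator_le_of_self_sup_commutative_eq_top htop hKc)
  rwa [M.map_subtype_commutator, Subgroup.map_subgroupOf_eq_of_le hNM] at h

include hG hI hM hKU hK1 in
theorem kappa_eq_tau1 : Cfsg.kappa M = Cfsg.tau1 M := by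
  have hU := decomp_U_hall hG hM hKU
  ext p
  constructor
  · intro hp
    refine ⟨hp.1, hp.2.2.1, hp.2.1, fun hd => ?_, pRankLE_one_of_kappa hp⟩
    have h1 := hd.trans ((Subgroup.card_dvd_of_le (decomp_derived_le hM hKU)).trans
      (card_sup_dvd_mul (hKU.compl.1.trans (piCoreOf_normal _ _))))
    rcases hp.1.dvd_mul.mp h1 with h | h
    · exact (hU.2.1 p hp.1 h).2.1 hp
    · exact hp.2.2.1 (piNat_card_piCoreOf (Cfsg.sigma M) M p hp.1 h)
  · rintro ⟨hp, hσ, hd, hd', -⟩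
    by_contra hκ
    rw [← card_mul_relIndex_of_le hU.1] at hd
    have hpU := (hp.dvd_mul.mp hd).resolve_right (hU.2.2 p hp ⟨hp, hκ, hσ⟩)
    exact hd' (hpU.trans (Subgroup.card_dvd_of_le
      ((decomp_commutator hG hI hM hKU hK1).ge.trans (Subgroup.commutator_mono hKU.compl.1 hKU.hall.1))))

omit [Finite G] in
theorem sup_le_centralizer {A B : Subgroup G} (hA : IsMulCommutative A) (hB : IsMulCommutative B)
    (h : B ≤ Subgroup.centralizer (A : Set G)) :
    A ⊔ B ≤ Subgroup.centralizer ((A ⊔ B : Subgroup G) : Set G) := by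
  have hx : ∀ x ∈ A ⊔ B, x ∈ Subgroup.centralizer (A : Set G) := fun x hx =>
    (sup_le (fun a ha => Subgroup.mem_centralizer_iff.mpr fun a' ha' => mul_comm_of_mem hA ha' ha) h :
      A ⊔ B ≤ Subgroup.centralizer (A : Set G)) hx
  have hy : ∀ x ∈ A ⊔ B, x ∈ Subgroup.centralizer (B : Set G) := fun x hx =>
    (sup_le (fun a ha => Subgroup.mem_centralizer_iff.mpr fun b hb =>
        (Subgroup.mem_centralizer_iff.mp (h hb) a ha).symm)
      (fun a ha => Subgroup.mem_centralizer_iff.mpr fun b hb => mul_comm_of_mem hB hb ha) :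
      A ⊔ B ≤ Subgroup.centralizer (B : Set G)) hx
  intro x hx'
  refine Subgroup.mem_centralizer_iff.mpr fun w hw => ?_
  have h2 : A ⊔ B ≤ Subgroup.centralizer ({x} : Set G) := sup_le
    (fun a ha => Subgroup.mem_centralizer_singleton_iff.mpr (Subgroup.mem_centralizer_iff.mp (hx x hx') a ha))
    (fun b hb => Subgroup.mem_centralizer_singleton_iff.mpr (Subgroup.mem_centralizer_iff.mp (hy x hx') b hb))
  exact Subgroup.mem_centralizer_singleton_iff.mp (h2 hw)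

theorem ncard_sdiff_union {K C : Subgroup G} (hinf : K ⊓ C = ⊥) :
    Set.ncard ((↑(K ⊔ C) : Set G) \ ((K : Set G) ∪ ↑C)) =
      Nat.card ↥(K ⊔ C) - (Nat.card K + Nat.card C - 1) := by
  have hsub : (K : Set G) ∪ ↑C ⊆ (↑(K ⊔ C) : Set G) :=
    Set.union_subset (le_sup_left : K ≤ K ⊔ C) (le_sup_right : C ≤ K ⊔ C)
  rw [Set.ncard_sdiff hsub]
  have e0 : Nat.card ↥(K ⊔ C) = (↑(K ⊔ C) : Set G).ncard := Nat.card_coe_set_eq _
  rw [e0]
  congr 1
  have h := Set.ncard_union_add_ncard_inter (K : Set G) (C : Set G)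
  have h1 : ((K : Set G) ∩ (C : Set G)).ncard = 1 := by
    rw [← Subgroup.coe_inf, hinf, Subgroup.coe_bot, Set.ncard_singleton]
  have e1 : Nat.card K = (K : Set G).ncard := Nat.card_coe_set_eq _
  have e2 : Nat.card C = (C : Set G).ncard := Nat.card_coe_set_eq _
  omega

/-- Counting the conjugates of a TI-set with abelian normalizer. -/
theorem card_conjugates {Z : Subgroup G} {W : Set G} (hW : W ⊆ (Z : Set G))
    (hcomm : ∀ z ∈ W, ∀ w ∈ Z, w * z = z * w)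
    (hTI : ∀ h : G, ∀ z ∈ W, h * z * h⁻¹ ∈ W → h ∈ Z) :
    Nat.card Z * Set.ncard {a : G | ∃ g : G, ∃ z ∈ W, a = g * z * g⁻¹} =
      Set.ncard W * Nat.card G := by
  set T := {a : G | ∃ g : G, ∃ z ∈ W, a = g * z * g⁻¹} with hT
  have key : ∀ t : T, ∃ g : G, ∃ z ∈ W, (t : G) = g * z * g⁻¹ := fun t => t.2
  choose g₀ z₀ hz₀ ht₀ using key
  have hmem : ∀ p : G × W, p.1 * p.2 * p.1⁻¹ ∈ T := fun p => ⟨p.1, p.2, p.2.2, rfl⟩
  have hfib : ∀ p : G × W, (g₀ ⟨_, hmem p⟩)⁻¹ * p.1 ∈ Z := fun p => by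
    refine hTI _ p.2 p.2.2 ?_
    have h := ht₀ ⟨_, hmem p⟩
    have hz := hz₀ ⟨_, hmem p⟩
    generalize g₀ ⟨_, hmem p⟩ = a, z₀ ⟨_, hmem p⟩ = b at h hz ⊢
    have h' : p.1 * (p.2 : G) * p.1⁻¹ = a * b * a⁻¹ := h
    rw [show a⁻¹ * p.1 * (p.2 : G) * (a⁻¹ * p.1)⁻¹ = a⁻¹ * (p.1 * p.2 * p.1⁻¹) * a by group, h']
    simpa [mul_assoc] using hz
  have e : G × W ≃ T × Z :=
    Equiv.ofBijective (fun p => (⟨_, hmem p⟩, ⟨_, hfib p⟩)) ⟨?_, ?_⟩
  · have h := Nat.card_congr e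
    rw [Nat.card_prod, Nat.card_prod, Nat.card_coe_set_eq, Nat.card_coe_set_eq] at h
    rw [mul_comm, ← h, mul_comm]
  · rintro ⟨g, z⟩ ⟨g', z'⟩ h
    simp only [Prod.mk.injEq, Subtype.mk.injEq] at h
    obtain ⟨h1, h2⟩ := h
    have hg : g = g' := by
      have h3 : (⟨_, hmem (g, z)⟩ : T) = ⟨_, hmem (g', z')⟩ := Subtype.ext h1
      rw [h3] at h2
      exact mul_left_cancel h2
    subst hg
    exact Prod.ext rfl (Subtype.ext (mul_left_cancel (mul_right_cancel h1)))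
  · rintro ⟨t, w⟩
    have he : g₀ t * (w : G) * z₀ t * (g₀ t * (w : G))⁻¹ = t := by
      rw [show g₀ t * (w : G) * z₀ t * (g₀ t * (w : G))⁻¹ = g₀ t * ((w : G) * z₀ t * (w : G)⁻¹) * (g₀ t)⁻¹ by group,
        hcomm _ (hz₀ t) w w.2, mul_inv_cancel_right, ← ht₀ t]
    refine ⟨(g₀ t * w, ⟨z₀ t, hz₀ t⟩), ?_⟩
    have h3 : (⟨_, hmem (g₀ t * w, ⟨z₀ t, hz₀ t⟩)⟩ : T) = t := Subtype.ext he
    refine Prod.ext h3 (Subtype.ext ?_)
    show (g₀ _)⁻¹ * (g₀ t * w) = w
    rw [h3, inv_mul_cancel_left]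

include hG hI in
theorem kappa_pair_centralizers_and_count (hcyclic : PropKappaCyclic G)
    (M : Subgroup G) (hM : IsCoatom M) (K U : Subgroup G) (hKU : Cfsg.IsSigmaDecomposition M K U) (hK1 : K ≠ ⊥) (Mstar : Subgroup G) (hMstar : IsCoatom Mstar)
    (hKst : K = Cfsg.sigmaCore Mstar ⊓ Subgroup.centralizer ((Cfsg.sigmaCore M ⊓ Subgroup.centralizer (K : Set G)) : Set G))
    (hKstH : Cfsg.IsPiHallOf (Cfsg.kappa Mstar) (Cfsg.sigmaCore M ⊓ Subgroup.centralizer (K : Set G)) Mstar) :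
    Cfsg.kappa M = Cfsg.tau1 M ∧ Cfsg.IsPiHallOf (Cfsg.sigma M) (Cfsg.sigmaCore M ⊓ Subgroup.centralizer (K : Set G)) Mstar ∧
      (∀ x ∈ K, x ≠ 1 → ∀ y ∈ (Cfsg.sigmaCore M ⊓ Subgroup.centralizer (K : Set G)), y ≠ 1 →
        M ⊓ Subgroup.centralizer ({x} : Set G) = K ⊔ (Cfsg.sigmaCore M ⊓ Subgroup.centralizer (K : Set G)) ∧ Mstar ⊓ Subgroup.centralizer ({y} : Set G) = K ⊔ (Cfsg.sigmaCore M ⊓ Subgroup.centralizer (K : Set G)) ∧
        Subgroup.centralizer ({x * y} : Set G) = K ⊔ (Cfsg.sigmaCore M ⊓ Subgroup.centralizer (K : Set G))) ∧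
      (∀ g : G, g ∉ M → ∀ z ∈ ((↑(K ⊔ (Cfsg.sigmaCore M ⊓ Subgroup.centralizer (K : Set G))) : Set G) \ ((K : Set G) ∪ ↑(Cfsg.sigmaCore M ⊓ Subgroup.centralizer (K : Set G)))), z ∉ M.map (MulAut.conj g).toMonoidHom) ∧
      Nat.card K * Nat.card ↥(Cfsg.sigmaCore M ⊓ Subgroup.centralizer (K : Set G)) * Set.ncard {a : G | ∃ g : G, ∃ z ∈ ((↑(K ⊔ (Cfsg.sigmaCore M ⊓ Subgroup.centralizer (K : Set G))) : Set G) \ ((K : Set G) ∪ ↑(Cfsg.sigmaCore M ⊓ Subgroup.centralizer (K : Set G)))), a = g * z * g⁻¹} =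
        (Nat.card K * Nat.card ↥(Cfsg.sigmaCore M ⊓ Subgroup.centralizer (K : Set G)) - Nat.card K - Nat.card ↥(Cfsg.sigmaCore M ⊓ Subgroup.centralizer (K : Set G)) + 1) * Nat.card G ∧
      Nat.card G < 2 * Set.ncard {a : G | ∃ g : G, ∃ z ∈ ((↑(K ⊔ (Cfsg.sigmaCore M ⊓ Subgroup.centralizer (K : Set G))) : Set G) \ ((K : Set G) ∪ ↑(Cfsg.sigmaCore M ⊓ Subgroup.centralizer (K : Set G)))), a = g * z * g⁻¹} := by
  have hK := hKU.hall
  set C := Cfsg.sigmaCore M ⊓ Subgroup.centralizer (K : Set G) with hC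
  have hKs : K ≤ Cfsg.sigmaCore Mstar := hKst.le.trans inf_le_left
  have hC1 : C ≠ ⊥ := kstar_ne_bot hI hM hK hK1
  have hKc : IsMulCommutative K := by
    have := hKU.cyclic
    exact IsCyclic.isMulCommutative
  have hCc : IsMulCommutative C := by
    have := (hcyclic Mstar hMstar).2 C hKstH
    exact IsCyclic.isMulCommutative
  have hCK : C ≤ Subgroup.centralizer (K : Set G) := inf_le_right
  have hZc := sup_le_centralizer hKc hCc hCK
  have hKσ : ∀ {k : G}, k ∈ K → ∀ p : ℕ, p.Prime → p ∣ orderOf k → p ∉ Cfsg.sigma M :=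
    fun hk p hp hd => (hK.2.1 p hp (hd.trans (Subgroup.orderOf_dvd_natCard _ hk))).2.2.1
  have hCσ : ∀ {c : G}, c ∈ C → ∀ p : ℕ, p.Prime → p ∣ orderOf c → p ∈ Cfsg.sigma M :=
    fun hc p hp hd => mem_sigma_of_mem_sigmaCore (Subgroup.mem_inf.mp hc).1 hp hd
  have hinf : K ⊓ C = ⊥ := (Subgroup.eq_bot_iff_forall _).mpr fun x hx => by
    by_contra hx1
    obtain ⟨p, hp, hd⟩ := Nat.exists_prime_and_dvd (n := orderOf x)
      fun h => hx1 (orderOf_eq_one_iff.mp h)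
    exact hKσ (Subgroup.mem_inf.mp hx).1 p hp hd (hCσ (Subgroup.mem_inf.mp hx).2 p hp hd)
  have hKn : K ≤ Subgroup.normalizer (C : Set G) := by
    refine le_trans ?_ (Subgroup.centralizer_le_normalizer (C : Set G))
    intro k hk
    exact Subgroup.mem_centralizer_iff.mpr fun c hc =>
      (Subgroup.mem_centralizer_iff.mp (hCK hc) k hk).symm
  have hdecomp : ∀ {z : G}, z ∈ K ⊔ C → ∃ k ∈ K, ∃ c ∈ C, z = k * c :=
    fun hz => CfsgLib.Coprime.exists_mul_of_mem_sup hKn hz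
  have hkc : ∀ {k c : G}, k ∈ K → c ∈ C → Commute c k := fun hk hc =>
    (Subgroup.mem_centralizer_iff.mp (hCK hc) _ hk).symm
  have hmemC : ∀ {k c : G}, k ∈ K → c ∈ C → c ∈ Subgroup.zpowers (k * c) := by
    intro k c hk hc
    have hcop : (orderOf k).Coprime (orderOf c) := Nat.coprime_of_dvd fun p hp h1 h2 =>
      hKσ hk p hp h1 (hCσ hc p hp h2)
    have h1 : (k * c) ^ orderOf k = c ^ orderOf k := by
      rw [(hkc hk hc).symm.mul_pow, pow_orderOf_eq_one, one_mul]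
    have hb := Nat.gcd_eq_gcd_ab (orderOf k) (orderOf c)
    rw [hcop.gcd_eq_one, Nat.cast_one] at hb
    refine Subgroup.mem_zpowers_iff.mpr ⟨(orderOf k : ℤ) * Nat.gcdA (orderOf k) (orderOf c), ?_⟩
    have h := congrArg (fun e : ℤ => c ^ e) hb
    simp only [zpow_one, zpow_add, zpow_mul, zpow_natCast, pow_orderOf_eq_one, one_zpow, mul_one] at h
    rw [zpow_mul, zpow_natCast, h1]
    exact h.symm
  have hWspec : ∀ {z : G}, z ∈ (↑(K ⊔ C) : Set G) \ ((K : Set G) ∪ ↑C) →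
      ∃ k ∈ K, k ≠ 1 ∧ ∃ c ∈ C, c ≠ 1 ∧ z = k * c := by
    rintro z ⟨hz, hz'⟩
    obtain ⟨k, hk, c, hc, rfl⟩ := hdecomp hz
    exact ⟨k, hk, fun h => hz' (Or.inr (by rw [h, one_mul]; exact hc)), c, hc,
      fun h => hz' (Or.inl (by rw [h, mul_one]; exact hk)), rfl⟩
  have hMx : ∀ x ∈ K, x ≠ 1 → M ⊓ Subgroup.centralizer ({x} : Set G) = K ⊔ C := by
    intro x hx hx1
    refine le_antisymm ?_ (sup_le (le_inf hK.1 fun k hk => ?_)
      (le_inf (inf_le_left.trans (sigmaCore_le M)) fun c hc => ?_))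
    · obtain ⟨p, hp, hd⟩ := Nat.exists_prime_and_dvd (n := orderOf x)
        fun h => hx1 (orderOf_eq_one_iff.mp h)
      obtain ⟨y, hy, hyo⟩ := exists_mem_zpowers_prime hp hd
      obtain ⟨hN, -, -⟩ := (hI.kappaHall M hM K hK hK1).2.2 (Subgroup.zpowers y)
        (Subgroup.zpowers_le.mpr (Subgroup.zpowers_le.mpr hx hy)) (by rw [Nat.card_zpowers, hyo]; exact hp)
      exact (inf_le_inf le_rfl ((centralizer_le_of_mem_zpowers hy).trans
        (centralizer_zpowers_le_normalizer y))).trans hN.le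
    · exact Subgroup.mem_centralizer_singleton_iff.mpr (mul_comm_of_mem hKc hk hx)
    · exact Subgroup.mem_centralizer_singleton_iff.mpr (hkc hx hc)
  have hMy : ∀ y ∈ C, y ≠ 1 → Mstar ⊓ Subgroup.centralizer ({y} : Set G) = K ⊔ C := by
    intro y hy hy1
    refine le_antisymm ?_ (sup_le (le_inf (hKs.trans (sigmaCore_le Mstar)) fun k hk => ?_)
      (le_inf hKstH.1 fun c hc => ?_))
    · obtain ⟨p, hp, hd⟩ := Nat.exists_prime_and_dvd (n := orderOf y)
        fun h => hy1 (orderOf_eq_one_iff.mp h)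
      obtain ⟨w, hw, hwo⟩ := exists_mem_zpowers_prime hp hd
      obtain ⟨hN, -, -⟩ := (hI.kappaHall Mstar hMstar C hKstH hC1).2.2 (Subgroup.zpowers w)
        (Subgroup.zpowers_le.mpr (Subgroup.zpowers_le.mpr hy hw)) (by rw [Nat.card_zpowers, hwo]; exact hp)
      have hKst' : K = Cfsg.sigmaCore Mstar ⊓ Subgroup.centralizer (C : Set G) := hKst
      rw [← hKst', sup_comm] at hN
      exact (inf_le_inf le_rfl ((centralizer_le_of_mem_zpowers hw).trans
        (centralizer_zpowers_le_normalizer w))).trans hN.le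
    · exact Subgroup.mem_centralizer_singleton_iff.mpr (hkc hk hy).symm
    · exact Subgroup.mem_centralizer_singleton_iff.mpr (mul_comm_of_mem hCc hc hy)
  have hTI : ∀ h : G, ∀ z ∈ (↑(K ⊔ C) : Set G) \ ((K : Set G) ∪ ↑C),
      h * z * h⁻¹ ∈ (↑(K ⊔ C) : Set G) \ ((K : Set G) ∪ ↑C) → h ∈ K ⊔ C := by
    intro h z hz hz'
    obtain ⟨k, hk, hk1, c, hc, hc1, rfl⟩ := hWspec hz
    obtain ⟨k', hk', -, c', hc', -, he⟩ := hWspec hz'
    have hko : orderOf (h * k * h⁻¹) = orderOf k := MulEquiv.orderOf_eq (MulAut.conj h) k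
    have hco : orderOf (h * c * h⁻¹) = orderOf c := MulEquiv.orderOf_eq (MulAut.conj h) c
    have he' : h * c * h⁻¹ * (h * k * h⁻¹) = c' * k' := by
      rw [(hkc hk' hc').eq, ← he, show h * c * h⁻¹ * (h * k * h⁻¹) = h * (c * k) * h⁻¹ by group,
        (hkc hk hc).eq]
    have hcomm : Commute (h * c * h⁻¹) (h * k * h⁻¹) := (hkc hk hc).map (MulAut.conj h)
    have hceq : h * c * h⁻¹ = c' := by
      refine eq_of_parts hcomm (hkc hk' hc') he' (Nat.coprime_of_dvd fun p hp h1 h2 => ?_)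
      rw [hko] at h1
      rw [hco] at h2
      exact (hp.dvd_mul.mp h1).elim (fun h' => hKσ hk p hp h' ((hp.dvd_mul.mp h2).elim (hCσ hc p hp) (hCσ hc' p hp)))
        (fun h' => hKσ hk' p hp h' ((hp.dvd_mul.mp h2).elim (hCσ hc p hp) (hCσ hc' p hp)))
    have hhM : h ∈ M := mem_of_conj_kstar hG hI hM hK hK1 hc hc1 (hceq ▸ sigmaCore_le M (Subgroup.mem_inf.mp hc').1)
    have hkeq : h * k * h⁻¹ = k' := mul_left_cancel (hceq ▸ he' : c' * (h * k * h⁻¹) = c' * k')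
    by_contra hnot
    have hbot := kappa_inf_conj hG hI hM hK hK1 hhM hnot
    have hin : k' ∈ K ⊓ cj h K := ⟨hk', hkeq ▸ mem_cj_self.mpr hk⟩
    rw [hbot, Subgroup.mem_bot, ← hkeq] at hin
    exact hk1 (by simpa using hin)
  refine ⟨kappa_eq_tau1 hG hI hM hKU hK1, kstar_hall_sigma hG hI hM hK hK1 hMstar hKs hKstH,
    fun x hx hx1 y hy hy1 => ⟨hMx x hx hx1, hMy y hy hy1, ?_⟩, fun g hg z hz hzg => ?_, ?_⟩
  · have hyz : y ∈ Subgroup.zpowers (x * y) := hmemC hx hy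
    have hxz : x ∈ Subgroup.zpowers (x * y) := by
      simpa using mul_mem (Subgroup.mem_zpowers (x * y)) (inv_mem hyz)
    refine le_antisymm ?_ fun w hw => ?_
    · intro w hw
      have h1 : w ∈ M := centralizer_kstar_le hG hI hM hK hK1 hy hy1 (centralizer_le_of_mem_zpowers hyz hw)
      exact (hMx x hx hx1).le ⟨h1, centralizer_le_of_mem_zpowers hxz hw⟩
    · exact Subgroup.mem_centralizer_singleton_iff.mpr (Subgroup.mem_centralizer_iff.mp (hZc hw) _
        (mul_mem (Subgroup.mem_sup_left hx) (Subgroup.mem_sup_right hy))).symm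
  · obtain ⟨k, hk, -, c, hc, hc1, rfl⟩ := hWspec hz
    have h1 : c ∈ C ⊓ cj g M := ⟨hc, Subgroup.zpowers_le.mpr hzg (hmemC hk hc)⟩
    rw [kstar_inf_conj hG hI hM hK hK1 hg, Subgroup.mem_bot] at h1
    exact hc1 h1
  · have hcount := card_conjugates (Z := K ⊔ C) (W := (↑(K ⊔ C) : Set G) \ ((K : Set G) ∪ ↑C))
      Set.sdiff_subset (fun z hz w hw => Subgroup.mem_centralizer_iff.mp (hZc hz.1) w hw) hTI
    have hcard : Nat.card ↥(K ⊔ C) = Nat.card K * Nat.card C := by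
      rw [CfsgLib.Coprime.card_sup_of_disjoint hKn (by rw [inf_comm]; exact hinf)]
    rw [ncard_sdiff_union hinf, hcard] at hcount
    set k := Nat.card K with hk
    set c := Nat.card C with hc
    have hk3 : 3 ≤ k ∧ 3 ≤ c ∧ k ≠ c := by
      have hko : Odd k := minSimple_odd hG K
      have hco : Odd c := minSimple_odd hG C
      have hk1' : k ≠ 1 := fun h => hK1 (Subgroup.card_eq_one.mp h)
      have hc1' : c ≠ 1 := fun h => hC1 (Subgroup.card_eq_one.mp h)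
      obtain ⟨a, ha⟩ := hko
      obtain ⟨b, hb⟩ := hco
      refine ⟨by omega, by omega, fun h => ?_⟩
      obtain ⟨p, hp, hpd⟩ := Nat.exists_prime_and_dvd (n := k) hk1'
      exact (hK.2.1 p hp hpd).2.2.1 (piNat_card_piCoreOf (Cfsg.sigma M) M p hp
        ((h ▸ hpd : p ∣ c).trans (Subgroup.card_dvd_of_le inf_le_left)))
    obtain ⟨a, ha⟩ : Odd k := minSimple_odd hG K
    obtain ⟨b, hb⟩ : Odd c := minSimple_odd hG C
    have hineq : k + c ≤ k * c := by nlinarith [hk3.1, hk3.2.1]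
    have heq : k * c - (k + c - 1) = k * c - k - c + 1 := by omega
    rw [heq] at hcount
    refine ⟨hcount, ?_⟩
    have hbig : k * c < 2 * (k * c - k - c + 1) := by
      have h8 : 8 ≤ k + c := by omega
      have : 2 * k + 2 * c < k * c + 2 := by
        rcases lt_or_gt_of_ne hk3.2.2 with h | h
        · have : 5 ≤ c := by omega
          nlinarith [hk3.1]
        · have : 5 ≤ k := by omega
          nlinarith [hk3.2.1]
      omega
    have hGpos : 0 < Nat.card G := Nat.card_pos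
    nlinarith

end CfsgLib.OddOrder38
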