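import Mathlib
import Cfsg.Agent.Lib.OddOrder38.Main1434
import Cfsg.Agent.Lib.OddOrder.Sigma12Tau
import Cfsg.Agent.Lib.Frobenius.FPFThompson

/-!
# For `M` of type `P₂` no prime of `σ(M)` has a maximal elementary abelian plane in `G`
-/

set_option autoImplicit false

namespace CfsgLib.OddOrder38

open Subgroup CfsgLib.OddOrder CfsgLib.OddOrder.Transitivity CfsgLib.OddOrder41
open scoped commutatorElement

universe u

variable {G : Type u} [Group G] [Finite G] (hG : Cfsg.IsMinSimpleOddOrder G) (hI : Inputs G)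

include hG hI in
/-- Elements of `M` commuting with an element of `K` involve only primes of `κ(M) ∪ σ(M)`. -/
theorem mem_kappa_union_sigma_of_commute {M K : Subgroup G} (hM : IsCoatom M)
    (hK : Cfsg.IsPiHallOf (Cfsg.kappa M) K M) {k u : G} (hk : k ∈ K) (hk1 : k ≠ 1) (hu : u ∈ M)
    (hku : k * u = u * k) {p : ℕ} (hp : p.Prime) (hd : p ∣ orderOf u) :
    p ∈ Cfsg.kappa M ∪ Cfsg.sigma M := by
  obtain ⟨q, hq, hqd⟩ := Nat.exists_prime_and_dvd (n := orderOf k)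
    fun h => hk1 (orderOf_eq_one_iff.mp h)
  obtain ⟨y, hy, hyo⟩ := exists_mem_zpowers_prime hq hqd
  have hK1 : K ≠ ⊥ := fun h => hk1 (Subgroup.mem_bot.mp (h ▸ hk))
  obtain ⟨hN, -, -⟩ := (hI.kappaHall M hM K hK hK1).2.2 (Subgroup.zpowers y)
    (Subgroup.zpowers_le.mpr (Subgroup.zpowers_le.mpr hk hy)) (by rw [Nat.card_zpowers, hyo]; exact hq)
  have huN : u ∈ M ⊓ Subgroup.normalizer ((Subgroup.zpowers y : Subgroup G) : Set G) :=
    ⟨hu, centralizer_zpowers_le_normalizer y (centralizer_le_of_mem_zpowers hy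
      (Subgroup.mem_centralizer_singleton_iff.mpr hku.symm))⟩
  rw [hN] at huN
  exact piNat_sup_kstar hK p hp (hd.trans (Subgroup.orderOf_dvd_natCard _ huN))

include hG hI in
/-- For `M` of type `P₂`: a `K`-invariant `p`-subgroup acting without fixed points on `M_σ`. -/
theorem exists_fpf_subgroup {M K : Subgroup G} (hM : IsCoatom M)
    (hK : Cfsg.IsPiHallOf (Cfsg.kappa M) K M) (hK1 : K ≠ ⊥) {p : ℕ} [Fact p.Prime]
    (hpM : p ∣ Nat.card M) (hpσ : p ∉ Cfsg.sigma M) (hpκ : p ∉ Cfsg.kappa M) :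
    ∃ P : Subgroup G, P ≤ M ∧ (∀ t : ℕ, t.Prime → t ∣ Nat.card P → t = p) ∧
      K ≤ Subgroup.normalizer (P : Set G) ∧
      Cfsg.sigmaCore M ⊓ Subgroup.centralizer (P : Set G) = ⊥ ∧
      Group.IsNilpotent (Cfsg.sigmaCore M) := by
  have hp : p.Prime := Fact.out
  obtain ⟨U, E, hE, hEUK, hUc, hKU, -, hU, -⟩ := exists_compl_kappa hG hI hM hK hK1
  set S := Cfsg.sigmaCore M with hS
  rcases tau2_or_rank_one hG hM hp hpσ with hpτ | hr1
  · obtain ⟨A, hAE, hAe, hA2⟩ := exists_plane_compl hG hM hE hpτ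
    obtain ⟨⟨hAn, -⟩, -, -⟩ := hI.tauTwoCompl M hM E hE p hpτ A ⟨hAE, hAe, hA2⟩
    obtain ⟨hnil, -, -, hCA, -, -⟩ := hI.tauTwo M hM p hpτ A ⟨hAE.trans hE.1, hAe, hA2⟩
    refine ⟨A, hAE.trans hE.1, fun t ht htd => ?_, (hEUK ▸ le_sup_right : K ≤ E).trans hAn, hCA, hnil⟩
    rw [hA2] at htd
    exact (Nat.prime_dvd_prime_iff_eq ht hp).mp (ht.dvd_of_dvd_pow htd)
  · have hpU : p ∣ Nat.card U := by
      rw [← card_mul_relIndex_of_le hU.1] at hpM
      exact (hp.dvd_mul.mp hpM).resolve_right (hU.2.2 p hp ⟨hp, hpκ, hpσ⟩)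
    obtain ⟨a', ha'⟩ := exists_prime_orderOf_dvd_card' (G := U) p hpU
    have hao : orderOf (a' : G) = p := by rw [Subgroup.orderOf_coe, ha']
    have haM : (a' : G) ∈ M := hU.1 a'.2
    have hfree : ∀ w ∈ S, (a' : G) * w = w * a' → w = 1 := fun w hw hwa => by
      by_contra hw1
      exact hpκ (mem_kappa hG hM hpσ hr1 haM hao hw hw1 hwa)
    refine ⟨Subgroup.zpowers (a' : G), Subgroup.zpowers_le.mpr haM, fun t ht htd => ?_,
      fun k hk => ?_, (Subgroup.eq_bot_iff_forall _).mpr fun w hw => ?_, ?_⟩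
    · rw [Nat.card_zpowers, hao] at htd
      exact (Nat.prime_dvd_prime_iff_eq ht hp).mp htd
    · refine CfsgLib.Coprime.mem_normalizer_of_forall_conj fun w hw => ?_
      obtain ⟨i, rfl⟩ := Subgroup.mem_zpowers_iff.mp hw
      rw [← conj_zpow]
      refine Subgroup.zpow_mem _ (zpowers_eq_of_rank_one hr1 hU.1 hUc a'.2
        ((Subgroup.mem_normalizer_iff.mp (hKU hk) _).mp a'.2) hao ?_) i
      rw [show k * (a' : G) * k⁻¹ = MulAut.conj k (a' : G) from rfl, MulEquiv.orderOf_eq, hao]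
    · exact hfree w (Subgroup.mem_inf.mp hw).1 (Subgroup.mem_centralizer_iff.mp
        (Subgroup.mem_inf.mp hw).2 _ (Subgroup.mem_zpowers _))
    · exact CfsgLib.Frobenius.Thompson.isNilpotent_of_element S (piCoreOf_normal _ _ haM) hp
        (hao ▸ pow_orderOf_eq_one _) hfree

include hG hI in
/-- If `M` has type `P₂` then no prime of `σ(M)` has a maximal plane in `G`. -/
theorem no_plane_of_type_two {M : Subgroup G} (hM : IsCoatom M) {p r : ℕ} (hp : p.Prime)
    (hpM : p ∣ Nat.card M) (hpσ : p ∉ Cfsg.sigma M) (hpκ : p ∉ Cfsg.kappa M)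
    (hκ : (Cfsg.kappa M).Nonempty) (hr : r ∈ Cfsg.sigma M) (hB : HasMaxPlane G r) : False := by
  have := Fact.mk hp
  have := Fact.mk hr.1
  obtain ⟨q, hqκ⟩ := hκ
  have := Fact.mk hqκ.1
  obtain ⟨K, hK⟩ := hI.kappaExists M hM
  have hqK : q ∣ Nat.card K := by
    have h := hqκ.2.1
    rw [← card_mul_relIndex_of_le hK.1] at h
    exact (hqκ.1.dvd_mul.mp h).resolve_right (hK.2.2 q hqκ.1 hqκ)
  have hK1 : K ≠ ⊥ := fun h => by
    rw [h, Subgroup.card_bot] at hqK
    exact hqκ.1.ne_one (Nat.dvd_one.mp hqK)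
  obtain ⟨y', hy'⟩ := exists_prime_orderOf_dvd_card' (G := K) q hqK
  set y : G := (y' : G) with hy
  have hyK : y ∈ K := y'.2
  have hyo : orderOf y = q := by rw [hy, Subgroup.orderOf_coe, hy']
  have hy1 : y ≠ 1 := fun h => hqκ.1.ne_one (by rw [← hyo, h, orderOf_one])
  set S := Cfsg.sigmaCore M with hS
  obtain ⟨P, hPM, hPc, hKP, hPC, hnil⟩ := exists_fpf_subgroup hG hI hM hK hK1 hpM hpσ hpκ
  obtain ⟨V, hVS, hV1, hVn, hVd⟩ := exists_small_layer hG hM hr hnil hB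
  set Y := Subgroup.zpowers y with hY
  have hYc : Nat.card Y = q := by rw [hY, Nat.card_zpowers, hyo]
  have hYM : Y ≤ M := Subgroup.zpowers_le.mpr (hK.1 hyK)
  have hfpf : ∀ e ∈ Y, e ≠ 1 → ∀ u ∈ P, e * u = u * e → u = 1 := by
    intro e he he1 u hu heu
    by_contra hu1
    obtain ⟨t, ht, htd⟩ := Nat.exists_prime_and_dvd (n := orderOf u)
      fun h => hu1 (orderOf_eq_one_iff.mp h)
    have htp := hPc t ht (htd.trans (Subgroup.orderOf_dvd_natCard _ hu))
    rcases mem_kappa_union_sigma_of_commute hG hI hM hK (Subgroup.zpowers_le.mpr hyK he) he1 (hPM hu) heu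
      ht htd with h | h
    · exact hpκ (htp ▸ h)
    · exact hpσ (htp ▸ h)
  have hYP : Y ≤ Subgroup.normalizer (P : Set G) := Subgroup.zpowers_le.mpr (hKP hyK)
  have hcop : (Nat.card V).Coprime (Nat.card ↥(P ⊔ Y)) := by
    refine Nat.coprime_of_dvd fun t ht h1 h2 => ?_
    have htσ : t ∈ Cfsg.sigma M :=
      piNat_card_piCoreOf (Cfsg.sigma M) M t ht (h1.trans (Subgroup.card_dvd_of_le hVS))
    rw [sup_comm] at h2
    rcases ht.dvd_mul.mp (h2.trans (card_sup_dvd_mul hYP)) with h | h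
    · rw [hYc, Nat.prime_dvd_prime_iff_eq ht hqκ.1] at h
      exact hqκ.2.2.1 (h ▸ htσ)
    · exact hpσ (hPc t ht h ▸ htσ)
  have hsolv : Group.IsSolvable V := by
    have := minSimple_solvable hG hM.1
    exact solvable_of_solvable_injective (Subgroup.inclusion_injective (hVS.trans (sigmaCore_le M)))
  have hf := FixedFormula.fixed_formula P Y
    (fun h => hy1 (Subgroup.mem_bot.mp (h ▸ Subgroup.mem_zpowers y))) hYP
    (FixedFormula.coprime_of_fpf hYP hfpf) hfpf V ((sup_le hPM hYM).trans hVn) hsolv hcop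
  have hVP : V ⊓ Subgroup.centralizer (P : Set G) = ⊥ :=
    le_bot_iff.mp (hPC ▸ inf_le_inf hVS le_rfl)
  have hVPY : V ⊓ Subgroup.centralizer ((P ⊔ Y : Subgroup G) : Set G) = ⊥ :=
    le_bot_iff.mp (hVP ▸ inf_le_inf le_rfl (Subgroup.centralizer_le fun _ hz => Subgroup.mem_sup_left hz))
  rw [hVP, hVPY, Subgroup.card_bot, one_pow, one_mul, mul_one, hYc] at hf
  set c := Nat.card ↥(V ⊓ Subgroup.centralizer (Y : Set G)) with hc
  have hq3 : 3 ≤ q := by
    have h2 := minSimple_prime_ne_two' hG (hqκ.2.1.trans (Subgroup.card_subgroup_dvd_card M))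
    have := hqκ.1.two_le
    omega
  obtain ⟨n, hn, hVc⟩ := (Nat.dvd_prime_pow hr.1).mp hVd
  have hcd : c ∣ r ^ n := hVc ▸ Subgroup.card_dvd_of_le inf_le_left
  obtain ⟨m, -, hm⟩ := (Nat.dvd_prime_pow hr.1).mp hcd
  rw [hm, ← pow_mul] at hf
  rw [hVc] at hf
  have hnm : n = m * q := Nat.pow_right_injective hr.1.two_le hf
  have hm0 : m = 0 := by
    rcases Nat.eq_zero_or_pos m with h | h
    · exact h
    · have : 1 * 3 ≤ m * q := Nat.mul_le_mul h hq3
      omega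
  rw [hm0, zero_mul] at hnm
  exact hV1 (Subgroup.card_eq_one.mp (by rw [hVc, hnm, pow_zero]))

end CfsgLib.OddOrder38
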