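import Mathlib
import Cfsg.Agent.Lib.OddOrder38.PlaneP2

/-!
# S1436 (BG 14.13) from the inputs of `Props14`
-/

set_option autoImplicit false

namespace CfsgLib.OddOrder38

open Subgroup CfsgLib.OddOrder CfsgLib.OddOrder.Transitivity CfsgLib.OddOrder41
open scoped commutatorElement

universe u

variable {G : Type u} [Group G] [Finite G] (hG : Cfsg.IsMinSimpleOddOrder G)

include hG in
/-- `r ∈ σ(L)` for a maximal `L ⊇ N_G(A)`, `A` a plane of `τ₂(M)`-elements. -/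
theorem mem_sigma_of_normalizer_plane (hI : Local G) {M L : Subgroup G} (hM : IsCoatom M)
    (hL : IsCoatom L) {r : ℕ} [hr : Fact r.Prime] (hτ : r ∈ Cfsg.tau2 M) {A : Subgroup G} (hAM : A ≤ M)
    (hAe : Cfsg.IsElementaryAbelian r A) (hA2 : Nat.card A = r ^ 2)
    (hle : Subgroup.normalizer (A : Set G) ≤ L) : r ∈ Cfsg.sigma L := by
  have hrG : r ∣ Nat.card G := (dvd_pow_self r two_ne_zero).trans (hA2 ▸ Subgroup.card_subgroup_dvd_card A)
  by_cases hab : ∀ S : Sylow r G, IsMulCommutative (S : Subgroup G)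
  · exact mem_sigma_of_plane hG hM hτ hab hAM hAe hA2 hle
  push_neg at hab
  obtain ⟨S₀, hS₀⟩ := hab
  obtain ⟨S, hAS⟩ := (isPGroup_of_elemAb hAe).exists_le_sylow
  have hS : ¬ IsMulCommutative (S : Subgroup G) := fun h => hS₀ (by
    have := h
    obtain ⟨e⟩ : Nonempty ((S₀ : Subgroup G) ≃* (S : Subgroup G)) := ⟨S₀.equiv S⟩
    exact ⟨⟨fun a b => e.injective (by rw [map_mul, map_mul]; exact this.is_comm.comm _ _)⟩⟩)
  set C := (S : Subgroup G) ⊓ Subgroup.centralizer (A : Set G) with hC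
  have hCM : C ≤ M := inf_le_right.trans (hI.rankTwo M hM r A ⟨hAM, hAe, hA2⟩).1
  have hCc : IsMulCommutative C := by
    obtain ⟨R, hR, hCR⟩ := exists_sylowOf_ge hCM (S.isPGroup'.to_le (inf_le_left : C ≤ _))
    obtain ⟨T, hT⟩ := hR.toSylow
    have hTc := ((hI.tauTwo M hM r hτ A ⟨hAM, hAe, hA2⟩).2.1 T).1
    refine ⟨⟨fun a b => Subtype.ext ?_⟩⟩
    have haR : (a : G) ∈ (T : Subgroup M).map M.subtype := by rw [hT]; exact hCR a.2
    have hbR : (b : G) ∈ (T : Subgroup M).map M.subtype := by rw [hT]; exact hCR b.2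
    obtain ⟨a', ha', ha''⟩ := haR
    obtain ⟨b', hb', hb''⟩ := hbR
    rw [Subgroup.coe_mul, Subgroup.coe_mul, ← ha'', ← hb'', ← map_mul, ← map_mul,
      mul_comm_of_mem hTc ha' hb']
  have hAC : A ≤ C := le_inf hAS fun a ha => Subgroup.mem_centralizer_iff.mpr fun b hb =>
    mul_comm_of_mem hAe.1 hb ha
  have hlt : C < (S : Subgroup G) := lt_of_le_of_ne inf_le_left fun h => hS (h ▸ hCc)
  obtain ⟨x, hx, hxC⟩ := SetLike.not_le_iff_exists.mp fun h =>
    (not_lt.mpr (Subgroup.card_le_of_le h)) (normalizer_grows S.isPGroup' hlt)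
  have hx' := Subgroup.mem_inf.mp hx
  have hxA : x ∈ Subgroup.normalizer (A : Set G) := by
    refine CfsgLib.Coprime.mem_normalizer_of_forall_conj fun a ha => ?_
    have h1 : x * a * x⁻¹ ∈ C := (Subgroup.mem_normalizer_iff.mp hx'.1 a).mp (hAC ha)
    refine (Sigma11.omega_eq hG hM (Sigma10.not_mem_alpha_of_not_mem_sigma hG hM hτ.2.1) hAM hAe hA2 _
      (Subgroup.mem_inf.mp h1).2).mp ?_
    rw [conj_pow, hAe.2 a ha, mul_one, mul_inv_cancel]
  set T := (S : Subgroup G) ⊓ Subgroup.normalizer (A : Set G) with hT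
  have hTna : ¬ IsMulCommutative T := fun h => hxC ⟨hx'.2, Subgroup.mem_centralizer_iff.mpr fun a ha =>
    mul_comm_of_mem h (Subgroup.mem_inf.mpr ⟨hAS ha, Subgroup.le_normalizer ha⟩)
      (Subgroup.mem_inf.mpr ⟨hx'.2, hxA⟩)⟩
  have huniq := inUnique_of_not_comm hG hI.rankTwo hI.nilpotent (S.isPGroup'.to_le (inf_le_left : T ≤ _)) hTna
  have hS1 : (S : Subgroup G) ≠ ⊥ := S.ne_bot_of_dvd_card hrG
  obtain ⟨L', hL', hle'⟩ := exists_isCoatom_ge
    (minSimple_normalizer_ne_top hG hS1 (minSimple_pgroup_ne_top hG S.isPGroup'))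
  have heq : L' = L := Uniq.InUniqueMaximal.eq huniq hL (inf_le_right.trans hle) hL'
    (inf_le_left.trans (Subgroup.le_normalizer.trans hle'))
  exact mem_sigma_of_sylow_normalizer_le hrG S (heq ▸ hle')

variable (hI : Inputs G)

include hG hI in
/-- The partner of a `κ(M)`-element has no `τ₂`-prime in `σ(M)`. -/
theorem tau2_avoid {M L K : Subgroup G} (hM : IsCoatom M) (hK : Cfsg.IsPiHallOf (Cfsg.kappa M) K M)
    {a : G} (ha : a ∈ K) (ha1 : a ≠ 1) (hL : IsCoatom L) (haL : a ∈ Cfsg.sigmaCore L)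
    (hcL : Subgroup.centralizer ({a} : Set G) ≤ L) {p : ℕ} (hpσ : p ∈ Cfsg.sigma M)
    (hpτ : p ∈ Cfsg.tau2 L) : False := by
  have := Fact.mk hpτ.1
  have hK1 : K ≠ ⊥ := fun h => ha1 (Subgroup.mem_bot.mp (h ▸ ha))
  set C := Cfsg.sigmaCore M ⊓ Subgroup.centralizer (K : Set G) with hC
  have hCL : C ≤ L := fun c hc => hcL (Subgroup.mem_centralizer_singleton_iff.mpr
    (Subgroup.mem_centralizer_iff.mp (Subgroup.mem_inf.mp hc).2 a ha).symm)
  obtain ⟨q, hq, hqd⟩ := Nat.exists_prime_and_dvd (n := orderOf a)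
    fun h => ha1 (orderOf_eq_one_iff.mp h)
  have hdis : ∀ t, t ∈ Cfsg.sigma M → t ∉ Cfsg.sigma L := fun t h1 h2 =>
    (hK.2.1 q hq (hqd.trans (Subgroup.orderOf_dvd_natCard _ ha))).2.2.1
      (sigma_eq_of_sigma hI.disjoint hM hL h1 h2 ▸ mem_sigma_of_mem_sigmaCore haL hq hqd)
  obtain ⟨E, hE, hCE⟩ := exists_compl_ge hG hL hCL fun t ht htd => hdis t
    (piNat_card_piCoreOf (Cfsg.sigma M) M t ht (htd.trans (Subgroup.card_dvd_of_le inf_le_left)))
  obtain ⟨B, hBE, hBe, hB2⟩ := exists_plane_compl hG hL hE hpτ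
  obtain ⟨⟨hBn, -⟩, -, -⟩ := hI.tauTwoCompl L hL E hE p hpτ B ⟨hBE, hBe, hB2⟩
  obtain ⟨-, -, -, -, hint, -⟩ := hI.tauTwo L hL p hpτ B ⟨hBE.trans hE.1, hBe, hB2⟩
  have hY : ∀ t : ℕ, t.Prime → t ∣ Nat.card ↥(C ⊔ B) → t ∈ Cfsg.sigma M := fun t ht hd => by
    rcases ht.dvd_mul.mp (hd.trans (card_sup_dvd_mul (hCE.trans hBn))) with h | h
    · exact piNat_card_piCoreOf (Cfsg.sigma M) M t ht (h.trans (Subgroup.card_dvd_of_le inf_le_left))
    · rw [hB2] at h
      rwa [(Nat.prime_dvd_prime_iff_eq ht hpτ.1).mp (ht.dvd_of_dvd_pow h)]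
  have hne : (C ⊔ B) ⊓ C ≠ ⊥ := by
    rw [inf_eq_right.mpr (le_sup_left : C ≤ C ⊔ B)]
    exact kstar_ne_bot hI hM hK hK1
  have hBM : B ≤ M := (le_sup_right.trans
    (le_sigmaCore_of_meets_kstar hG hI hM hK hK1 hY hne)).trans (sigmaCore_le M)
  have h1 : a ∈ Cfsg.sigmaCore L ⊓ M := ⟨haL, hK.1 ha⟩
  rw [hint M hM (fun h => hdis p hpσ (h ▸ hpσ)) hBM, Subgroup.mem_bot] at h1
  exact ha1 h1

include hG hI in
/-- S1436 (a). -/
theorem two_sigma_maximals_over_element_a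
    (M : Subgroup G) (hM : IsCoatom M) (x : G) (hx : x ∈ Cfsg.sigmaCore M) (hx1 : x ≠ 1) (hxM : ¬ Subgroup.centralizer ({x} : Set G) ≤ M)
    (N : Subgroup G) (hN : IsCoatom N) (hxN : Subgroup.centralizer ({x} : Set G) ≤ N) :
    (∃ p ∈ Cfsg.sigma N, p ∣ Nat.card M) → Cfsg.kappa M = ∅ ∧ Cfsg.tau2 M = ∅ := by
  rintro ⟨p, hpN, hpd⟩
  have := Fact.mk hpN.1
  obtain ⟨L₀, -, honly, -, -, hcN, hτx⟩ := centralizer_partner hG hI hM hx hx1 hxM
  obtain rfl : N = L₀ := honly.2 N hN hxN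
  obtain ⟨p₀, hp₀, hp₀d⟩ := Nat.exists_prime_and_dvd (n := orderOf x)
    fun h => hx1 (orderOf_eq_one_iff.mp h)
  have := Fact.mk hp₀
  have hp₀τ : p₀ ∈ Cfsg.tau2 N := hτx p₀ hp₀ hp₀d
  have hp₀σ : p₀ ∈ Cfsg.sigma M := mem_sigma_of_mem_sigmaCore hx hp₀ hp₀d
  have hp₀P : HasMaxPlane G p₀ := hasMaxPlane_of_tau2 hG hN hp₀τ
  have hdis : ∀ {t : ℕ}, t ∈ Cfsg.sigma M → t ∉ Cfsg.sigma N := fun h1 h2 =>
    hp₀τ.2.1 (sigma_eq_of_sigma hI.disjoint hM hN h1 h2 ▸ hp₀σ)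
  have hpM : p ∉ Cfsg.sigma M := fun h => hdis h hpN
  obtain ⟨a', ha'⟩ := exists_prime_orderOf_dvd_card' (G := M) p hpd
  set a : G := (a' : G) with ha
  have haM : a ∈ M := a'.2
  have hao : orderOf a = p := by rw [ha, Subgroup.orderOf_coe, ha']
  have ha1 : a ≠ 1 := fun h => hpN.1.ne_one (by rw [← hao, h, orderOf_one])
  have hAc : Nat.card (Subgroup.zpowers a) = p := by rw [Nat.card_zpowers, hao]
  have hκ0 : Cfsg.kappa M = ∅ := by
    rw [Set.eq_empty_iff_forall_notMem]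
    intro q hq
    by_cases hpκ : p ∈ Cfsg.kappa M
    swap
    · exact no_plane_of_type_two hG hI hM hpN.1 hpd hpM hpκ ⟨q, hq⟩ hp₀σ hp₀P
    obtain ⟨K, hK, haK⟩ := exists_hall_kappa_ge hG hI hM (Subgroup.zpowers_le.mpr haM) fun t ht htd => by
      rw [hAc] at htd
      rwa [(Nat.prime_dvd_prime_iff_eq ht hpN.1).mp htd]
    have hA1 : Subgroup.zpowers a ≠ ⊥ := fun h => ha1 (Subgroup.zpowers_eq_bot.mp h)
    obtain ⟨L, hL, hle⟩ := exists_isCoatom_ge (minSimple_normalizer_ne_top hG hA1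
      (minSimple_pgroup_ne_top hG (IsPGroup.of_card (n := 1) (by rw [hAc, pow_one]))))
    obtain ⟨hpL, haL⟩ := mem_sigma_of_kappa hG hI hM hpκ hAc (Subgroup.zpowers_le.mpr haM) hL hle
    obtain ⟨g, hg⟩ := exists_cj_eq_of_sigma hI.disjoint hN hL hpN hpL
    exact tau2_avoid hG hI hM hK (haK (Subgroup.mem_zpowers a)) ha1 hL (haL (Subgroup.mem_zpowers a))
      ((centralizer_zpowers_le_normalizer a).trans hle) hp₀σ (hg ▸ (tau2_cj g N).symm ▸ hp₀τ)
  refine ⟨hκ0, Set.eq_empty_iff_forall_notMem.mpr fun r hrτ => ?_⟩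
  have := Fact.mk hrτ.1
  have hrN : r ∉ Cfsg.sigma N := fun h => no_mutual hG hI.toLocal hM hN hrτ h hp₀τ hp₀σ
  have hpr1 : Cfsg.PRankLE p 1 M := (tau2_or_rank_one hG hM hpN.1 hpM).resolve_left
    fun h => no_mutual hG hI.toLocal hM hN h hpN hp₀τ hp₀σ
  have hfree : ∀ w ∈ Cfsg.sigmaCore M, a * w = w * a → w = 1 := fun w hw hwa => by
    by_contra hw1
    have h := mem_kappa hG hM hpM hpr1 haM hao hw hw1 hwa
    rw [hκ0] at h
    exact h
  obtain ⟨E, hE, haE⟩ := exists_compl_ge hG hM (Subgroup.zpowers_le.mpr haM) fun t ht htd => by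
    rw [hAc] at htd
    rwa [(Nat.prime_dvd_prime_iff_eq ht hpN.1).mp htd]
  obtain ⟨A, hAE, hAe, hA2⟩ := exists_plane_compl hG hM hE hrτ
  obtain ⟨⟨hAn, hAall⟩, -, -⟩ := hI.tauTwoCompl M hM E hE r hrτ A ⟨hAE, hAe, hA2⟩
  have hAM : A ≤ M := hAE.trans hE.1
  obtain ⟨hnil, -, -, hCA, -, -⟩ := hI.tauTwo M hM r hrτ A ⟨hAM, hAe, hA2⟩
  have hA1 : A ≠ ⊥ := fun h => by
    rw [h, Subgroup.card_bot] at hA2
    exact absurd hA2.symm (Nat.one_lt_pow two_ne_zero hrτ.1.one_lt).ne'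
  obtain ⟨L, hL, hle⟩ := exists_isCoatom_ge
    (minSimple_normalizer_ne_top hG hA1 (minSimple_pgroup_ne_top hG (isPGroup_of_elemAb hAe)))
  have hrL : r ∈ Cfsg.sigma L := mem_sigma_of_normalizer_plane hG hI.toLocal hM hL hrτ hAM hAe hA2 hle
  have haA : a ∈ Subgroup.normalizer (A : Set G) := hAn (haE (Subgroup.mem_zpowers a))
  have haL : a ∈ L := hle haA
  have hLM : L ≠ M := fun h => hrτ.2.1 (h ▸ hrL)
  have hpL : p ∉ Cfsg.sigma L := fun h =>
    hrN (sigma_eq_of_sigma hI.disjoint hN hL hpN h ▸ hrL)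
  have hALσ : A ≤ Cfsg.sigmaCore L := le_sigmaCore hG hL (Subgroup.le_normalizer.trans hle)
    fun t ht htd => by
      rw [hA2] at htd
      rwa [(Nat.prime_dvd_prime_iff_eq ht hrτ.1).mp (ht.dvd_of_dvd_pow htd)]
  set P := Subgroup.zpowers a with hP
  set S := Cfsg.sigmaCore M with hS
  have hSn : M ≤ Subgroup.normalizer (S : Set G) := piCoreOf_normal _ _
  have hPA : P ≤ Subgroup.normalizer (A : Set G) := Subgroup.zpowers_le.mpr haA
  have hpr : p ≠ r := fun h => hrN (h ▸ hpN)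
  have hcopPA : (Nat.card P).Coprime (Nat.card A) := by
    rw [hAc, hA2]
    exact ((Nat.coprime_primes hpN.1 hrτ.1).mpr hpr).pow_right 2
  have hP1 : P ≠ ⊥ := fun h => ha1 (Subgroup.zpowers_eq_bot.mp h)
  -- a fixed-point-free action on a subgroup of `A` centralizes `M_σ`
  have hfrob : ∀ Y : Subgroup G, Y ≤ A → P ≤ Subgroup.normalizer (Y : Set G) →
      (∀ u ∈ Y, a * u = u * a → u = 1) → S ≤ Subgroup.centralizer (Y : Set G) := by
    intro Y hYA hPY hfix
    have hfpf : ∀ e ∈ P, e ≠ 1 → ∀ u ∈ Y, e * u = u * e → u = 1 := by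
      intro e he he1 u hu heu
      refine hfix u hu ?_
      have hze : Subgroup.zpowers e = P := by
        refine Subgroup.eq_of_le_of_card_ge (Subgroup.zpowers_le.mpr he) ?_
        rw [hAc, Nat.card_zpowers]
        rcases (Nat.dvd_prime hpN.1).mp (hAc ▸ Subgroup.orderOf_dvd_natCard _ he) with h | h
        · exact absurd (orderOf_eq_one_iff.mp h) he1
        · exact h.ge
      exact (Subgroup.mem_centralizer_singleton_iff.mp (centralizer_le_of_mem_zpowers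
        (hze.symm ▸ Subgroup.mem_zpowers a) (Subgroup.mem_centralizer_singleton_iff.mpr heu.symm))).symm
    have hsolv : Group.IsSolvable S := by
      have := minSimple_solvable hG hM.1
      exact solvable_of_solvable_injective (Subgroup.inclusion_injective (sigmaCore_le M))
    have hcop : (Nat.card S).Coprime (Nat.card ↥(Y ⊔ P)) := Nat.coprime_of_dvd fun t ht h1 h2 => by
      have htσ : t ∈ Cfsg.sigma M := piNat_card_piCoreOf (Cfsg.sigma M) M t ht h1
      rw [sup_comm] at h2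
      rcases ht.dvd_mul.mp (h2.trans (card_sup_dvd_mul hPY)) with h | h
      · rw [hAc, Nat.prime_dvd_prime_iff_eq ht hpN.1] at h
        exact hpM (h ▸ htσ)
      · have h' := h.trans (Subgroup.card_dvd_of_le hYA)
        rw [hA2] at h'
        exact hrτ.2.1 ((Nat.prime_dvd_prime_iff_eq ht hrτ.1).mp (ht.dvd_of_dvd_pow h') ▸ htσ)
    have hf := FixedFormula.fixed_formula Y P hP1 hPY (FixedFormula.coprime_of_fpf hPY hfpf) hfpf S
      ((sup_le (hYA.trans hAM) (Subgroup.zpowers_le.mpr haM)).trans hSn) hsolv hcop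
    have hSP : S ⊓ Subgroup.centralizer (P : Set G) = ⊥ := (Subgroup.eq_bot_iff_forall _).mpr fun w hw =>
      hfree w (Subgroup.mem_inf.mp hw).1
        (Subgroup.mem_centralizer_iff.mp (Subgroup.mem_inf.mp hw).2 a (Subgroup.mem_zpowers a))
    have hSYP : S ⊓ Subgroup.centralizer ((Y ⊔ P : Subgroup G) : Set G) = ⊥ := le_bot_iff.mp
      (hSP ▸ inf_le_inf le_rfl (Subgroup.centralizer_le fun _ hz => Subgroup.mem_sup_right hz))
    rw [hSP, hSYP, Subgroup.card_bot, one_pow, one_mul, one_mul] at hf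
    exact (Subgroup.eq_of_le_of_card_ge (inf_le_left : S ⊓ Subgroup.centralizer (Y : Set G) ≤ S) hf.le).ge.trans
      inf_le_right
  -- `C_A(a) ≠ 1`
  obtain ⟨x', hx'A, hx'1, hax'⟩ : ∃ w ∈ A, w ≠ 1 ∧ a * w = w * a := by
    by_contra hcon
    push_neg at hcon
    have h := hfrob A le_rfl hPA fun u hu hau => by_contra fun hu1 => hcon u hu hu1 hau
    exact Sigma15.sigmaCore_ne_bot hG hM (le_bot_iff.mp (hCA ▸ le_inf le_rfl h))
  have hx'o : orderOf x' = r := orderOf_eq_prime (hAe.2 x' hx'A) hx'1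
  -- `p ∈ κ(L)`
  have hpκL : p ∈ Cfsg.kappa L := by
    rcases tau2_or_rank_one hG hL hpN.1 hpL with hpτ | hr1
    · exact absurd (tau2_lt_sigma hG hI.toLocal hL hpτ hrL (hasMaxPlane_of_tau2 hG hM hrτ))
        (not_lt.mpr ((tau2_lt_sigma hG hI.toLocal hM hrτ hp₀σ hp₀P).trans
          (tau2_lt_sigma hG hI.toLocal hN hp₀τ hpN (hasMaxPlane_of_tau2 hG hL hpτ))).le)
    · exact mem_kappa hG hL hpL hr1 haL hao (hALσ hx'A) hx'1 hax'
  obtain ⟨K, hK, haK⟩ := exists_hall_kappa_ge hG hI hL (Subgroup.zpowers_le.mpr haL) fun t ht htd => by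
    rw [hAc] at htd
    rwa [(Nat.prime_dvd_prime_iff_eq ht hpN.1).mp htd]
  have haK' : a ∈ K := haK (Subgroup.mem_zpowers a)
  have hK1 : K ≠ ⊥ := fun h => ha1 (Subgroup.mem_bot.mp (h ▸ haK'))
  obtain ⟨hNK, -, -⟩ := (hI.kappaHall L hL K hK hK1).2.2 P haK (hAc.symm ▸ hpN.1)
  have hinC : ∀ w ∈ A, a * w = w * a → w ∈ Cfsg.sigmaCore L ⊓ Subgroup.centralizer (K : Set G) :=
    fun w hw haw => sup_kstar_inf_sigma hK (hNK ▸ ⟨hle (Subgroup.le_normalizer hw),
      centralizer_zpowers_le_normalizer a (Subgroup.mem_centralizer_singleton_iff.mpr haw.symm)⟩) (hALσ hw)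
  obtain ⟨L'', hL'', hle''⟩ := exists_isCoatom_ge (minSimple_normalizer_ne_top hG hP1
    (minSimple_pgroup_ne_top hG (IsPGroup.of_card (n := 1) (by rw [hAc, pow_one]))))
  obtain ⟨hpL'', haL''⟩ := mem_sigma_of_kappa hG hI hL hpκL hAc (Subgroup.zpowers_le.mpr haL) hL'' hle''
  obtain ⟨g, hg⟩ := exists_cj_eq_of_sigma hI.disjoint hN hL'' hpN hpL''
  by_cases hAa : ∀ w ∈ A, a * w = w * a
  · obtain ⟨z, hzA, hz1, hzS⟩ := Sigma12.exists_good hG hM hrτ hAM hAe hA2
    obtain ⟨w, hw, hw1⟩ := (Subgroup.bot_or_exists_ne_one _).resolve_left hzS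
    have hw' := Subgroup.mem_inf.mp hw
    obtain ⟨-, huniq⟩ := (hI.nilpotent M hM E hE).2.2.2 z (hAM hzA) hz1 (fun t ht htd => by
      rw [orderOf_eq_prime (hAe.2 z hzA) hz1] at htd
      rwa [(Nat.prime_dvd_prime_iff_eq ht hrτ.1).mp htd])
      ⟨hAM hzA, w, hw'.1, hw1, (Subgroup.mem_centralizer_singleton_iff.mp hw'.2).symm⟩
    exact hLM (huniq L hL (centralizer_kstar_le hG hI hL hK hK1 (hinC z hzA (hAa z hzA)) hz1))
  · -- the non-central case
    set Y := ⁅A, P⁆ with hY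
    have hAcomm : IsMulCommutative A := hAe.1
    have hYA : Y ≤ A := commutator_le_of_normalizes hPA
    have hYC := CfsgLib.Coprime.commutator_inf_centralizer_eq_bot P A hPA hcopPA
    have hY1 : Y ≠ ⊥ := fun h => hAa fun w hw => (Subgroup.mem_centralizer_iff.mp
      ((Subgroup.commutator_eq_bot_iff_le_centralizer.mp h) hw) a (Subgroup.mem_zpowers a))
    have hYS : S ≤ Subgroup.centralizer (Y : Set G) := hfrob Y hYA
      (InvariantCore.le_normalizer_commutator hPA Subgroup.le_normalizer) fun u hu hau => by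
        refine Subgroup.mem_bot.mp (hYC ▸ (⟨hu, ?_⟩ : u ∈ Y ⊓ Subgroup.centralizer (P : Set G)))
        rw [hP, OddOrder41.centralizer_zpowers]
        exact Subgroup.mem_centralizer_singleton_iff.mpr hau.symm
    obtain ⟨y, hy, hy1⟩ := (Subgroup.bot_or_exists_ne_one Y).resolve_left hY1
    have hyo : orderOf y = r := orderOf_eq_prime (hAe.2 y (hYA hy)) hy1
    -- the same configuration in the partner `L''` of `L`
    have hx'L'' : x' ∈ L'' := hle'' (centralizer_zpowers_le_normalizer a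
      (Subgroup.mem_centralizer_singleton_iff.mpr hax'.symm))
    have hrL'' : r ∉ Cfsg.sigma L'' := fun h => hrN (by rw [hg, sigma_cj] at h; exact h)
    have hrr1 : Cfsg.PRankLE r 1 L'' := by
      refine (tau2_or_rank_one hG hL'' hrτ.1 hrL'').resolve_left fun hrτ'' => hpL ?_
      obtain ⟨E'', hE''⟩ := exists_compl hG hL''
      obtain ⟨-, huniq⟩ := (hI.nilpotent L'' hL'' E'' hE'').2.2.2 x' hx'L'' hx'1 (fun t ht htd => by
        rw [hx'o] at htd
        rwa [(Nat.prime_dvd_prime_iff_eq ht hrτ.1).mp htd])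
        ⟨hx'L'', a, haL'' (Subgroup.mem_zpowers a), ha1, hax'.symm⟩
      rw [huniq L hL (centralizer_kstar_le hG hI hL hK hK1 (hinC x' hx'A hax') hx'1)]
      exact hpL''
    have hrκ'' : r ∈ Cfsg.kappa L'' := mem_kappa hG hL'' hrL'' hrr1 hx'L'' hx'o
      (haL'' (Subgroup.mem_zpowers a)) ha1 hax'.symm
    obtain ⟨K'', hK'', hx'K''⟩ := exists_hall_kappa_ge hG hI hL'' (Subgroup.zpowers_le.mpr hx'L'')
      fun t ht htd => by
        rw [Nat.card_zpowers, hx'o] at htd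
        rwa [(Nat.prime_dvd_prime_iff_eq ht hrτ.1).mp htd]
    -- a conjugate of `M` meeting `L''` in a complement through `x'`
    have hsolv'' := minSimple_solvable hG hL''.1
    have hW : cj g (M ⊓ N) ≤ L'' := hg ▸ cj_mono inf_le_right
    obtain ⟨l, hl, hlle⟩ := OddOrder41.exists_conj_into (π := (Cfsg.sigma N)ᶜ) hW (fun t ht htσ hd => by
      have e1 := card_mul_relIndex_of_le hW
      have e2 := card_mul_relIndex_of_le (inf_le_right : M ⊓ N ≤ N)
      rw [IsComplIn.relIndex_left hcN] at e2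
      rw [card_cj, hg, card_cj, ← e2] at e1
      rw [hg, Nat.eq_of_mul_eq_mul_left Nat.card_pos e1] at hd
      exact htσ (piNat_card_piCoreOf (Cfsg.sigma N) N t ht hd))
      (Subgroup.zpowers_le.mpr hx'L'') (fun t ht htd => by
        rw [Nat.card_zpowers, hx'o] at htd
        rw [(Nat.prime_dvd_prime_iff_eq ht hrτ.1).mp htd]
        exact hrN)
    set h := l⁻¹ * g with hh
    have hhN : cj h N = L'' := by rw [hh, ← cj_mul, ← hg, cj_eq_of_mem (L''.inv_mem hl)]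
    set M' := cj h M with hM'def
    have hM' : IsCoatom M' := isCoatom_map_conj hM h
    have hx'M' : x' ∈ M' := by
      have h1 := (cj_le_iff.mp hlle) (Subgroup.mem_zpowers x')
      rw [cj_mul, ← hh] at h1
      exact cj_mono inf_le_left h1
    obtain ⟨B₀, hB₀, hB₀e, hB₀2⟩ := exists_plane_compl hG hN hcN hp₀τ
    set B := cj h B₀ with hBdef
    have hBe : Cfsg.IsElementaryAbelian p₀ B := elemAb_map hB₀e _
    have hB2 : Nat.card B = p₀ ^ 2 := by rw [hBdef, card_cj, hB₀2]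
    have hBM' : B ≤ M' := cj_mono (hB₀.trans inf_le_left)
    have hBL'' : B ≤ L'' := hhN ▸ cj_mono (hB₀.trans inf_le_right)
    have hBσ : B ≤ Cfsg.sigmaCore M' := le_sigmaCore hG hM' hBM' fun t ht htd => by
      rw [hB2] at htd
      rw [(Nat.prime_dvd_prime_iff_eq ht hp₀).mp (ht.dvd_of_dvd_pow htd), sigma_cj]
      exact hp₀σ
    have hrτ' : r ∈ Cfsg.tau2 M' := by rw [tau2_cj]; exact hrτ
    obtain ⟨E', hE', hx'E'⟩ := exists_compl_ge hG hM' (Subgroup.zpowers_le.mpr hx'M') fun t ht htd => by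
      rw [Nat.card_zpowers, hx'o] at htd
      rw [(Nat.prime_dvd_prime_iff_eq ht hrτ.1).mp htd]
      exact hrτ'.2.1
    have hsolv' := minSimple_solvable hG hM'.1
    obtain ⟨m, hm, hmle⟩ := OddOrder41.exists_conj_into (π := (Cfsg.sigma M')ᶜ) hE'.1
      (fun t ht htσ hd => by
        rw [IsComplIn.relIndex_left hE'] at hd
        exact htσ (piNat_card_piCoreOf (Cfsg.sigma M') M' t ht hd))
      (cj_mono hAM : cj h A ≤ M') (fun t ht htd => by
        rw [card_cj, hA2] at htd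
        rw [(Nat.prime_dvd_prime_iff_eq ht hrτ.1).mp (ht.dvd_of_dvd_pow htd)]
        exact hrτ'.2.1)
    set A' := cj m (cj h A) with hA'
    have hA'e : Cfsg.IsElementaryAbelian r A' := elemAb_map (elemAb_map hAe _) _
    have hA'2 : Nat.card A' = r ^ 2 := by rw [hA', card_cj, card_cj, hA2]
    obtain ⟨⟨-, hA'all⟩, -, -⟩ := hI.tauTwoCompl M' hM' E' hE' r hrτ' A' ⟨hmle, hA'e, hA'2⟩
    have hx'A' : x' ∈ A' := hA'all _ hx'E' (by rw [Nat.card_zpowers, hx'o]) (Subgroup.mem_zpowers x')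
    set y' := m * (h * y * h⁻¹) * m⁻¹ with hy'
    have hy'A' : y' ∈ A' := mem_cj_self.mpr (mem_cj_self.mpr (hYA hy))
    have hy'1 : y' ≠ 1 := fun h0 => hy1 (by simpa [hy'] using h0)
    have hy'C : y' ∈ Subgroup.centralizer (B : Set G) := by
      have h1 : m * (h * y * h⁻¹) * m⁻¹ ∈ cj m (cj h (Subgroup.centralizer (S : Set G))) :=
        mem_cj_self.mpr (mem_cj_self.mpr (Subgroup.mem_centralizer_iff.mpr fun w hw =>
          (Subgroup.mem_centralizer_iff.mp (hYS hw) y hy).symm))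
      have hmS : cj m (Cfsg.sigmaCore M') = Cfsg.sigmaCore M' :=
        cj_eq_of_mem_normalizer (piCoreOf_normal (Cfsg.sigma M') M' hm)
      rw [OddOrder41.cj_centralizer, OddOrder41.cj_centralizer, hS, ← sigmaCore_cj, ← hM'def, hmS] at h1
      exact Subgroup.centralizer_le (fun _ hz => hBσ hz) h1
    have hy'L'' : y' ∈ L'' := (hI.rankTwo L'' hL'' p₀ B ⟨hBL'', hBe, hB2⟩).1 hy'C
    have hyx : y' ∉ Subgroup.zpowers x' := by
      intro hyx
      have hgen : x' ∈ Subgroup.zpowers y' := by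
        have he : Subgroup.zpowers y' = Subgroup.zpowers x' := by
          refine Subgroup.eq_of_le_of_card_ge (Subgroup.zpowers_le.mpr hyx) ?_
          rw [Nat.card_zpowers, Nat.card_zpowers, hx'o, orderOf_eq_prime (hA'e.2 y' hy'A') hy'1]
        exact he ▸ Subgroup.mem_zpowers x'
      have hx'C : x' ∈ Subgroup.centralizer (B : Set G) := Subgroup.zpowers_le.mpr hy'C hgen
      obtain ⟨b, hb, hb1⟩ := (Subgroup.bot_or_exists_ne_one B).resolve_left fun h0 => by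
        rw [h0, Subgroup.card_bot] at hB2
        exact absurd hB2.symm (Nat.one_lt_pow two_ne_zero hp₀.one_lt).ne'
      rcases mem_kappa_union_sigma_of_commute hG hI hL'' hK'' (hx'K'' (Subgroup.mem_zpowers x')) hx'1
        (hBL'' hb) (Subgroup.mem_centralizer_iff.mp hx'C b hb).symm hp₀
        (by rw [orderOf_eq_prime (hBe.2 b hb) hb1]) with h | h
      · exact not_plane_le_of_kappa h hBL'' hBe hB2
      · rw [hg, sigma_cj] at h
        exact hdis hp₀σ h
    refine not_plane_le_of_kappa hrκ'' ?_ hA'e hA'2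
    rw [← Sigma11.eq_sup_zpowers hA'e hA'2 hx'A' hx'1 hy'A' hyx]
    exact sup_le (Subgroup.zpowers_le.mpr hx'L'') (Subgroup.zpowers_le.mpr hy'L'')

include hG hI in
theorem two_sigma_maximals_over_element
    (M : Subgroup G) (hM : IsCoatom M) (x : G) (hx : x ∈ Cfsg.sigmaCore M) (hx1 : x ≠ 1) (hxM : ¬ Subgroup.centralizer ({x} : Set G) ≤ M)
    (N : Subgroup G) (hN : IsCoatom N) (hxN : Subgroup.centralizer ({x} : Set G) ≤ N) :
    ((∃ p ∈ Cfsg.sigma N, p ∣ Nat.card M) → Cfsg.kappa M = ∅ ∧ Cfsg.tau2 M = ∅) ∧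
      ∀ (y : G) (N' : Subgroup G) (g : G), y ∈ Cfsg.sigmaCore M → y ≠ 1 → ¬ Subgroup.centralizer ({y} : Set G) ≤ M → IsCoatom N' → Subgroup.centralizer ({y} : Set G) ≤ N' →
        N'.map (MulAut.conj g).toMonoidHom = N → ∃ m ∈ M, N'.map (MulAut.conj m).toMonoidHom = N :=
  ⟨two_sigma_maximals_over_element_a hG hI M hM x hx hx1 hxM N hN hxN,
    partner_conj_by_mem hG hI M hM x hx hx1 hxM N hN hxN⟩

end CfsgLib.OddOrder38
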