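import Mathlib
import Cfsg.Agent.Lib.OddOrder38.Main1436
import Cfsg.Agent.Lib.OddOrder.Sigma11Local
import Cfsg.Agent.Lib.OddOrder.Sigma10Main

/-!
# Small lemmas for BG 14.8
-/

set_option autoImplicit false

namespace CfsgLib.OddOrder38

open Subgroup CfsgLib.OddOrder CfsgLib.OddOrder.Transitivity CfsgLib.OddOrder41
open scoped commutatorElement

universe u

variable {G : Type u} [Group G] [Finite G]

omit [Finite G] in
/-- Automorphisms induced on a cyclic subgroup commute. -/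
theorem commutator_mem_centralizer_of_cyclic {Y : Subgroup G} (hY : IsCyclic Y) {x g : G}
    (hx : x ∈ Subgroup.normalizer (Y : Set G)) (hg : g ∈ Subgroup.normalizer (Y : Set G)) :
    ⁅x, g⁆ ∈ Subgroup.centralizer (Y : Set G) := by
  obtain ⟨⟨y₀, hy₀⟩, hgen⟩ := hY.exists_zpow_surjective
  have hpow : ∀ y ∈ Y, ∃ i : ℤ, y = y₀ ^ i := fun y hy => by
    obtain ⟨i, hi⟩ := hgen ⟨y, hy⟩
    exact ⟨i, (congrArg Subtype.val hi).symm⟩
  have hinv : ∀ {z : G}, z ∈ Subgroup.normalizer (Y : Set G) → ∃ m : ℤ, ∀ i : ℤ,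
      z * y₀ ^ i * z⁻¹ = y₀ ^ (i * m) := fun {z} hz => by
    obtain ⟨m, hm⟩ := hpow _ ((Subgroup.mem_normalizer_iff.mp hz y₀).mp hy₀)
    exact ⟨m, fun i => by rw [← conj_zpow, hm, ← zpow_mul, mul_comm]⟩
  obtain ⟨m, hm⟩ := hinv (inv_mem hx)
  obtain ⟨n, hn⟩ := hinv (inv_mem hg)
  refine Subgroup.mem_centralizer_iff.mpr fun y hy => ?_
  obtain ⟨i, rfl⟩ := hpow y hy
  have h1 : x⁻¹ * g⁻¹ * y₀ ^ i * (x⁻¹ * g⁻¹)⁻¹ = y₀ ^ (i * n * m) := by
    rw [show x⁻¹ * g⁻¹ * y₀ ^ i * (x⁻¹ * g⁻¹)⁻¹ = x⁻¹ * (g⁻¹ * y₀ ^ i * g⁻¹⁻¹) * x⁻¹⁻¹ by group,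
      hn, hm]
  have h2 : g⁻¹ * x⁻¹ * y₀ ^ i * (g⁻¹ * x⁻¹)⁻¹ = y₀ ^ (i * m * n) := by
    rw [show g⁻¹ * x⁻¹ * y₀ ^ i * (g⁻¹ * x⁻¹)⁻¹ = g⁻¹ * (x⁻¹ * y₀ ^ i * x⁻¹⁻¹) * g⁻¹⁻¹ by group,
      hm, hn]
  have h3 : x⁻¹ * g⁻¹ * y₀ ^ i * (x⁻¹ * g⁻¹)⁻¹ = g⁻¹ * x⁻¹ * y₀ ^ i * (g⁻¹ * x⁻¹)⁻¹ := by
    rw [h1, h2, mul_right_comm]
  calc y₀ ^ i * ⁅x, g⁆ = x * g * (g⁻¹ * x⁻¹ * y₀ ^ i * (g⁻¹ * x⁻¹)⁻¹) * (x⁻¹ * g⁻¹) := by
        rw [commutatorElement_def]
        group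
    _ = x * g * (x⁻¹ * g⁻¹ * y₀ ^ i * (x⁻¹ * g⁻¹)⁻¹) * (x⁻¹ * g⁻¹) := by rw [h3]
    _ = ⁅x, g⁆ * y₀ ^ i := by
        rw [commutatorElement_def]
        group

variable (hG : Cfsg.IsMinSimpleOddOrder G)

include hG in
/-- A `t`-group, `t ∉ β(M)`, normalized by an element of `M_σ` of prime order `q ≠ t` is centralized
by it. -/
theorem commute_of_not_beta {M X : Subgroup G} (hM : IsCoatom M) {t q : ℕ} (ht : t.Prime)
    (hq : q.Prime) (htq : t ≠ q) (htβ : t ∉ Cfsg.beta M) (hXM : X ≤ M) (hX : IsPGroup t X) {a : G}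
    (ha : a ∈ Cfsg.sigmaCore M) (hao : orderOf a = q) (haX : a ∈ Subgroup.normalizer (X : Set G))
    {x : G} (hx : x ∈ X) : a * x = x * a := by
  have := Fact.mk ht
  have hcX : ⁅a, x⁆ ∈ X := by
    rw [commutatorElement_def]
    exact mul_mem ((Subgroup.mem_normalizer_iff.mp haX x).mp hx) (inv_mem hx)
  obtain ⟨n, hn⟩ := hX.exists_card_eq
  have hcd : orderOf ⁅a, x⁆ ∣ t ^ n := (Subgroup.orderOf_dvd_natCard _ hcX).trans (dvd_of_eq hn)
  have hbot : ∀ {m : ℕ}, ¬ t ∣ m → orderOf ⁅a, x⁆ ∣ m → ⁅a, x⁆ = 1 := fun htm hd =>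
    orderOf_eq_one_iff.mp (Nat.eq_one_of_dvd_coprimes ((ht.coprime_iff_not_dvd.mpr htm).pow_left n) hcd hd)
  refine commutatorElement_eq_one_iff_mul_comm.mp ?_
  by_cases htσ : t ∈ Cfsg.sigma M
  swap
  · refine hbot (fun h => htσ (piNat_card_piCoreOf (Cfsg.sigma M) M t ht h))
      (Subgroup.orderOf_dvd_natCard (Cfsg.sigmaCore M) ?_)
    rw [commutatorElement_def, show a * x * a⁻¹ * x⁻¹ = a * (x * a⁻¹ * x⁻¹) by group]
    exact mul_mem ha ((Subgroup.mem_normalizer_iff.mp (piCoreOf_normal (Cfsg.sigma M) M (hXM hx)) a⁻¹).mp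
      (inv_mem ha))
  have hSD := Sigma11.sigmaCore_le_derived hG hM
  have hxS : X ≤ Cfsg.sigmaCore M := le_sigmaCore hG hM hXM fun r hr hd => by
    rw [hn] at hd
    rw [(Nat.prime_dvd_prime_iff_eq hr ht).mp (hr.dvd_of_dvd_pow hd)]
    exact htσ
  obtain ⟨P, N, hNn, hNP⟩ := (Sigma10.derived_complement hG hM
    (fun p _ => Sigma10.pLengthLE_one_proper hG p) (Sigma10.propFiveFive hG) ht htβ).1
  set a' : ↥⁅M, M⁆ := ⟨a, hSD ha⟩ with ha'
  set x' : ↥⁅M, M⁆ := ⟨x, hSD (hxS hx)⟩ with hx'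
  have haN : a' ∈ N := by
    obtain ⟨m, hm⟩ := P.isPGroup'.exists_card_eq
    have hidx : N.index = t ^ m := hNP.symm.index_eq_card.trans hm
    have hcop : (orderOf a').Coprime N.index := by
      rw [hidx, ← Subgroup.orderOf_coe, ha', hao]
      exact ((Nat.coprime_primes hq ht).mpr (Ne.symm htq)).pow_right m
    rw [← QuotientGroup.eq_one_iff, ← orderOf_eq_one_iff]
    exact Nat.eq_one_of_dvd_coprimes hcop (orderOf_map_dvd (QuotientGroup.mk' N) a')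
      (by rw [Subgroup.index_eq_card]; exact orderOf_dvd_natCard _)
  refine hbot (m := Nat.card N) ?_ ?_
  · rw [← hNP.index_eq_card]
    exact P.not_dvd_index
  · have hc : ⁅a', x'⁆ ∈ N := by
      rw [commutatorElement_def, mul_assoc, mul_assoc]
      exact mul_mem haN (by simpa [mul_assoc] using hNn.conj_mem _ (inv_mem haN) x')
    have h := Subgroup.orderOf_dvd_natCard _ hc
    rwa [← Subgroup.orderOf_coe] at h

omit [Finite G] in
/-- `O_{σ(H)'}(F(H))` is normal in `H`. -/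
theorem le_normalizer_fitting_core [Finite G] (H : Subgroup G) : H ≤ Subgroup.normalizer
    ((Cfsg.piCoreOf {q | q.Prime ∧ q ∉ Cfsg.sigma H} (Cfsg.fittingOf H) : Subgroup G) : Set G) := by
  intro h hh
  refine mem_normalizer_of_cj_eq ?_
  rw [Transitivity.cj]
  conv_rhs => rw [← cj_eq_of_mem_normalizer (fittingOf_normal H hh)]
  exact piCoreOf_map _ (MulAut.conj h).toMonoidHom (MulAut.conj h).injective (Cfsg.fittingOf H)

include hG in
/-- The trick with `O_{σ(H)'}(F(H))`: a `σ(H)'`-group `T = [T, a]` centralizing `H_σ` lies in it. -/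
theorem le_fitting_core_of_commutator {H T : Subgroup G} (hH : IsCoatom H) {t : ℕ} [Fact t.Prime]
    (hTH : T ≤ H) (hT : IsPGroup t T) (htσ : t ∉ Cfsg.sigma H)
    (hTS : T ≤ Subgroup.centralizer (Cfsg.sigmaCore H : Set G)) {a : G} (ha : a ∈ H)
    (hTa : T ≤ ⁅T, Subgroup.zpowers a⁆) :
    T ≤ Cfsg.piCoreOf {q | q.Prime ∧ q ∉ Cfsg.sigma H} (Cfsg.fittingOf H) := by
  obtain ⟨hcyc, -, hF⟩ := Sigma15.fitting_structure hG hH
  set Y₀ := Cfsg.piCoreOf {q | q.Prime ∧ q ∉ Cfsg.sigma H} (Cfsg.fittingOf H) with hY₀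
  have hYn : H ≤ Subgroup.normalizer (Y₀ : Set G) := le_normalizer_fitting_core H
  have h1 : T ≤ Subgroup.centralizer (Y₀ : Set G) := hTa.trans (Subgroup.commutator_le.mpr
    fun x hx g hg => commutator_mem_centralizer_of_cyclic hcyc (hYn (hTH hx))
      (hYn (Subgroup.zpowers_le.mpr ha hg)))
  have h2 : T ≤ Subgroup.centralizer (Cfsg.fittingOf H : Set G) := by
    rw [hF]
    refine Subgroup.le_centralizer_iff.mp (sup_le ?_ (Subgroup.le_centralizer_iff.mp h1))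
    exact (fittingOf_le _).trans (Subgroup.le_centralizer_iff.mp hTS)
  have hTF : T ≤ Cfsg.fittingOf H :=
    (le_inf hTH h2).trans (centralizer_fittingOf_le (minSimple_solvable hG hH.1))
  refine (le_opCore_of_le_fittingOf hTF hT).trans (le_piCoreOf (opCore_le_fittingOf Fact.out H)
    ((fittingOf_le H).trans (opCore_normal t H)) fun r hr hd => ?_)
  obtain ⟨n, hn⟩ := (opCore_isPGroup t H).exists_card_eq
  rw [hn] at hd
  rw [(Nat.prime_dvd_prime_iff_eq hr Fact.out).mp (hr.dvd_of_dvd_pow hd)]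
  exact ⟨Fact.out, htσ⟩

omit [Finite G] in
/-- The Sylow subgroup of an abelian group is normalized by its normalizer. -/
theorem mem_normalizer_sylow_of_comm [Finite G] {T U : Subgroup G} {t : ℕ} [Fact t.Prime]
    (hT : SylowOf t T U) (hU : IsMulCommutative U) {k : G}
    (hk : k ∈ Subgroup.normalizer (U : Set G)) : k ∈ Subgroup.normalizer (T : Set G) := by
  refine mem_normalizer_of_cj_eq ?_
  have hle : cj k T ≤ U := (cj_mono hT.1).trans (cj_eq_of_mem_normalizer hk).le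
  have hn : cj k T ≤ Subgroup.normalizer (T : Set G) := fun x hx =>
    Subgroup.centralizer_le_normalizer (T : Set G) (Subgroup.mem_centralizer_iff.mpr fun y hy =>
      mul_comm_of_mem hU (hT.1 hy) (hle hx))
  have h := hT.2.2 _ (sup_le hle hT.1) ((hT.2.1.map _).to_sup_of_normal_right' hT.2.1 hn) le_sup_right
  exact Subgroup.eq_of_le_of_card_ge (le_sup_left.trans h.le) (by rw [card_cj])

/-- `κ` is invariant under conjugation. -/
theorem kappa_cj_subset (g : G) (M : Subgroup G) : Cfsg.kappa (cj g M) ⊆ Cfsg.kappa M := by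
  intro p hp
  refine ⟨hp.1, card_cj g M ▸ hp.2.1, fun h => hp.2.2.1 (by rw [sigma_cj]; exact h), fun P => ?_⟩
  obtain ⟨T, hT⟩ := (sylowOf_cj (sylowOf_map P) g).toSylow
  obtain ⟨hcyc, x, hxT, hx1, y, hy, hy1, hxy⟩ := hp.2.2.2 T
  refine ⟨?_, ?_⟩
  · refine isCyclic_of_surjective (?_ : (T : Subgroup (cj g M)) ≃* (P : Subgroup M)).toMonoidHom
      (MulEquiv.surjective _)
    refine (((T : Subgroup (cj g M)).equivMapOfInjective _ (cj g M).subtype_injective).trans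
      (MulEquiv.subgroupCongr hT)).trans ?_
    exact (cjEquiv g _).symm.trans
      ((P : Subgroup M).equivMapOfInjective M.subtype M.subtype_injective).symm
  · have h1 : (x : G) ∈ cj g ((P : Subgroup M).map M.subtype) := hT ▸ ⟨x, hxT, rfl⟩
    obtain ⟨_, ⟨x₀, hx₀, rfl⟩, he⟩ := h1
    rw [sigmaCore_cj] at hy
    obtain ⟨y₀, hy₀, rfl⟩ := hy
    refine ⟨x₀, hx₀, fun h => hx1 (Subtype.ext ?_), y₀, hy₀, fun h => hy1 ?_, ?_⟩
    · rw [← he, h]
      simp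
    · rw [h, map_one]
    · rw [← he, ← map_mul, ← map_mul] at hxy
      exact (MulAut.conj g).injective hxy

end CfsgLib.OddOrder38
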