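import Mathlib
import Cfsg.Agent.Lib.OddOrder.FittingOf

/-!
# Semiregular operators on a cyclic group of prime order and on a nonabelian group of order `p³`
-/

set_option autoImplicit false

namespace CfsgLib.OddOrder38

open Subgroup
open scoped commutatorElement

universe u

/-- A semiregular operator on a subgroup of prime order `q` has order dividing `q - 1`. -/
theorem orderOf_dvd_pred {G : Type u} [Group G] [Finite G] {q : ℕ} (hq : q.Prime) {w v : G}
    (hw : orderOf w = q) (hn : v ∈ Subgroup.normalizer ((Subgroup.zpowers w : Subgroup G) : Set G))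
    (hfree : ∀ n : ℕ, v ^ n * w = w * v ^ n → v ^ n = 1) : orderOf v ∣ q - 1 := by
  set W := Subgroup.zpowers w with hW
  set f := W.normalizerMonoidHom ⟨v, hn⟩ with hf
  have hcard : Nat.card (MulAut W) = q - 1 := by
    rw [IsCyclic.card_mulAut, hW, Nat.card_zpowers, hw, Nat.totient_prime hq]
  refine orderOf_dvd_of_pow_eq_one (hfree _ ?_)
  have h : (⟨v, hn⟩ : Subgroup.normalizer (W : Set G)) ^ (q - 1) ∈ (W.normalizerMonoidHom).ker := by
    rw [MonoidHom.mem_ker, map_pow, ← hcard, pow_card_eq_one']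
  rw [Subgroup.normalizerMonoidHom_ker, Subgroup.mem_subgroupOf] at h
  exact (Subgroup.mem_centralizer_iff.mp h w (Subgroup.mem_zpowers w)).symm

/-- In a ring where `p = 0`: a trace-`t` unit `a` with inverse `b` has `(a ^ p - a) * (1 - b ^ (p + 1)) = 0`. -/
theorem ring_frobenius {R : Type u} [Ring R] {p : ℕ} [hp : Fact p.Prime] (h0 : (p : R) = 0) {a b : R}
    (hab : a * b = 1) (hba : b * a = 1) {t : ℕ} (ht : a + b = (t : R)) :
    (a ^ p - a) * (1 - b ^ (p + 1)) = 0 := by
  have hc : Commute a b := hab.trans hba.symm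
  obtain ⟨r, hr⟩ := hc.exists_add_pow_prime_eq hp.out
  rw [h0, zero_mul, zero_mul, zero_mul, add_zero] at hr
  have hmod : ((t ^ p : ℕ) : R) = (t : R) := by
    have h1 : t ^ p ≡ t [MOD p] := by
      rw [← ZMod.natCast_eq_natCast_iff]
      push_cast
      exact ZMod.pow_card _
    have h2 : ∀ n : ℕ, (n : R) = ((n % p : ℕ) : R) := fun n => by
      conv_lhs => rw [← Nat.mod_add_div n p]
      push_cast
      rw [h0, zero_mul, add_zero]
    rw [h2 (t ^ p), h2 t, h1]
  have hsum : a ^ p + b ^ p = a + b := by rw [← hr, ht, ← Nat.cast_pow, hmod]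
  have e1 : a ^ p * b ^ (p + 1) = b := by
    rw [pow_succ, ← mul_assoc, ← hc.mul_pow, hab, one_pow, one_mul]
  have e2 : a * b ^ (p + 1) = b ^ p := by
    rw [pow_succ', ← mul_assoc, hab, one_mul]
  calc (a ^ p - a) * (1 - b ^ (p + 1))
      = a ^ p - a - (a ^ p * b ^ (p + 1) - a * b ^ (p + 1)) := by noncomm_ring
    _ = (a ^ p + b ^ p) - (a + b) := by rw [e1, e2]; abel
    _ = 0 := by rw [hsum, sub_self]

/-- The action on an abelian group of exponent `p` with a cyclic vector and trace `t`. -/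
theorem iterate_succ_eq {V : Type u} [CommGroup V] {p : ℕ} [hp : Fact p.Prime]
    (hexp : ∀ x : V, x ^ p = 1) (ψ : MulAut V) {t : ℕ} (htr : ∀ x : V, ψ x * ψ.symm x = x ^ t)
    (hfix : ∀ x : V, (ψ ^ (p - 1)) x = x → x = 1) (x : V) : (ψ ^ (p + 1)) x = x := by
  let R := AddMonoid.End (Additive V)
  let a : R := MonoidHom.toAdditive ψ.toMonoidHom
  let b : R := MonoidHom.toAdditive ψ.symm.toMonoidHom
  have hapow : ∀ (n : ℕ) (y : Additive V),
      (a ^ n) y = Additive.ofMul ((ψ ^ n) (Additive.toMul y)) := by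
    intro n
    induction n with
    | zero => intro y; simp only [pow_zero]; rfl
    | succ n ih =>
      intro y
      rw [pow_succ', pow_succ', AddMonoid.End.coe_mul, Function.comp_apply, ih]
      rfl
  have hbpow : ∀ (n : ℕ) (y : Additive V),
      (b ^ n) y = Additive.ofMul ((ψ⁻¹ ^ n) (Additive.toMul y)) := by
    intro n
    induction n with
    | zero => intro y; simp only [pow_zero]; rfl
    | succ n ih =>
      intro y
      rw [pow_succ', pow_succ', AddMonoid.End.coe_mul, Function.comp_apply, ih]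
      rfl
  have h0 : (p : R) = 0 := by
    ext y
    rw [AddMonoid.End.natCast_apply]
    exact congrArg Additive.ofMul (hexp (Additive.toMul y))
  have hab : a * b = 1 := by
    ext y; exact congrArg Additive.ofMul (ψ.apply_symm_apply (Additive.toMul y))
  have hba : b * a = 1 := by
    ext y; exact congrArg Additive.ofMul (ψ.symm_apply_apply (Additive.toMul y))
  have ht : a + b = (t : R) := by
    ext y
    rw [AddMonoid.End.natCast_apply]
    exact congrArg Additive.ofMul (htr (Additive.toMul y))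
  have h := congrArg (fun f : R => f (Additive.ofMul x)) (ring_frobenius h0 hab hba ht)
  set y := (1 - b ^ (p + 1)) (Additive.ofMul x) with hy
  have h1 : (a ^ p - a) y = 0 := h
  have h2 : (a ^ p) y = a y := sub_eq_zero.mp h1
  rw [show p = p - 1 + 1 from (Nat.sub_add_cancel hp.out.one_le).symm, pow_succ',
    AddMonoid.End.coe_mul, Function.comp_apply, hapow] at h2
  have h3 : Additive.toMul y = 1 := hfix _ (ψ.injective h2)
  have h4 : Additive.ofMul x = (b ^ (p + 1)) (Additive.ofMul x) := sub_eq_zero.mp h3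
  rw [hbpow] at h4
  have h5 : x = (ψ⁻¹ ^ (p + 1)) x := Additive.ofMul.injective h4
  conv_lhs => rw [h5]
  rw [inv_pow, MulAut.apply_inv_self]

/-- A coprime operator fixing the centre of a nonabelian group of order `p³`, semiregular modulo the centre. -/
theorem mulAut_card_cube {T : Type u} [Group T] [Finite T] {p : ℕ} [hp : Fact p.Prime]
    (hT : Nat.card T = p ^ 3) (hna : ¬ IsMulCommutative T) (φ : MulAut T)
    (hφ : (orderOf φ).Coprime p) (hz : ∀ z ∈ Subgroup.center T, φ z = z)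
    (hfree : ∀ n : ℕ, ∀ x : T, (φ ^ n) x = x → x ∈ Subgroup.center T ∨ φ ^ n = 1) :
    orderOf φ ∣ p - 1 ∨ orderOf φ ∣ p + 1 := by
  have hTp : IsPGroup p T := IsPGroup.of_card hT
  set Z := Subgroup.center T with hZ
  -- the centre and its quotient
  obtain ⟨c, hc⟩ := (hTp.to_subgroup Z).exists_card_eq
  have hmul : Nat.card (T ⧸ Z) * Nat.card Z = p ^ 3 := by rw [← Subgroup.card_eq_card_quotient_mul_card_subgroup, hT]
  have hncyc : ¬ IsCyclic (T ⧸ Z) := fun h => hna
    ⟨⟨commutative_of_cyclic_center_quotient (QuotientGroup.mk' Z) (by rw [QuotientGroup.ker_mk'])⟩⟩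
  obtain ⟨d, hd⟩ := (hTp.to_quotient Z).exists_card_eq
  have hTnt : Nontrivial T := Finite.one_lt_card_iff_nontrivial.mp (hT ▸ Nat.one_lt_pow (by norm_num) hp.out.one_lt)
  have hc1 : 1 ≤ c := by
    have : Nontrivial Z := hTp.center_nontrivial
    have h1 : 1 < Nat.card Z := Finite.one_lt_card
    by_contra h
    rw [hc, show c = 0 by omega, pow_zero] at h1
    exact absurd h1 (lt_irrefl 1)
  have hd2 : 2 ≤ d := by
    by_contra h
    rcases (show d = 0 ∨ d = 1 by omega) with h0 | h0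
    · rw [h0, pow_zero] at hd
      have := (Nat.card_eq_one_iff_unique.mp hd).1
      exact hncyc inferInstance
    · rw [h0, pow_one] at hd
      exact hncyc (isCyclic_of_prime_card hd)
  have hcd : d + c = 3 := by
    rw [hd, hc, ← pow_add] at hmul
    exact Nat.pow_right_injective hp.out.two_le hmul
  have hVc : Nat.card (T ⧸ Z) = p ^ 2 := by rw [hd, show d = 2 by omega]
  have hZc : Nat.card Z = p := by rw [hc, show c = 1 by omega, pow_one]
  let : CommGroup (T ⧸ Z) := IsPGroup.commGroupOfCardEqPrimeSq hVc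
  have hexp : ∀ x : T ⧸ Z, x ^ p = 1 := by
    intro x
    have h1 : orderOf x ∣ p ^ 2 := hVc ▸ orderOf_dvd_natCard x
    obtain ⟨i, hi, hi'⟩ := (Nat.dvd_prime_pow hp.out).mp h1
    have hi2 : i ≤ 1 := by
      by_contra h
      exact hncyc (isCyclic_of_orderOf_eq_card x (by rw [hi', hVc, show i = 2 by omega]))
    exact orderOf_dvd_iff_pow_eq_one.mp (hi' ▸ (pow_dvd_pow p hi2).trans (pow_one p).dvd)
  have hcomm : ∀ x y : T, ⁅x, y⁆ ∈ Z := fun x y => by
    rw [← QuotientGroup.eq_one_iff, ← QuotientGroup.mk'_apply, map_commutatorElement,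
      commutatorElement_eq_one_iff_mul_comm, mul_comm]
  -- the operator modulo the centre
  have hφZ : Z.map φ.toMonoidHom = Z := by
    ext x
    constructor
    · rintro ⟨y, hy, rfl⟩
      show φ y ∈ Z
      rw [hz y hy]; exact hy
    · exact fun hx => ⟨x, hx, hz x hx⟩
  set ψ : MulAut (T ⧸ Z) := QuotientGroup.congr Z Z φ hφZ with hψ
  have hψmk : ∀ x : T, ψ (x : T ⧸ Z) = ((φ x : T) : T ⧸ Z) := fun x => rfl
  have hψsymm : ∀ x : T, ψ.symm (x : T ⧸ Z) = ((φ.symm x : T) : T ⧸ Z) := fun x => by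
    rw [MulEquiv.symm_apply_eq, hψmk, MulEquiv.apply_symm_apply]
  have hψpow : ∀ (n : ℕ) (x : T), (ψ ^ n) (x : T ⧸ Z) = (((φ ^ n) x : T) : T ⧸ Z) := by
    intro n
    induction n with
    | zero => intro x; rfl
    | succ n ih => intro x; rw [pow_succ', pow_succ', MulAut.mul_apply, ih, hψmk, MulAut.mul_apply]
  have hpowfix : ∀ (n : ℕ), ∀ z ∈ Z, (φ ^ n) z = z := by
    intro n
    induction n with
    | zero => intro z _; rfl
    | succ n ih => intro z hzZ; rw [pow_succ', MulAut.mul_apply, ih z hzZ, hz z hzZ]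
  -- fixed points lift
  have hlift : ∀ (n : ℕ) (x : T ⧸ Z), (ψ ^ n) x = x → x = 1 ∨ φ ^ n = 1 := by
    intro n x hx
    obtain ⟨v, rfl⟩ := QuotientGroup.mk_surjective x
    rw [hψpow] at hx
    set z := v⁻¹ * (φ ^ n) v with hzdef
    have hzZ : z ∈ Z := QuotientGroup.eq.mp hx.symm
    have hv : (φ ^ n) v = v * z := by rw [hzdef]; group
    clear_value z
    clear hzdef
    have hzn : ∀ m : ℕ, ((φ ^ n) ^ m) v = v * z ^ m := by
      intro m
      induction m with
      | zero => simp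
      | succ m ih =>
        have hzfix : (φ ^ n) z = z := hpowfix n z hzZ
        rw [pow_succ' (φ ^ n), MulAut.mul_apply, ih, map_mul, map_pow, hzfix, hv, pow_succ', ← mul_assoc]
    have h1 : z ^ orderOf φ = 1 := by
      have h := hzn (orderOf φ)
      rw [← pow_mul, mul_comm n, pow_mul, pow_orderOf_eq_one, one_pow, MulAut.one_apply,
        left_eq_mul] at h
      exact h
    have h2 : z ^ p = 1 := by
      have h := pow_card_eq_one' (x := (⟨z, hzZ⟩ : Z))
      rw [hZc] at h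
      exact congrArg Subtype.val h
    have h3 : z = 1 := orderOf_eq_one_iff.mp
      (Nat.eq_one_of_dvd_coprimes hφ (orderOf_dvd_of_pow_eq_one h1) (orderOf_dvd_of_pow_eq_one h2))
    rw [h3, mul_one] at hv
    exact (hfree n v hv).imp (fun h => (QuotientGroup.eq_one_iff v).mpr h) id
  by_cases hu : φ ^ (p - 1) = 1
  · exact Or.inl (orderOf_dvd_of_pow_eq_one hu)
  have hfix : ∀ x : T ⧸ Z, (ψ ^ (p - 1)) x = x → x = 1 := fun x hx => (hlift _ x hx).resolve_right hu
  -- no invariant line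
  have hline : ∀ x : T ⧸ Z, x ≠ 1 → ψ x ∉ Subgroup.zpowers x := by
    intro x hx1 hmem
    set W := Subgroup.zpowers x with hW
    have hWc : Nat.card W = p := by
      rw [hW, Nat.card_zpowers]
      exact orderOf_eq_prime (hexp x) hx1
    have hmap : W.map ψ.toMonoidHom = W := by
      refine Subgroup.eq_of_le_of_card_ge ?_ ((Subgroup.card_map_of_injective (f := ψ.toMonoidHom) ψ.injective).ge)
      rw [hW, MonoidHom.map_zpowers]
      exact Subgroup.zpowers_le.mpr hmem
    have : IsCyclic W := isCyclic_of_prime_card hWc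
    let χ : MulAut W := (ψ.subgroupMap W).trans (MulEquiv.subgroupCongr hmap)
    have hχ : ∀ (n : ℕ) (y : W), (((χ ^ n) y : W) : T ⧸ Z) = (ψ ^ n) (y : T ⧸ Z) := by
      intro n
      induction n with
      | zero => intro y; rfl
      | succ n ih =>
        intro y
        rw [pow_succ', pow_succ', MulAut.mul_apply, MulAut.mul_apply, ← ih]
        rfl
    have hcardA : Nat.card (MulAut W) = p - 1 := by
      rw [IsCyclic.card_mulAut, hWc, Nat.totient_prime hp.out]
    have h := hχ (p - 1) ⟨x, Subgroup.mem_zpowers x⟩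
    rw [← hcardA, pow_card_eq_one', MulAut.one_apply, hcardA] at h
    exact hx1 (hfix x h.symm)
  -- a cyclic vector
  obtain ⟨v, hv⟩ : ∃ v : T, (v : T ⧸ Z) ≠ 1 := by
    have : Nontrivial (T ⧸ Z) := Finite.one_lt_card_iff_nontrivial.mp (hVc ▸ Nat.one_lt_pow two_ne_zero hp.out.one_lt)
    obtain ⟨x, hx⟩ := exists_ne (1 : T ⧸ Z)
    obtain ⟨v, rfl⟩ := QuotientGroup.mk_surjective x
    exact ⟨v, hx⟩
  have hspan : Subgroup.zpowers (v : T ⧸ Z) ⊔ Subgroup.zpowers (ψ (v : T ⧸ Z)) = ⊤ := by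
    refine Subgroup.eq_top_of_card_eq _ ?_
    obtain ⟨i, hi, hi'⟩ := (Nat.dvd_prime_pow hp.out).mp (hVc ▸ Subgroup.card_subgroup_dvd_card
      (Subgroup.zpowers (v : T ⧸ Z) ⊔ Subgroup.zpowers (ψ (v : T ⧸ Z))))
    rw [hi', hVc]
    by_contra hne
    have hi1 : i ≤ 1 := by
      by_contra h
      exact hne (by rw [show i = 2 by omega])
    refine hline _ hv ((Subgroup.eq_of_le_of_card_ge le_sup_left ?_).ge
      ((le_sup_right : Subgroup.zpowers (ψ (v : T ⧸ Z)) ≤ _) (Subgroup.mem_zpowers _)))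
    rw [hi', Nat.card_zpowers, orderOf_eq_prime (hexp _) hv]
    exact (Nat.pow_le_pow_right hp.out.pos hi1).trans (pow_one p).le
  -- the trace
  have hfixc : ∀ x y : T, φ ⁅x, y⁆ = ⁅x, y⁆ := fun x y => hz _ (hcomm x y)
  set w := φ (φ v) * v with hw
  have hwc : Commute (φ v) w := by
    rw [← commutatorElement_eq_one_iff_commute]
    have h1 : ⁅φ v, φ (φ v)⁆ = ⁅v, φ v⁆ := by rw [← map_commutatorElement, hfixc]
    calc ⁅φ v, φ (φ v) * v⁆ = ⁅φ v, φ (φ v)⁆ * (φ (φ v) * ⁅φ v, v⁆ * (φ (φ v))⁻¹) := by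
          simp only [commutatorElement_def]; group
      _ = ⁅φ v, φ (φ v)⁆ * ⁅φ v, v⁆ := by
          rw [Subgroup.mem_center_iff.mp (hcomm (φ v) v) (φ (φ v)), mul_inv_cancel_right]
      _ = 1 := by rw [h1, ← commutatorElement_inv, inv_mul_cancel]
  have hwmem : (w : T ⧸ Z) ∈ Subgroup.zpowers (ψ (v : T ⧸ Z)) := by
    set C := Subgroup.centralizer ({φ v} : Set T) with hC
    have hne : (ψ (v : T ⧸ Z)) ≠ 1 := fun h => hv (ψ.injective (by rw [h, map_one]))
    set D := C.map (QuotientGroup.mk' Z) with hD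
    have hmemD : ψ (v : T ⧸ Z) ∈ D :=
      ⟨φ v, Subgroup.mem_centralizer_singleton_iff.mpr rfl, rfl⟩
    have hDne : D ≠ ⊤ := fun h => by
      refine hne ((QuotientGroup.eq_one_iff (φ v)).mpr (Subgroup.mem_center_iff.mpr fun g => ?_))
      obtain ⟨g', hg', he⟩ := (h ▸ Subgroup.mem_top (g : T ⧸ Z) : (g : T ⧸ Z) ∈ D)
      have hz' : g'⁻¹ * g ∈ Z := QuotientGroup.eq.mp he
      have h2 := Subgroup.mem_centralizer_singleton_iff.mp hg'
      have h3 := Subgroup.mem_center_iff.mp hz' (φ v)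
      calc g * φ v = g' * (g'⁻¹ * g * φ v) := by group
        _ = g' * (φ v * (g'⁻¹ * g)) := by rw [h3]
        _ = φ v * g := by rw [← mul_assoc, h2]; group
    have hle : Subgroup.zpowers (ψ (v : T ⧸ Z)) ≤ D := Subgroup.zpowers_le.mpr hmemD
    obtain ⟨i, hi, hi'⟩ := (Nat.dvd_prime_pow hp.out).mp (hVc ▸ Subgroup.card_subgroup_dvd_card D)
    have hi1 : i ≤ 1 := by
      by_contra h
      exact hDne (Subgroup.eq_top_of_card_eq _ (by rw [hi', hVc, show i = 2 by omega]))
    rw [Subgroup.eq_of_le_of_card_ge hle (by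
      rw [hi', Nat.card_zpowers, orderOf_eq_prime (hexp _) hne]
      exact (Nat.pow_le_pow_right hp.out.pos hi1).trans (pow_one p).le)]
    exact ⟨w, Subgroup.mem_centralizer_singleton_iff.mpr hwc.eq.symm, rfl⟩
  obtain ⟨t, ht⟩ : ∃ t : ℕ, (ψ (v : T ⧸ Z)) ^ t = (w : T ⧸ Z) :=
    (mem_powers_iff_mem_zpowers.mpr hwmem)
  have hw' : (w : T ⧸ Z) = ψ (ψ (v : T ⧸ Z)) * (v : T ⧸ Z) := rfl
  let f : (T ⧸ Z) →* (T ⧸ Z) := ψ.toMonoidHom * ψ.symm.toMonoidHom
  have key1 : f (ψ (v : T ⧸ Z)) = powMonoidHom t (ψ (v : T ⧸ Z)) := by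
    rw [powMonoidHom_apply, ht, hw']
    show ψ (ψ (v : T ⧸ Z)) * ψ.symm (ψ (v : T ⧸ Z)) = _
    rw [MulEquiv.symm_apply_apply]
  have key2 : f (v : T ⧸ Z) = powMonoidHom t (v : T ⧸ Z) := by
    refine ψ.injective ?_
    show ψ (ψ (v : T ⧸ Z) * ψ.symm (v : T ⧸ Z)) = ψ ((v : T ⧸ Z) ^ t)
    rw [map_mul, MulEquiv.apply_symm_apply, map_pow, ht, hw']
  have htr : ∀ x : T ⧸ Z, ψ x * ψ.symm x = x ^ t := fun x => by
    have hle : Subgroup.zpowers (v : T ⧸ Z) ⊔ Subgroup.zpowers (ψ (v : T ⧸ Z)) ≤ f.eqLocus (powMonoidHom t) :=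
      sup_le (Subgroup.zpowers_le.mpr key2) (Subgroup.zpowers_le.mpr key1)
    exact hle (hspan.ge (Subgroup.mem_top x))
  right
  exact orderOf_dvd_of_pow_eq_one
    ((hlift (p + 1) (v : T ⧸ Z) (iterate_succ_eq hexp ψ htr hfix _)).resolve_left hv)

end CfsgLib.OddOrder38
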