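import Mathlib
import Cfsg.Agent.Lib.OddOrder38.Aux1435
import Cfsg.Agent.Lib.OddOrder41.Sigma13Line

/-!
# BG 14.8: the maximal subgroups over `N_G(R)`, `R` a Sylow subgroup of `U`
-/

set_option autoImplicit false

namespace CfsgLib.OddOrder38

open Subgroup CfsgLib.OddOrder CfsgLib.OddOrder.Transitivity CfsgLib.OddOrder41
open scoped commutatorElement

universe u

variable {G : Type u} [Group G]

/-- A maximal subgroup of type `P₂` with its partner; `K = ⟨a⟩` has prime order `q`. -/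
structure Conf (M K U Mstar : Subgroup G) (a : G) (q : ℕ) : Prop where
  coatom : IsCoatom M
  coatomStar : IsCoatom Mstar
  hallK : Cfsg.IsPiHallOf (Cfsg.kappa M) K M
  hallStar : Cfsg.IsPiHallOf (Cfsg.kappa Mstar)
    (Cfsg.sigmaCore M ⊓ Subgroup.centralizer (K : Set G)) Mstar
  star : K = Cfsg.sigmaCore Mstar ⊓ Subgroup.centralizer
    ((Cfsg.sigmaCore M ⊓ Subgroup.centralizer (K : Set G) : Subgroup G) : Set G)
  hallU : Cfsg.IsPiHallOf {r | r.Prime ∧ r ∉ Cfsg.kappa M ∧ r ∉ Cfsg.sigma M} U M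
  commU : IsMulCommutative U
  normU : K ≤ Subgroup.normalizer (U : Set G)
  fpf : ∀ u ∈ U, a * u = u * a → u = 1
  prime : q.Prime
  order : orderOf a = q
  gen : K = Subgroup.zpowers a
  typeTwo : ∃ p, p.Prime ∧ p ∣ Nat.card M ∧ p ∉ Cfsg.sigma M ∧ p ∉ Cfsg.kappa M

/-- A maximal subgroup `H ⊇ N_G(T)`, `T` a Sylow `t`-subgroup of `U`. -/
structure Over (U T H : Subgroup G) (t : ℕ) : Prop where
  sylow : SylowOf t T U
  dvd : t ∣ Nat.card U
  coatom : IsCoatom H
  le : Subgroup.normalizer (T : Set G) ≤ H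

variable [Finite G] (hG : Cfsg.IsMinSimpleOddOrder G) (hI : Inputs G)
  {M K U Mstar T H : Subgroup G} {a : G} {q t : ℕ} [ht : Fact t.Prime]
  (h : Conf M K U Mstar a q) (o : Over U T H t)

omit [Finite G] ht in
include h in
theorem Conf.mem_K : a ∈ K := h.gen.symm ▸ Subgroup.mem_zpowers a

omit [Finite G] ht in
include h in
theorem Conf.mem_M : a ∈ M := h.hallK.1 h.mem_K

omit [Finite G] ht in
include h in
theorem Conf.ne_one : a ≠ 1 := fun h1 => h.prime.ne_one (by rw [← h.order, h1, orderOf_one])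

omit [Finite G] ht in
include h in
theorem Conf.K_ne_bot : K ≠ ⊥ := fun h1 => h.ne_one (Subgroup.mem_bot.mp (h1 ▸ h.mem_K))

omit [Finite G] ht in
include h in
theorem Conf.card_K : Nat.card K = q := by rw [h.gen, Nat.card_zpowers, h.order]

omit ht in
include h in
theorem Conf.q_mem_kappa : q ∈ Cfsg.kappa M :=
  h.hallK.2.1 q h.prime (h.card_K ▸ dvd_rfl)

omit [Finite G] ht in
include h in
theorem Conf.mem_star : a ∈ Cfsg.sigmaCore Mstar ⊓ Subgroup.centralizer
    ((Cfsg.sigmaCore M ⊓ Subgroup.centralizer (K : Set G) : Subgroup G) : Set G) := h.star.le h.mem_K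

omit ht in
include h in
theorem Conf.q_mem_sigma : q ∈ Cfsg.sigma Mstar :=
  mem_sigma_of_mem_sigmaCore (Subgroup.mem_inf.mp h.mem_star).1 h.prime (h.order ▸ dvd_rfl)

omit ht in
include hI h in
theorem Conf.kstar_ne : Cfsg.sigmaCore M ⊓ Subgroup.centralizer (K : Set G) ≠ ⊥ :=
  kstar_ne_bot hI h.coatom h.hallK h.K_ne_bot

omit ht in
include hG hI h in
theorem Conf.centralizer_le : Subgroup.centralizer ({a} : Set G) ≤ Mstar :=
  centralizer_kstar_le hG hI h.coatomStar h.hallStar (h.kstar_ne hI) h.mem_star h.ne_one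

omit ht in
include h in
theorem Conf.kappa_star_subset {p : ℕ} (hp : p ∈ Cfsg.kappa Mstar) : p ∈ Cfsg.sigma M := by
  have hd : p ∣ Nat.card ↥(Cfsg.sigmaCore M ⊓ Subgroup.centralizer (K : Set G)) := by
    have h1 := hp.2.1
    rw [← card_mul_relIndex_of_le h.hallStar.1] at h1
    exact (hp.1.dvd_mul.mp h1).resolve_right (h.hallStar.2.2 p hp.1 hp)
  exact piNat_card_piCoreOf (Cfsg.sigma M) M p hp.1 (hd.trans (Subgroup.card_dvd_of_le inf_le_left))

omit ht in
include h in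
theorem Conf.kappa_eq {p : ℕ} (hp : p ∈ Cfsg.kappa M) : p = q := by
  have h1 := hp.2.1
  rw [← card_mul_relIndex_of_le h.hallK.1] at h1
  have h2 := (hp.1.dvd_mul.mp h1).resolve_right (h.hallK.2.2 p hp.1 hp)
  rw [h.card_K] at h2
  exact (Nat.prime_dvd_prime_iff_eq hp.1 h.prime).mp h2

omit ht in
include hI h in
theorem Conf.disjoint_star {p : ℕ} (hp : p ∈ Cfsg.sigma M) : p ∉ Cfsg.sigma Mstar :=
  sigma_partner_disjoint hI h.coatom h.hallK h.K_ne_bot h.coatomStar (h.star.le.trans inf_le_left) hp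

omit ht in
include hG hI h in
theorem Conf.no_plane {p : ℕ} (hp : p ∈ Cfsg.sigma M) (hB : HasMaxPlane G p) : False := by
  obtain ⟨r, hr, hrM, hrσ, hrκ⟩ := h.typeTwo
  exact no_plane_of_type_two hG hI h.coatom hr hrM hrσ hrκ ⟨q, h.q_mem_kappa⟩ hp hB

omit [Finite G] ht in
include o in
theorem Over.T_le : T ≤ H := Subgroup.le_normalizer.trans o.le

include o in
theorem Over.T_ne : T ≠ ⊥ := by
  intro h1
  obtain ⟨S, hS⟩ := o.sylow.toSylow
  rw [h1] at hS
  exact S.ne_bot_of_dvd_card o.dvd ((Subgroup.map_eq_bot_iff_of_injective _ U.subtype_injective).mp hS)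

include h o in
theorem Over.a_mem_normalizer : a ∈ Subgroup.normalizer (T : Set G) :=
  mem_normalizer_sylow_of_comm o.sylow h.commU (h.normU h.mem_K)

include h o in
theorem Over.a_mem : a ∈ H := o.le (o.a_mem_normalizer h)

include h o in
omit [Finite G] ht in
theorem Over.U_le : U ≤ H := fun u hu => o.le (Subgroup.centralizer_le_normalizer _
  (Subgroup.mem_centralizer_iff.mpr fun x hx => mul_comm_of_mem h.commU (o.sylow.1 hx) hu))

include h o in
omit [Finite G] in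
theorem Over.t_spec : t ∉ Cfsg.kappa M ∧ t ∉ Cfsg.sigma M := by
  have h1 := h.hallU.2.1 t ht.out o.dvd
  exact ⟨h1.2.1, h1.2.2⟩

include h o in
omit [Finite G] in
theorem Over.t_ne_q : t ≠ q := fun e => (o.t_spec h).1 (e ▸ h.hallK.2.1 q h.prime (h.card_K ▸ dvd_rfl))

include hG h o in
theorem Over.sylowM : SylowOf t T M := by
  refine ⟨o.sylow.1.trans h.hallU.1, o.sylow.2.1, fun Q hQ hQp hle => ?_⟩
  have := minSimple_solvable hG h.coatom.1
  obtain ⟨g, -, hgU⟩ := OddOrder41.exists_conj_into (π := {t}) h.hallU.1 (fun r hr hrt hd => by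
    rw [Set.mem_singleton_iff] at hrt
    subst hrt
    exact h.hallU.2.2 r hr ⟨hr, (o.t_spec h).1, (o.t_spec h).2⟩ hd) hQ (fun r hr hd => by
    obtain ⟨n, hn⟩ := hQp.exists_card_eq
    exact (Nat.prime_dvd_prime_iff_eq hr ht.out).mp (hr.dvd_of_dvd_pow (hn ▸ hd)))
  have h1 := o.sylow.card_dvd hgU (hQp.map _)
  rw [card_cj] at h1
  exact (Subgroup.eq_of_le_of_card_ge hle (Nat.le_of_dvd Nat.card_pos h1)).symm

include hG hI h o in
/-- `t ∉ σ(M*)`. -/
theorem Over.not_sigma_star : t ∉ Cfsg.sigma Mstar := by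
  set C := Cfsg.sigmaCore M ⊓ Subgroup.centralizer (K : Set G) with hC
  have hcopT : ∀ {p : ℕ}, p.Prime → p ∣ Nat.card T → p = t := fun hp hd => by
    obtain ⟨n, hn⟩ := o.sylow.2.1.exists_card_eq
    exact (Nat.prime_dvd_prime_iff_eq hp ht.out).mp (hp.dvd_of_dvd_pow (hn ▸ hd))
  intro htσ
  have hKN : K ≤ Subgroup.normalizer (T : Set G) := by
    rw [h.gen]
    exact Subgroup.zpowers_le.mpr (o.a_mem_normalizer h)
  have hY : ∀ p : ℕ, p.Prime → p ∣ Nat.card ↥(K ⊔ T) → p ∈ Cfsg.sigma Mstar := fun p hp hd => by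
    rcases hp.dvd_mul.mp (hd.trans (card_sup_dvd_mul hKN)) with h1 | h1
    · rw [h.card_K] at h1
      rw [(Nat.prime_dvd_prime_iff_eq hp h.prime).mp h1]
      exact h.q_mem_sigma
    · rw [hcopT hp h1]
      exact htσ
  have hne : (K ⊔ T) ⊓ (Cfsg.sigmaCore Mstar ⊓ Subgroup.centralizer (C : Set G)) ≠ ⊥ := fun h1 =>
    h.ne_one (Subgroup.mem_bot.mp (h1 ▸ (⟨Subgroup.mem_sup_left h.mem_K, h.mem_star⟩ :
      a ∈ (K ⊔ T) ⊓ (Cfsg.sigmaCore Mstar ⊓ Subgroup.centralizer (C : Set G)))))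
  have hTS : T ≤ Cfsg.sigmaCore Mstar := le_sup_right.trans
    (le_sigmaCore_of_meets_kstar hG hI h.coatomStar h.hallStar (h.kstar_ne hI) hY hne)
  obtain ⟨x, hx, hx1⟩ := (Subgroup.bot_or_exists_ne_one T).resolve_left o.T_ne
  have hxK : x ∈ K := by
    rw [h.star]
    refine ⟨hTS hx, Subgroup.mem_centralizer_iff.mpr fun c hc => ?_⟩
    have hc' := Subgroup.mem_inf.mp hc
    have h1 : ⁅x, c⁆ ∈ Cfsg.sigmaCore M := by
      rw [commutatorElement_def]
      exact mul_mem ((Subgroup.mem_normalizer_iff.mp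
        (piCoreOf_normal (Cfsg.sigma M) M (h.hallU.1 (o.sylow.1 hx))) c).mp hc'.1) (inv_mem hc'.1)
    have h2 : ⁅x, c⁆ ∈ Cfsg.sigmaCore Mstar := by
      rw [commutatorElement_def, show x * c * x⁻¹ * c⁻¹ = x * (c * x⁻¹ * c⁻¹) by group]
      exact mul_mem (hTS hx) ((Subgroup.mem_normalizer_iff.mp
        (piCoreOf_normal (Cfsg.sigma Mstar) Mstar (h.hallStar.1 hc)) x⁻¹).mp (inv_mem (hTS hx)))
    have h3 : ⁅x, c⁆ = 1 := by
      by_contra h3
      obtain ⟨p, hp, hd⟩ := Nat.exists_prime_and_dvd (n := orderOf ⁅x, c⁆)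
        fun e => h3 (orderOf_eq_one_iff.mp e)
      exact h.disjoint_star hI (mem_sigma_of_mem_sigmaCore h1 hp hd)
        (mem_sigma_of_mem_sigmaCore h2 hp hd)
    exact (commutatorElement_eq_one_iff_mul_comm.mp h3).symm
  obtain ⟨p, hp, hd⟩ := Nat.exists_prime_and_dvd (n := orderOf x)
    fun e => hx1 (orderOf_eq_one_iff.mp e)
  have h1 := hd.trans (Subgroup.orderOf_dvd_natCard _ hxK)
  rw [h.card_K, hcopT hp (hd.trans (Subgroup.orderOf_dvd_natCard _ hx)),
    Nat.prime_dvd_prime_iff_eq ht.out h.prime] at h1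
  exact o.t_ne_q h h1

include hG hI h o in
/-- `T ∩ M* = 1`. -/
theorem Over.inf_star : T ⊓ Mstar = ⊥ := by
  set C := Cfsg.sigmaCore M ⊓ Subgroup.centralizer (K : Set G) with hC
  have hcopT : ∀ {p : ℕ}, p.Prime → p ∣ Nat.card T → p = t := fun hp hd => by
    obtain ⟨n, hn⟩ := o.sylow.2.1.exists_card_eq
    exact (Nat.prime_dvd_prime_iff_eq hp ht.out).mp (hp.dvd_of_dvd_pow (hn ▸ hd))
  have htσ := o.not_sigma_star hG hI h
  refine (Subgroup.eq_bot_iff_forall _).mpr fun x hx => h.fpf x (o.sylow.1 hx.1) ?_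
  have h1 : ⁅a, x⁆ ∈ T := by
    rw [commutatorElement_def]
    exact mul_mem ((Subgroup.mem_normalizer_iff.mp (o.a_mem_normalizer h) x).mp hx.1) (inv_mem hx.1)
  have h2 : ⁅a, x⁆ ∈ Cfsg.sigmaCore Mstar := by
    rw [commutatorElement_def, show a * x * a⁻¹ * x⁻¹ = a * (x * a⁻¹ * x⁻¹) by group]
    exact mul_mem (Subgroup.mem_inf.mp h.mem_star).1 ((Subgroup.mem_normalizer_iff.mp
      (piCoreOf_normal (Cfsg.sigma Mstar) Mstar hx.2) a⁻¹).mp (inv_mem (Subgroup.mem_inf.mp h.mem_star).1))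
  refine commutatorElement_eq_one_iff_mul_comm.mp ?_
  by_contra h3
  obtain ⟨p, hp, hd⟩ := Nat.exists_prime_and_dvd (n := orderOf ⁅a, x⁆)
    fun e => h3 (orderOf_eq_one_iff.mp e)
  exact htσ (hcopT hp (hd.trans (Subgroup.orderOf_dvd_natCard _ h1)) ▸
    mem_sigma_of_mem_sigmaCore h2 hp hd)

include hG hI h o in
/-- `H` is not conjugate to `M`. -/
theorem Over.not_conj (g : G) : H ≠ cj g M := by
  intro e
  refine (o.t_spec h).2 ?_
  rw [← sigma_cj g M, ← e]
  have hsy := sylowOf_cj (o.sylowM hG h) g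
  rw [← e] at hsy
  have hT : SylowOf t T H := ⟨o.T_le, o.sylow.2.1, fun Q hQ hQp hle => by
    have h1 := hsy.card_dvd hQ hQp
    rw [card_cj] at h1
    exact (Subgroup.eq_of_le_of_card_ge hle (Nat.le_of_dvd Nat.card_pos h1)).symm⟩
  exact Sigma10.mem_sigma_of_normalizer_le ht.out
    (o.dvd.trans (Subgroup.card_dvd_of_le (o.U_le h))) hT o.le

include hG hI h o in
/-- `σ(M)` and `σ(H)` are disjoint. -/
theorem Over.disjoint_M {p : ℕ} (hpM : p ∈ Cfsg.sigma M) : p ∉ Cfsg.sigma H := fun hpH => by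
  obtain ⟨g, hg⟩ := exists_cj_eq_of_sigma hI.disjoint h.coatom o.coatom hpM hpH
  exact o.not_conj hG hI h g hg

include hG hI h o in
theorem Over.ne_star : H ≠ Mstar := fun e => o.T_ne (by
  have h1 := o.inf_star hG hI h
  rwa [inf_eq_left.mpr (e ▸ o.T_le)] at h1)

include hG hI h o in
/-- `σ(M*)` and `σ(H)` are disjoint. -/
theorem Over.disjoint_star {p : ℕ} (hpS : p ∈ Cfsg.sigma Mstar) : p ∉ Cfsg.sigma H := fun hpH => by
  obtain ⟨g, hg⟩ := exists_cj_eq_of_sigma hI.disjoint h.coatomStar o.coatom hpS hpH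
  have h1 : g⁻¹ * a * g⁻¹⁻¹ ∈ Mstar := by
    simpa using mem_cj.mp (hg ▸ o.a_mem h : a ∈ cj g Mstar)
  have hgm : g ∈ Mstar := by
    simpa using Mstar.inv_mem
      (mem_of_conj_kstar hG hI h.coatomStar h.hallStar (h.kstar_ne hI) h.mem_star h.ne_one h1)
  exact o.ne_star hG hI h (hg.trans (cj_eq_of_mem hgm))

include hG hI h o in
/-- `C_{H_σ}(a) = 1`. -/
theorem Over.fixed_eq_one {z : G} (hz : z ∈ Cfsg.sigmaCore H) (haz : a * z = z * a) : z = 1 := by
  by_contra hz1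
  have hzC : z ∈ Subgroup.centralizer ({a} : Set G) := Subgroup.mem_centralizer_singleton_iff.mpr haz.symm
  have hzS : ∀ p : ℕ, p.Prime → p ∣ orderOf z → p ∈ Cfsg.sigma H :=
    fun p hp hd => mem_sigma_of_mem_sigmaCore hz hp hd
  obtain ⟨s, hs, hsd⟩ := Nat.exists_prime_and_dvd (n := orderOf z) fun e => hz1 (orderOf_eq_one_iff.mp e)
  rcases sigma_element_centralizer_dichotomy hG hI Mstar h.coatomStar a (Subgroup.mem_inf.mp h.mem_star).1
      h.ne_one z ⟨h.centralizer_le hG hI hzC, hzC⟩ hz1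
      (fun p hp hd hpS => o.disjoint_star hG hI h hpS (hzS p hp hd)) with ⟨hκ, -⟩ | ⟨-, -, -, huniq⟩
  · exact o.disjoint_M hG hI h (h.kappa_star_subset (hκ s hs hsd)) (hzS s hs hsd)
  refine o.ne_star hG hI h ?_
  rcases sigma_element_centralizer_dichotomy hG hI H o.coatom z hz hz1 a
      ⟨o.a_mem h, Subgroup.mem_centralizer_singleton_iff.mpr haz⟩ h.ne_one
      (fun p hp hd hpH => o.disjoint_star hG hI h (by
        rw [h.order] at hd
        rw [(Nat.prime_dvd_prime_iff_eq hp h.prime).mp hd]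
        exact h.q_mem_sigma) hpH) with ⟨-, hle⟩ | ⟨-, -, -, huniq'⟩
  · exact huniq H o.coatom hle
  · exact (huniq' Mstar h.coatomStar (h.centralizer_le hG hI)).symm

include hG hI h o in
theorem Over.nilpotent : Group.IsNilpotent (Cfsg.sigmaCore H) :=
  CfsgLib.Frobenius.Thompson.isNilpotent_of_element (Cfsg.sigmaCore H)
    (piCoreOf_normal (Cfsg.sigma H) H (o.a_mem h)) h.prime (h.order ▸ pow_orderOf_eq_one a)
    fun _ hw hwa => o.fixed_eq_one hG hI h hw hwa

include hG hI h o in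
/-- A `σ(H)'`-subgroup of prime power order on which `a` acts without fixed points centralizes `H_σ`. -/
theorem Over.centralizes {s : ℕ} [hs : Fact s.Prime] {X : Subgroup G} (hXH : X ≤ H)
    (hX : IsPGroup s X) (hsσ : s ∉ Cfsg.sigma H) (haX : a ∈ Subgroup.normalizer (X : Set G))
    (hfree : ∀ x ∈ X, a * x = x * a → x = 1) :
    Cfsg.sigmaCore H ≤ Subgroup.centralizer (X : Set G) := by
  set S := Cfsg.sigmaCore H with hS
  set Y := Subgroup.zpowers a with hY
  have hYX : Y ≤ Subgroup.normalizer (X : Set G) := Subgroup.zpowers_le.mpr haX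
  have hfpf : ∀ e ∈ Y, e ≠ 1 → ∀ x ∈ X, e * x = x * e → x = 1 := by
    intro e he he1 x hx hex
    refine hfree x hx ?_
    have hae : a ∈ Subgroup.zpowers e := by
      have heq : Subgroup.zpowers e = Y := by
        refine Subgroup.eq_of_le_of_card_ge (Subgroup.zpowers_le.mpr he) ?_
        have hd := Subgroup.orderOf_dvd_natCard _ he
        rw [hY, Nat.card_zpowers, h.order] at hd
        rw [hY, Nat.card_zpowers, Nat.card_zpowers, h.order,
          ((Nat.dvd_prime h.prime).mp hd).resolve_left (fun e1 => he1 (orderOf_eq_one_iff.mp e1))]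
      exact heq ▸ Subgroup.mem_zpowers a
    exact (Subgroup.mem_centralizer_singleton_iff.mp
      (centralizer_le_of_mem_zpowers hae (Subgroup.mem_centralizer_singleton_iff.mpr hex.symm))).symm
  have hXY : X ⊔ Y ≤ H := sup_le hXH (Subgroup.zpowers_le.mpr (o.a_mem h))
  have := minSimple_solvable hG o.coatom.1
  have hsolv : Group.IsSolvable S :=
    solvable_of_solvable_injective (Subgroup.inclusion_injective (sigmaCore_le H))
  have hcop : (Nat.card S).Coprime (Nat.card ↥(X ⊔ Y)) := Nat.coprime_of_dvd fun p hp h1 h2 => by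
    have hpH : p ∈ Cfsg.sigma H := piNat_card_piCoreOf (Cfsg.sigma H) H p hp h1
    rw [sup_comm] at h2
    rcases hp.dvd_mul.mp (h2.trans (card_sup_dvd_mul hYX)) with h3 | h3
    · rw [hY, Nat.card_zpowers, h.order, Nat.prime_dvd_prime_iff_eq hp h.prime] at h3
      exact o.disjoint_star hG hI h h.q_mem_sigma (h3 ▸ hpH)
    · obtain ⟨n, hn⟩ := hX.exists_card_eq
      rw [hn] at h3
      exact hsσ ((Nat.prime_dvd_prime_iff_eq hp hs.out).mp (hp.dvd_of_dvd_pow h3) ▸ hpH)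
  have hf := FixedFormula.fixed_formula X Y
    (fun e => h.ne_one (Subgroup.mem_bot.mp (e ▸ Subgroup.mem_zpowers a))) hYX
    (FixedFormula.coprime_of_fpf hYX hfpf) hfpf S
    (hXY.trans (piCoreOf_normal (Cfsg.sigma H) H)) hsolv hcop
  have hSY : S ⊓ Subgroup.centralizer (Y : Set G) = ⊥ := (Subgroup.eq_bot_iff_forall _).mpr fun w hw =>
    o.fixed_eq_one hG hI h hw.1 (Subgroup.mem_centralizer_iff.mp hw.2 a (Subgroup.mem_zpowers a))
  have hSXY : S ⊓ Subgroup.centralizer ((X ⊔ Y : Subgroup G) : Set G) = ⊥ :=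
    le_bot_iff.mp (hSY ▸ inf_le_inf le_rfl (Subgroup.centralizer_le fun _ hz => Subgroup.mem_sup_right hz))
  rw [hSY, hSXY, Subgroup.card_bot, one_pow, one_mul, one_mul] at hf
  exact (Subgroup.eq_of_le_of_card_ge inf_le_left hf.le).ge.trans inf_le_right

include hG hI h o in
/-- `t ∈ σ(H)`. -/
theorem Over.mem_sigma : t ∈ Cfsg.sigma H := by
  obtain ⟨R, hR, hTR⟩ := exists_sylowOf_ge o.T_le o.sylow.2.1
  have htH : t ∣ Nat.card H := o.dvd.trans (Subgroup.card_dvd_of_le (o.U_le h))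
  by_cases hcomm : IsMulCommutative R
  swap
  · have huniq := inUnique_of_not_comm hG hI.rankTwo hI.nilpotent hR.2.1 hcomm
    obtain ⟨S, hS⟩ := hR.2.1.exists_le_sylow
    have htG : t ∣ Nat.card G := htH.trans (Subgroup.card_subgroup_dvd_card H)
    obtain ⟨L, hL, hle⟩ := exists_isCoatom_ge (minSimple_normalizer_ne_top hG
      (S.ne_bot_of_dvd_card htG) (minSimple_pgroup_ne_top hG S.isPGroup'))
    have heq : L = H := Uniq.InUniqueMaximal.eq huniq o.coatom hR.1 hL
      (hS.trans (Subgroup.le_normalizer.trans hle))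
    exact mem_sigma_of_sylow_normalizer_le htG S (heq ▸ hle)
  by_cases hcyc : IsCyclic R
  · refine Sigma10.mem_sigma_of_normalizer_le ht.out htH hR (le_trans (fun x hx => ?_) o.le)
    exact mem_normalizer_of_cj_eq (eq_of_card_eq_cyclic hcyc
      ((cj_mono hTR).trans (cj_eq_of_mem_normalizer hx).le) hTR (card_cj _ _))
  by_contra htσ
  have ht2 : t ≠ 2 := minSimple_prime_ne_two' hG (htH.trans (Subgroup.card_subgroup_dvd_card H))
  have htτ : t ∈ Cfsg.tau2 H := (tau2_or_rank_one hG o.coatom ht.out htσ).resolve_right fun hr =>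
    hcyc (isCyclic_of_pRankLE_one ht2 hR.2.1 (PRankLE.of_le hR.1 hr))
  have haN := o.a_mem_normalizer h
  obtain ⟨E, hE, hTaE⟩ := exists_compl_ge hG o.coatom
    (sup_le (Subgroup.zpowers_le.mpr (o.a_mem h)) o.T_le : Subgroup.zpowers a ⊔ T ≤ H) fun p hp hd hpH => by
      rcases hp.dvd_mul.mp (hd.trans (card_sup_dvd_mul (Subgroup.zpowers_le.mpr haN))) with h1 | h1
      · rw [Nat.card_zpowers, h.order, Nat.prime_dvd_prime_iff_eq hp h.prime] at h1
        exact o.disjoint_star hG hI h h.q_mem_sigma (h1 ▸ hpH)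
      · obtain ⟨n, hn⟩ := o.sylow.2.1.exists_card_eq
        rw [hn] at h1
        exact htσ ((Nat.prime_dvd_prime_iff_eq hp ht.out).mp (hp.dvd_of_dvd_pow h1) ▸ hpH)
  obtain ⟨B, hBE, hBe, hB2⟩ := exists_plane_compl hG o.coatom hE htτ
  obtain ⟨⟨hBn, hBall⟩, -, -⟩ := hI.tauTwoCompl H o.coatom E hE t htτ B ⟨hBE, hBe, hB2⟩
  obtain ⟨-, -, -, hCB, -, -⟩ := hI.tauTwo H o.coatom t htτ B ⟨hBE.trans hE.1, hBe, hB2⟩
  obtain ⟨x, hx⟩ := exists_prime_orderOf_dvd_card' (G := T) t (by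
    obtain ⟨n, hn⟩ := o.sylow.2.1.exists_card_eq
    rw [hn]
    exact dvd_pow_self t fun h0 => o.T_ne (Subgroup.card_eq_one.mp (by rw [hn, h0, pow_zero])))
  have hxo : orderOf (x : G) = t := by rw [Subgroup.orderOf_coe, hx]
  have hxB : (x : G) ∈ B := hBall _ (Subgroup.zpowers_le.mpr (hTaE (Subgroup.mem_sup_right x.2)))
    (by rw [Nat.card_zpowers, hxo]) (Subgroup.mem_zpowers _)
  have hle := o.centralizes hG hI h (hBE.trans hE.1) (isPGroup_of_elemAb hBe) htσ
    (hBn (hTaE (Subgroup.mem_sup_left (Subgroup.mem_zpowers a)))) fun z hzB haz => by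
    by_contra hz1
    have hzo : orderOf z = t := orderOf_eq_prime (hBe.2 z hzB) hz1
    have hzC : z ∈ Subgroup.centralizer ({a} : Set G) :=
      Subgroup.mem_centralizer_singleton_iff.mpr haz.symm
    have hx1 : (x : G) ≠ 1 := fun e => ht.out.ne_one (by rw [← hxo, e, orderOf_one])
    have htS := o.not_sigma_star hG hI h
    rcases sigma_element_centralizer_dichotomy hG hI Mstar h.coatomStar a
        (Subgroup.mem_inf.mp h.mem_star).1 h.ne_one z ⟨h.centralizer_le hG hI hzC, hzC⟩ hz1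
        (fun p hp hd => by
          rw [hzo] at hd
          rwa [(Nat.prime_dvd_prime_iff_eq hp ht.out).mp hd]) with ⟨hκ, -⟩ | ⟨-, -, hzM, -⟩
    · exact (o.t_spec h).2 (h.kappa_star_subset (hκ t ht.out (hzo ▸ dvd_rfl)))
    · have h1 : (x : G) ∈ T ⊓ Mstar := ⟨x.2, hzM (Subgroup.mem_centralizer_singleton_iff.mpr
        (mul_comm_of_mem hBe.1 hxB hzB))⟩
      rw [o.inf_star hG hI h, Subgroup.mem_bot] at h1
      exact hx1 h1
  exact Sigma15.sigmaCore_ne_bot hG o.coatom (le_bot_iff.mp (hCB ▸ le_inf le_rfl hle))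

end CfsgLib.OddOrder38
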