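import Mathlib
import Cfsg.Agent.Lib.OddOrder38.Main1434
import Cfsg.Agent.Lib.OddOrder.Sigma11Local

/-!
# BG 14.5 and the counting of 14.7: a pair of partners is not twice of type `P₁`

Nothing here assumes that the Hall `κ`-subgroups are cyclic or abelian.
-/

set_option autoImplicit false

namespace CfsgLib.OddOrder38

open Subgroup CfsgLib.OddOrder CfsgLib.OddOrder.Transitivity CfsgLib.OddOrder41

universe u

variable {G : Type u} [Group G] [Finite G]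

/-- The conjugates of the cosets `x R(x)`, `x ∈ M_σ`, `x ≠ 1`. -/
def tildeSet (M : Subgroup G) : Set G :=
  {a | ∃ g x : G, x ∈ Cfsg.sigmaCore M ∧ x ≠ 1 ∧ ∃ r ∈ Cfsg.supportR M x, a = g * (x * r) * g⁻¹}

omit [Finite G] in
/-- Counting the conjugates of a TI-set invariant under its normalizer. -/
theorem card_conjugates_of_invariant [Finite G] {Z : Subgroup G} {W : Set G}
    (hinv : ∀ z ∈ W, ∀ w ∈ Z, w * z * w⁻¹ ∈ W)
    (hTI : ∀ h : G, ∀ z ∈ W, h * z * h⁻¹ ∈ W → h ∈ Z) :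
    Nat.card Z * Set.ncard {a : G | ∃ g : G, ∃ z ∈ W, a = g * z * g⁻¹} =
      Set.ncard W * Nat.card G := by
  set T := {a : G | ∃ g : G, ∃ z ∈ W, a = g * z * g⁻¹} with hT
  have key : ∀ t : T, ∃ g : G, ∃ z ∈ W, (t : G) = g * z * g⁻¹ := fun t => t.2
  choose g₀ z₀ hz₀ ht₀ using key
  have hmem : ∀ p : G × W, p.1 * p.2 * p.1⁻¹ ∈ T := fun p => ⟨p.1, p.2, p.2.2, rfl⟩
  have hfib : ∀ p : G × W, (g₀ ⟨_, hmem p⟩)⁻¹ * p.1 ∈ Z := fun p => by
    refine hTI _ p.2 p.2.2 ?_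
    have h := ht₀ ⟨_, hmem p⟩
    have hz := hz₀ ⟨_, hmem p⟩
    generalize g₀ ⟨_, hmem p⟩ = a, z₀ ⟨_, hmem p⟩ = b at h hz ⊢
    have h' : p.1 * (p.2 : G) * p.1⁻¹ = a * b * a⁻¹ := h
    rw [show a⁻¹ * p.1 * (p.2 : G) * (a⁻¹ * p.1)⁻¹ = a⁻¹ * (p.1 * p.2 * p.1⁻¹) * a by group, h']
    simpa [mul_assoc] using hz
  have e : G × W ≃ T × Z :=
    Equiv.ofBijective (fun p => (⟨_, hmem p⟩, ⟨_, hfib p⟩)) ⟨?_, ?_⟩
  · have h := Nat.card_congr e
    rw [Nat.card_prod, Nat.card_prod, Nat.card_coe_set_eq, Nat.card_coe_set_eq] at h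
    rw [mul_comm, ← h, mul_comm]
  · rintro ⟨g, z⟩ ⟨g', z'⟩ h
    simp only [Prod.mk.injEq, Subtype.mk.injEq] at h
    obtain ⟨h1, h2⟩ := h
    have hg : g = g' := by
      have h3 : (⟨_, hmem (g, z)⟩ : T) = ⟨_, hmem (g', z')⟩ := Subtype.ext h1
      rw [h3] at h2
      exact mul_left_cancel h2
    subst hg
    exact Prod.ext rfl (Subtype.ext (mul_left_cancel (mul_right_cancel h1)))
  · rintro ⟨t, w⟩
    have hz : (w : G)⁻¹ * z₀ t * (w : G) ∈ W := by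
      simpa using hinv _ (hz₀ t) _ (inv_mem w.2)
    have he : g₀ t * (w : G) * ((w : G)⁻¹ * z₀ t * (w : G)) * (g₀ t * (w : G))⁻¹ = t := by
      rw [ht₀ t]
      group
    refine ⟨(g₀ t * w, ⟨_, hz⟩), ?_⟩
    have h3 : (⟨_, hmem (g₀ t * w, ⟨_, hz⟩)⟩ : T) = t := Subtype.ext he
    refine Prod.ext h3 (Subtype.ext ?_)
    show (g₀ _)⁻¹ * (g₀ t * w) = w
    rw [h3, inv_mul_cancel_left]

variable (hG : Cfsg.IsMinSimpleOddOrder G) (hI : Inputs G)

include hG hI in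
/-- `R(x)` is covariant. -/
theorem supportR_cj {N : Subgroup G} (hN : IsCoatom N) {y : G} (hy : y ∈ Cfsg.sigmaCore N)
    (hy1 : y ≠ 1) (h : G) {s : G} (hs : s ∈ Cfsg.supportR N y) :
    h * s * h⁻¹ ∈ Cfsg.supportR (cj h N) (h * y * h⁻¹) := by
  by_cases hyN : Subgroup.centralizer ({y} : Set G) ≤ N
  · rw [Cfsg.supportR, dif_neg fun h => h.1 hyN, Subgroup.mem_bot] at hs
    rw [hs, mul_one, mul_inv_cancel]
    exact one_mem _
  obtain ⟨L, hL, honly, -, hnil, -, -⟩ := centralizer_partner hG hI hN hy hy1 hyN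
  rw [supportR_eq hG hL hyN honly hnil] at hs
  have hN' : IsCoatom (cj h N) := isCoatom_map_conj hN h
  have hy' : h * y * h⁻¹ ∈ Cfsg.sigmaCore (cj h N) := by
    rw [sigmaCore_cj]
    exact mem_cj_self.mpr hy
  have hyN' : ¬ Subgroup.centralizer ({h * y * h⁻¹} : Set G) ≤ cj h N := fun hle => hyN (by
    rw [← Sigma11.cj_centralizer_singleton] at hle
    exact (cj_cancel h _).ge.trans ((cj_mono hle).trans (cj_cancel h N).le))
  have hy'1 : h * y * h⁻¹ ≠ 1 := by simpa [mul_inv_eq_one] using hy1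
  obtain ⟨L', hL', honly', -, hnil', -, -⟩ := centralizer_partner hG hI hN' hy' hy'1 hyN'
  have heq : cj h L = L' := honly'.2 _ (isCoatom_map_conj hL h) (by
    rw [← Sigma11.cj_centralizer_singleton]
    exact cj_mono honly.1)
  rw [supportR_eq hG hL' hyN' honly' hnil']
  refine ⟨?_, ?_⟩
  · rw [← heq, sigmaCore_cj]
    exact mem_cj_self.mpr (Subgroup.mem_inf.mp hs).1
  · rw [← Sigma11.cj_centralizer_singleton]
    exact mem_cj_self.mpr (Subgroup.mem_inf.mp hs).2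

include hG hI in
/-- `C_G(x) = R(x) C_M(x)`. -/
theorem exists_supportR_mul {M : Subgroup G} (hM : IsCoatom M) {x : G}
    (hx : x ∈ Cfsg.sigmaCore M) (hx1 : x ≠ 1) {c : G}
    (hc : c ∈ Subgroup.centralizer ({x} : Set G)) :
    ∃ r ∈ Cfsg.supportR M x, ∃ m ∈ M, c = r * m := by
  by_cases hxM : Subgroup.centralizer ({x} : Set G) ≤ M
  · exact ⟨1, one_mem _, c, hxM hc, (one_mul c).symm⟩
  obtain ⟨L, hL, honly, -, hnil, hcompl, -⟩ := centralizer_partner hG hI hM hx hx1 hxM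
  have hc' : c⁻¹ * x * c⁻¹⁻¹ = x := by
    rw [inv_inv, mul_assoc, ← Subgroup.mem_centralizer_singleton_iff.mp hc, inv_mul_cancel_left]
  obtain ⟨a, ha, b, hb, he, hbx⟩ := centralizer_decomp hcompl
    (⟨sigmaCore_le M hx, honly.1 (self_mem_centralizer x)⟩ : x ∈ M ⊓ L)
    (honly.1 (inv_mem hc)) (hc'.symm ▸ sigmaCore_le M hx)
  refine ⟨b⁻¹, ?_, a⁻¹, inv_mem ha.1, by rw [← mul_inv_rev, ← he, inv_inv]⟩
  rw [supportR_eq hG hL hxM honly hnil]
  exact inv_mem (⟨hb, Subgroup.mem_centralizer_singleton_iff.mpr hbx⟩ : b ∈ Cfsg.sigmaCore L ⊓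
    Subgroup.centralizer ({x} : Set G))

include hG hI in
/-- The primes of an element of `R(x)` are outside `σ(M)`. -/
theorem not_mem_sigma_of_supportR {M : Subgroup G} (hM : IsCoatom M) {x : G}
    (hx : x ∈ Cfsg.sigmaCore M) (hx1 : x ≠ 1) {r : G} (hr : r ∈ Cfsg.supportR M x) {p : ℕ}
    (hp : p.Prime) (hd : p ∣ orderOf r) : p ∉ Cfsg.sigma M := by
  obtain ⟨-, h⟩ := supportR_spec hG hI hM hx hx1 hr
  rcases h with rfl | ⟨L, -, h1, -, h3⟩
  · rw [orderOf_one] at hd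
    exact absurd (Nat.dvd_one.mp hd) hp.ne_one
  · exact h3 p (h1 p hp hd)

include hG hI in
/-- **BG 14.5**, counting part. -/
theorem card_tildeSet_ge {M : Subgroup G} (hM : IsCoatom M) :
    Nat.card G * (Nat.card ↥(Cfsg.sigmaCore M) - 1) ≤ Nat.card M * (tildeSet M).ncard := by
  set S := Cfsg.sigmaCore M with hS
  set Y := {y : G | ∃ g x : G, x ∈ S ∧ x ≠ 1 ∧ y = g * x * g⁻¹} with hY
  have key : ∀ y : Y, ∃ g x : G, x ∈ S ∧ x ≠ 1 ∧ (y : G) = g * x * g⁻¹ := fun y => y.2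
  choose g₀ x₀ hx₀ hx₀1 hy₀ using key
  let D := (Σ y : Y, ↥(Cfsg.supportR M (x₀ y))) × M
  let P := G × {x : G // x ∈ S ∧ x ≠ 1}
  have hfib : ∀ p : P, ∃ r : ↥(Cfsg.supportR M (x₀ ⟨p.1 * p.2.1 * p.1⁻¹, p.1, p.2.1, p.2.2.1, p.2.2.2, rfl⟩)),
      ∃ m : M, (g₀ ⟨p.1 * p.2.1 * p.1⁻¹, p.1, p.2.1, p.2.2.1, p.2.2.2, rfl⟩)⁻¹ * p.1 = r * m := by
    rintro ⟨g, x, hxS, hx1⟩
    set y : Y := ⟨g * x * g⁻¹, g, x, hxS, hx1, rfl⟩ with hy
    set h := (g₀ y)⁻¹ * g with hh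
    have hx0 : h * x * h⁻¹ = x₀ y := by
      have e := hy₀ y
      have e' : g * x * g⁻¹ = g₀ y * x₀ y * (g₀ y)⁻¹ := e
      rw [hh, show (g₀ y)⁻¹ * g * x * ((g₀ y)⁻¹ * g)⁻¹ = (g₀ y)⁻¹ * (g * x * g⁻¹) * g₀ y by group, e']
      group
    obtain ⟨p, hp, hd⟩ := Nat.exists_prime_and_dvd (n := orderOf x)
      fun h => hx1 (orderOf_eq_one_iff.mp h)
    obtain ⟨m, hm, c, hc, hmc⟩ := exists_mul_centralizer hG hI.toLocal hM (sigmaCore_le M hxS) hp
      (mem_sigma_of_mem_sigmaCore hxS hp hd) hd (hx0.symm ▸ sigmaCore_le M (hx₀ y))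
    have hc' : c * x = x * c := Subgroup.mem_centralizer_singleton_iff.mp hc
    have hx0' : x₀ y = m * x * m⁻¹ := by
      rw [← hx0, hmc, show m * c * x * (m * c)⁻¹ = m * (c * x) * c⁻¹ * m⁻¹ by group, hc']
      group
    have hc0 : m * c * m⁻¹ ∈ Subgroup.centralizer ({x₀ y} : Set G) := by
      rw [Subgroup.mem_centralizer_singleton_iff, hx0',
        show m * c * m⁻¹ * (m * x * m⁻¹) = m * (c * x) * m⁻¹ by group, hc']
      group
    obtain ⟨r, hr, m', hm', he⟩ := exists_supportR_mul hG hI hM (hx₀ y) (hx₀1 y) hc0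
    refine ⟨⟨r, hr⟩, ⟨m' * m, mul_mem hm' hm⟩, ?_⟩
    show h = r * (m' * m)
    rw [hmc, ← mul_assoc, ← he]
    group
  choose rr mm hrm using hfib
  have hinj : Function.Injective (fun p : P =>
      ((⟨⟨p.1 * p.2.1 * p.1⁻¹, p.1, p.2.1, p.2.2.1, p.2.2.2, rfl⟩, rr p⟩, mm p) : D)) := by
    rintro p p' h
    have h2 : mm p = mm p' := (Prod.ext_iff.mp h).2
    have h1 := (Prod.ext_iff.mp h).1
    have hy : (⟨p.1 * p.2.1 * p.1⁻¹, p.1, p.2.1, p.2.2.1, p.2.2.2, rfl⟩ : Y) =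
        ⟨p'.1 * p'.2.1 * p'.1⁻¹, p'.1, p'.2.1, p'.2.2.1, p'.2.2.2, rfl⟩ := congrArg Sigma.fst h1
    have hr : (rr p : G) = rr p' :=
      congrArg (fun z : (Σ y : Y, ↥(Cfsg.supportR M (x₀ y))) => (z.2 : G)) h1
    have e : p.1 = p'.1 := by
      have a1 := hrm p
      have a2 := hrm p'
      rw [← congrArg g₀ hy, ← hr, ← h2] at a2
      exact mul_left_cancel (a1.trans a2.symm)
    refine Prod.ext e (Subtype.ext ?_)
    have hy' : p.1 * p.2.1 * p.1⁻¹ = p'.1 * p'.2.1 * p'.1⁻¹ := congrArg Subtype.val hy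
    rw [← e] at hy'
    exact mul_left_cancel (mul_right_cancel hy')
  have hinj' : Function.Injective (fun z : (Σ y : Y, ↥(Cfsg.supportR M (x₀ y))) =>
      (⟨g₀ z.1 * (x₀ z.1 * z.2) * (g₀ z.1)⁻¹,
        g₀ z.1, x₀ z.1, hx₀ z.1, hx₀1 z.1, z.2, z.2.2, rfl⟩ : tildeSet M)) := by
    rintro ⟨y, r⟩ ⟨y', r'⟩ h
    have h' : g₀ y * (x₀ y * r) * (g₀ y)⁻¹ = g₀ y' * (x₀ y' * r') * (g₀ y')⁻¹ := congrArg Subtype.val h
    have hcom : ∀ (z : Y) (s : ↥(Cfsg.supportR M (x₀ z))),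
        Commute (g₀ z * x₀ z * (g₀ z)⁻¹) (g₀ z * (s : G) * (g₀ z)⁻¹) := fun z s =>
      (supportR_spec hG hI hM (hx₀ z) (hx₀1 z) s.2).1.map (MulAut.conj (g₀ z))
    have hord : ∀ (z : Y) (w : G), orderOf (g₀ z * w * (g₀ z)⁻¹) = orderOf w := fun z w =>
      MulEquiv.orderOf_eq (MulAut.conj (g₀ z)) w
    have he : g₀ y * x₀ y * (g₀ y)⁻¹ * (g₀ y * r * (g₀ y)⁻¹) =
        g₀ y' * x₀ y' * (g₀ y')⁻¹ * (g₀ y' * r' * (g₀ y')⁻¹) := by
      simp only [mul_assoc, inv_mul_cancel_left] at h' ⊢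
      exact h'
    have hxeq := eq_of_parts (hcom y r) (hcom y' r') he (Nat.coprime_of_dvd fun p hp h1 h2 => by
      simp only [hord] at h1 h2
      have hpσ : p ∈ Cfsg.sigma M := (hp.dvd_mul.mp h2).elim (mem_sigma_of_mem_sigmaCore (hx₀ y) hp)
        (mem_sigma_of_mem_sigmaCore (hx₀ y') hp)
      exact (hp.dvd_mul.mp h1).elim
        (fun hd => not_mem_sigma_of_supportR hG hI hM (hx₀ y) (hx₀1 y) r.2 hp hd hpσ)
        (fun hd => not_mem_sigma_of_supportR hG hI hM (hx₀ y') (hx₀1 y') r'.2 hp hd hpσ))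
    obtain rfl : y = y' := Subtype.ext ((hy₀ y).trans (hxeq.trans (hy₀ y').symm))
    have : (r : G) = r' := mul_left_cancel (mul_left_cancel (mul_right_cancel h'))
    rw [Subtype.ext this]
  have h1 := Nat.card_le_card_of_injective _ hinj
  have h2 := Nat.card_le_card_of_injective _ hinj'
  rw [Nat.card_prod, Nat.card_prod, mul_comm _ (Nat.card M)] at h1
  rw [Nat.card_coe_set_eq] at h2
  have h3 : Nat.card {x : G // x ∈ S ∧ x ≠ 1} = Nat.card S - 1 := by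
    have e : {x : G | x ∈ S ∧ x ≠ 1} = (S : Set G) \ {1} := Set.ext fun x => by simp
    have e2 : Nat.card {x : G // x ∈ S ∧ x ≠ 1} = ({x : G | x ∈ S ∧ x ≠ 1} : Set G).ncard :=
      Nat.card_coe_set_eq {x : G | x ∈ S ∧ x ≠ 1}
    have e3 : Nat.card S = (S : Set G).ncard := Nat.card_coe_set_eq _
    rw [e2, e, Set.ncard_sdiff_singleton_of_mem S.one_mem, e3]
  rw [h3] at h1
  exact h1.trans (Nat.mul_le_mul_left _ h2)

include hG hI in
/-- The tilde sets of maximal subgroups with disjoint `σ`-sets are disjoint. -/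
theorem tildeSet_disjoint {M N : Subgroup G} (hM : IsCoatom M) (hN : IsCoatom N)
    (hdis : ∀ p ∈ Cfsg.sigma M, p ∉ Cfsg.sigma N) : Disjoint (tildeSet M) (tildeSet N) := by
  refine Set.disjoint_left.mpr ?_
  rintro a ⟨g, x, hx, hx1, r, hr, rfl⟩ ⟨g', y, hy, hy1, s, hs, he⟩
  set h := g⁻¹ * g' with hh
  have he' : x * r = h * y * h⁻¹ * (h * s * h⁻¹) := by
    have e := congrArg (fun z => g⁻¹ * z * g) he
    simp only [mul_assoc, inv_mul_cancel_left, inv_mul_cancel, mul_one] at e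
    rw [e, hh]
    group
  have hy' : h * y * h⁻¹ ∈ Cfsg.sigmaCore (cj h N) := by
    rw [sigmaCore_cj]
    exact mem_cj_self.mpr hy
  refine sigma_cosets_disjoint hG hI M (cj h N) hM (isCoatom_map_conj hN h) x _ hx hy' hx1
    (by simpa [mul_inv_eq_one] using hy1) (fun e => ?_) r hr _ (supportR_cj hG hI hN hy hy1 h hs) he'
  obtain ⟨p, hp, hd⟩ := Nat.exists_prime_and_dvd (n := orderOf x)
    fun h => hx1 (orderOf_eq_one_iff.mp h)
  exact hdis p (mem_sigma_of_mem_sigmaCore hx hp hd)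
    (sigma_cj h N ▸ mem_sigma_of_mem_sigmaCore hy' hp (e ▸ hd))

include hG hI in
/-- A product `k c` of non-identity commuting elements of `K` and `K*` is in no tilde set of `M`. -/
theorem not_mem_tildeSet {M K : Subgroup G} (hM : IsCoatom M)
    (hK : Cfsg.IsPiHallOf (Cfsg.kappa M) K M) (hK1 : K ≠ ⊥) {k c : G} (hk : k ∈ K) (hk1 : k ≠ 1)
    (hc : c ∈ Cfsg.sigmaCore M ⊓ Subgroup.centralizer (K : Set G)) (hc1 : c ≠ 1) (g : G) :
    g * (c * k) * g⁻¹ ∉ tildeSet M := by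
  rintro ⟨g', x, hx, hx1, r, hr, he⟩
  set h := g'⁻¹ * g with hh
  have he' : h * c * h⁻¹ * (h * k * h⁻¹) = x * r := by
    have e := congrArg (fun z => g'⁻¹ * z * g') he
    simp only [mul_assoc, inv_mul_cancel_left, inv_mul_cancel, mul_one] at e
    rw [← e, hh]
    group
  have hkc : Commute c k :=
    (Subgroup.mem_centralizer_iff.mp (Subgroup.mem_inf.mp hc).2 k hk).symm
  have hkσ : ∀ p : ℕ, p.Prime → p ∣ orderOf k → p ∉ Cfsg.sigma M := fun p hp hd =>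
    (hK.2.1 p hp (hd.trans (Subgroup.orderOf_dvd_natCard _ hk))).2.2.1
  have hord : ∀ w : G, orderOf (h * w * h⁻¹) = orderOf w := fun w =>
    MulEquiv.orderOf_eq (MulAut.conj h) w
  obtain ⟨hxr, hr'⟩ := supportR_spec hG hI hM hx hx1 hr
  have hceq : h * c * h⁻¹ = x := by
    refine eq_of_parts (hkc.map (MulAut.conj h)) hxr he' (Nat.coprime_of_dvd fun p hp h1 h2 => ?_)
    simp only [MulAut.conj_apply, hord] at h1 h2
    have hpσ : p ∈ Cfsg.sigma M := (hp.dvd_mul.mp h2).elim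
      (mem_sigma_of_mem_sigmaCore (Subgroup.mem_inf.mp hc).1 hp) (mem_sigma_of_mem_sigmaCore hx hp)
    exact (hp.dvd_mul.mp h1).elim (fun hd => hkσ p hp hd hpσ)
      (fun hd => not_mem_sigma_of_supportR hG hI hM hx hx1 hr hp hd hpσ)
  have hhM : h ∈ M := mem_of_conj_kstar hG hI hM hK hK1 hc hc1 (hceq.symm ▸ sigmaCore_le M hx)
  have hxM : Subgroup.centralizer ({x} : Set G) ≤ M := by
    rw [← hceq, ← Sigma11.cj_centralizer_singleton]
    exact (cj_mono (centralizer_kstar_le hG hI hM hK hK1 hc hc1)).trans (cj_eq_of_mem hhM).le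
  rw [Cfsg.supportR, dif_neg fun h => h.1 hxM, Subgroup.mem_bot] at hr
  rw [hr, hceq] at he'
  have := mul_left_cancel he'
  exact hk1 (by simpa [mul_inv_eq_one] using this)

/-- The order of a maximal subgroup all of whose primes lie in `σ(M) ∪ κ(M)`. -/
theorem card_eq_of_type_one (hG : Cfsg.IsMinSimpleOddOrder G) {M K : Subgroup G} (hM : IsCoatom M)
    (hK : Cfsg.IsPiHallOf (Cfsg.kappa M) K M)
    (hP1 : ∀ q : ℕ, q.Prime → q ∣ Nat.card M → q ∉ Cfsg.sigma M → q ∈ Cfsg.kappa M) :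
    Nat.card M = Nat.card K * Nat.card ↥(Cfsg.sigmaCore M) := by
  have hall := (Sigma10.sigmaCore_hall hG hM).1
  have hcop : (Nat.card K).Coprime (Nat.card ↥(Cfsg.sigmaCore M)) :=
    Nat.coprime_of_dvd fun p hp h1 h2 => (hK.2.1 p hp h1).2.2.1 (hall.2.1 p hp h2)
  obtain ⟨m, hm⟩ := hcop.mul_dvd_of_dvd_of_dvd (Subgroup.card_dvd_of_le hK.1)
    (Subgroup.card_dvd_of_le hall.1)
  suffices m = 1 by rw [hm, this, mul_one]
  by_contra hne
  obtain ⟨p, hp, hd⟩ := Nat.exists_prime_and_dvd hne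
  by_cases hpσ : p ∈ Cfsg.sigma M
  · refine hall.2.2 p hp hpσ ?_
    have e := card_mul_relIndex_of_le hall.1
    rw [hm, mul_comm (Nat.card K), mul_assoc] at e
    rw [Nat.eq_of_mul_eq_mul_left Nat.card_pos e]
    exact hd.mul_left _
  · refine hK.2.2 p hp (hP1 p hp (hm ▸ hd.mul_left _) hpσ) ?_
    have e := card_mul_relIndex_of_le hK.1
    rw [hm, mul_assoc] at e
    rw [Nat.eq_of_mul_eq_mul_left Nat.card_pos e]
    exact hd.mul_left _

/-- The final inequality of the counting. -/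
theorem count_absurd {g k c a b tM tN tW : ℕ} (hg : 0 < g) (hk : 3 ≤ k) (hc : 3 ≤ c)
    (ha : 3 * c ≤ a) (hb : 3 * k ≤ b) (hM : g * (a - 1) ≤ k * a * tM) (hN : g * (b - 1) ≤ c * b * tN)
    (hW : k * c * tW = (k * c - (k + c - 1)) * g) (hsum : tM + tN + tW ≤ g) : False := by
  obtain ⟨a, rfl⟩ : ∃ a', a = a' + 1 := ⟨a - 1, by omega⟩
  obtain ⟨b, rfl⟩ : ∃ b', b = b' + 1 := ⟨b - 1, by omega⟩
  simp only [Nat.add_sub_cancel] at hM hN
  have hle : k + c - 1 ≤ k * c := by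
    have : k + c ≤ k * c + 1 := by nlinarith
    omega
  obtain ⟨e, he⟩ : ∃ e, k * c - (k + c - 1) = e := ⟨_, rfl⟩
  have he' : e + (k + c) = k * c + 1 := by omega
  rw [he] at hW
  have h1 : g * a * (c * (b + 1)) + g * b * (k * (a + 1)) + e * g * ((a + 1) * (b + 1)) ≤
      g * (k * c * ((a + 1) * (b + 1))) := by
    calc g * a * (c * (b + 1)) + g * b * (k * (a + 1)) + e * g * ((a + 1) * (b + 1))
        ≤ k * (a + 1) * tM * (c * (b + 1)) + c * (b + 1) * tN * (k * (a + 1)) +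
            k * c * tW * ((a + 1) * (b + 1)) := by
          rw [hW]
          gcongr
      _ = (tM + tN + tW) * (k * c * ((a + 1) * (b + 1))) := by ring
      _ ≤ g * (k * c * ((a + 1) * (b + 1))) := Nat.mul_le_mul_right _ hsum
  have h2 : a * (c * (b + 1)) + b * (k * (a + 1)) + e * ((a + 1) * (b + 1)) ≤
      k * c * ((a + 1) * (b + 1)) := Nat.le_of_mul_le_mul_left (by linarith) hg
  have he2 := congrArg (· * ((a + 1) * (b + 1))) he'
  have h3 : (a + 1) * (b + 1) ≤ c * (b + 1) + k * (a + 1) := by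
    nlinarith only [h2, he2]
  nlinarith only [h3, Nat.mul_le_mul_right (b + 1) ha, Nat.mul_le_mul_left (a + 1) hb]

include hG hI in
/-- **BG 14.7, counting**: of a pair of partners at most one has type `P₁`. -/
theorem not_both_type_one {M K Mstar : Subgroup G} (hM : IsCoatom M)
    (hK : Cfsg.IsPiHallOf (Cfsg.kappa M) K M) (hK1 : K ≠ ⊥) (hMstar : IsCoatom Mstar)
    (hKst : K = Cfsg.sigmaCore Mstar ⊓ Subgroup.centralizer
      ((Cfsg.sigmaCore M ⊓ Subgroup.centralizer (K : Set G) : Subgroup G) : Set G))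
    (hKstH : Cfsg.IsPiHallOf (Cfsg.kappa Mstar)
      (Cfsg.sigmaCore M ⊓ Subgroup.centralizer (K : Set G)) Mstar)
    (h₁ : ∀ q : ℕ, q.Prime → q ∣ Nat.card M → q ∉ Cfsg.sigma M → q ∈ Cfsg.kappa M)
    (h₂ : ∀ q : ℕ, q.Prime → q ∣ Nat.card Mstar → q ∉ Cfsg.sigma Mstar → q ∈ Cfsg.kappa Mstar) :
    False := by
  set C := Cfsg.sigmaCore M ⊓ Subgroup.centralizer (K : Set G) with hC
  have hKs : K ≤ Cfsg.sigmaCore Mstar := hKst.le.trans inf_le_left
  have hC1 : C ≠ ⊥ := kstar_ne_bot hI hM hK hK1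
  have hCK : C ≤ Subgroup.centralizer (K : Set G) := inf_le_right
  have hkc : ∀ {k c : G}, k ∈ K → c ∈ C → Commute k c := fun hk hc =>
    Subgroup.mem_centralizer_iff.mp (hCK hc) _ hk
  have hKσ : ∀ {k : G}, k ∈ K → ∀ p : ℕ, p.Prime → p ∣ orderOf k → p ∉ Cfsg.sigma M :=
    fun hk p hp hd => (hK.2.1 p hp (hd.trans (Subgroup.orderOf_dvd_natCard _ hk))).2.2.1
  have hCσ : ∀ {c : G}, c ∈ C → ∀ p : ℕ, p.Prime → p ∣ orderOf c → p ∈ Cfsg.sigma M :=
    fun hc p hp hd => mem_sigma_of_mem_sigmaCore (Subgroup.mem_inf.mp hc).1 hp hd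
  have hinf : K ⊓ C = ⊥ := (Subgroup.eq_bot_iff_forall _).mpr fun x hx => by
    by_contra hx1
    obtain ⟨p, hp, hd⟩ := Nat.exists_prime_and_dvd (n := orderOf x)
      fun h => hx1 (orderOf_eq_one_iff.mp h)
    exact hKσ (Subgroup.mem_inf.mp hx).1 p hp hd (hCσ (Subgroup.mem_inf.mp hx).2 p hp hd)
  have hKn : K ≤ Subgroup.normalizer (C : Set G) := by
    refine le_trans ?_ (Subgroup.centralizer_le_normalizer (C : Set G))
    intro k hk
    exact Subgroup.mem_centralizer_iff.mpr fun c hc => (hkc hk hc).symm.eq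
  have hcard : Nat.card ↥(K ⊔ C) = Nat.card K * Nat.card C :=
    CfsgLib.Coprime.card_sup_of_disjoint hKn (by rwa [inf_comm])
  set W := (↑(K ⊔ C) : Set G) \ ((K : Set G) ∪ ↑C) with hWdef
  have hWspec : ∀ {z : G}, z ∈ W → ∃ k ∈ K, k ≠ 1 ∧ ∃ c ∈ C, c ≠ 1 ∧ z = k * c := by
    rintro z ⟨hz, hz'⟩
    obtain ⟨k, hk, c, hc, rfl⟩ := CfsgLib.Coprime.exists_mul_of_mem_sup hKn hz
    exact ⟨k, hk, fun h => hz' (Or.inr (by rw [h, one_mul]; exact hc)), c, hc,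
      fun h => hz' (Or.inl (by rw [h, mul_one]; exact hk)), rfl⟩
  have hWmk : ∀ {k c : G}, k ∈ K → k ≠ 1 → c ∈ C → c ≠ 1 → k * c ∈ W := by
    intro k c hk hk1 hc hc1
    refine ⟨mul_mem (Subgroup.mem_sup_left hk) (Subgroup.mem_sup_right hc), ?_⟩
    rintro (h | h)
    · have h1 : c ∈ K ⊓ C := ⟨by simpa using mul_mem (inv_mem hk) h, hc⟩
      rw [hinf, Subgroup.mem_bot] at h1
      exact hc1 h1
    · have h1 : k ∈ K ⊓ C := ⟨hk, by simpa using mul_mem h (inv_mem hc)⟩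
      rw [hinf, Subgroup.mem_bot] at h1
      exact hk1 h1
  have hinv : ∀ z ∈ W, ∀ w ∈ K ⊔ C, w * z * w⁻¹ ∈ W := by
    intro z hz w hw
    obtain ⟨k, hk, hk1, c, hc, hc1, rfl⟩ := hWspec hz
    obtain ⟨k', hk', c', hc', rfl⟩ := CfsgLib.Coprime.exists_mul_of_mem_sup hKn hw
    have e1 : k' * c' * k * (k' * c')⁻¹ = k' * k * k'⁻¹ := by
      rw [show k' * c' * k * (k' * c')⁻¹ = k' * (c' * k) * c'⁻¹ * k'⁻¹ by group, ← (hkc hk hc').eq]
      group
    have e2 : k' * c' * c * (k' * c')⁻¹ = c' * c * c'⁻¹ := by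
      rw [show k' * c' * c * (k' * c')⁻¹ = k' * (c' * c * c'⁻¹) * k'⁻¹ by group,
        (hkc hk' (mul_mem (mul_mem hc' hc) (inv_mem hc'))).eq, mul_inv_cancel_right]
    rw [show k' * c' * (k * c) * (k' * c')⁻¹ =
        k' * c' * k * (k' * c')⁻¹ * (k' * c' * c * (k' * c')⁻¹) by group, e1, e2]
    exact hWmk (mul_mem (mul_mem hk' hk) (inv_mem hk')) (by simpa [mul_inv_eq_one] using hk1)
      (mul_mem (mul_mem hc' hc) (inv_mem hc')) (by simpa [mul_inv_eq_one] using hc1)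
  have hTI : ∀ h : G, ∀ z ∈ W, h * z * h⁻¹ ∈ W → h ∈ K ⊔ C := by
    intro h z hz hz'
    obtain ⟨k, hk, hk1, c, hc, hc1, rfl⟩ := hWspec hz
    obtain ⟨k', hk', -, c', hc', -, he⟩ := hWspec hz'
    have hko : orderOf (h * k * h⁻¹) = orderOf k := MulEquiv.orderOf_eq (MulAut.conj h) k
    have hco : orderOf (h * c * h⁻¹) = orderOf c := MulEquiv.orderOf_eq (MulAut.conj h) c
    have he' : h * c * h⁻¹ * (h * k * h⁻¹) = c' * k' := by
      rw [← (hkc hk' hc').eq, ← he, show h * c * h⁻¹ * (h * k * h⁻¹) = h * (c * k) * h⁻¹ by group,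
        (hkc hk hc).eq]
    have hcomm : Commute (h * c * h⁻¹) (h * k * h⁻¹) := (hkc hk hc).symm.map (MulAut.conj h)
    have hceq : h * c * h⁻¹ = c' := by
      refine eq_of_parts hcomm (hkc hk' hc').symm he' (Nat.coprime_of_dvd fun p hp h1 h2 => ?_)
      rw [hko] at h1
      rw [hco] at h2
      exact (hp.dvd_mul.mp h1).elim
        (fun h' => hKσ hk p hp h' ((hp.dvd_mul.mp h2).elim (hCσ hc p hp) (hCσ hc' p hp)))
        (fun h' => hKσ hk' p hp h' ((hp.dvd_mul.mp h2).elim (hCσ hc p hp) (hCσ hc' p hp)))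
    have hhM : h ∈ M := mem_of_conj_kstar hG hI hM hK hK1 hc hc1
      (hceq ▸ sigmaCore_le M (Subgroup.mem_inf.mp hc').1)
    have hkeq : h * k * h⁻¹ = k' := mul_left_cancel (hceq ▸ he' : c' * (h * k * h⁻¹) = c' * k')
    by_contra hnot
    have hbot := kappa_inf_conj hG hI hM hK hK1 hhM hnot
    have hin : k' ∈ K ⊓ cj h K := ⟨hk', hkeq ▸ mem_cj_self.mpr hk⟩
    rw [hbot, Subgroup.mem_bot, ← hkeq] at hin
    exact hk1 (by simpa using hin)
  set TW := {a : G | ∃ g : G, ∃ z ∈ W, a = g * z * g⁻¹} with hTW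
  have hcount := card_conjugates_of_invariant hinv hTI
  rw [ncard_sdiff_union hinf, hcard] at hcount
  have hdW : Disjoint (tildeSet M) TW := by
    refine Set.disjoint_left.mpr fun a ha hb => ?_
    obtain ⟨g, z, hz, rfl⟩ := hb
    obtain ⟨k, hk, hk1, c, hc, hc1, rfl⟩ := hWspec hz
    rw [(hkc hk hc).eq] at ha
    exact not_mem_tildeSet hG hI hM hK hK1 hk hk1 hc hc1 g ha
  have hdW' : Disjoint (tildeSet Mstar) TW := by
    refine Set.disjoint_left.mpr fun a ha hb => ?_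
    obtain ⟨g, z, hz, rfl⟩ := hb
    obtain ⟨k, hk, hk1, c, hc, hc1, rfl⟩ := hWspec hz
    exact not_mem_tildeSet hG hI hMstar hKstH hC1 hc hc1 (hKst.le hk) hk1 g ha
  have hd : Disjoint (tildeSet M) (tildeSet Mstar) := tildeSet_disjoint hG hI hM hMstar
    fun p hp => sigma_partner_disjoint hI hM hK hK1 hMstar hKs hp
  have hsum : (tildeSet M).ncard + (tildeSet Mstar).ncard + TW.ncard ≤ Nat.card G := by
    rw [← Set.ncard_union_eq hd, ← Set.ncard_union_eq (Set.disjoint_union_left.mpr ⟨hdW, hdW'⟩)]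
    exact Set.ncard_le_card _
  have hMlow := card_tildeSet_ge hG hI hM
  have hNlow := card_tildeSet_ge hG hI hMstar
  rw [card_eq_of_type_one hG hM hK h₁] at hMlow
  rw [card_eq_of_type_one hG hMstar hKstH h₂] at hNlow
  have h3 : ∀ {L : Subgroup G}, L ≠ ⊥ → 3 ≤ Nat.card L := by
    intro L hL
    obtain ⟨a, ha⟩ : Odd (Nat.card L) := minSimple_odd hG L
    have : Nat.card L ≠ 1 := fun h => hL (Subgroup.card_eq_one.mp h)
    omega
  have hprop : ∀ {L A : Subgroup G}, IsCoatom L → Cfsg.IsPiHallOf (Cfsg.kappa L) A L → A ≠ ⊥ →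
      3 * Nat.card ↥(Cfsg.sigmaCore L ⊓ Subgroup.centralizer (A : Set G)) ≤
        Nat.card ↥(Cfsg.sigmaCore L) := by
    intro L A hL hA hA1
    set D := Cfsg.sigmaCore L ⊓ Subgroup.centralizer (A : Set G) with hD
    obtain ⟨p, hp, hpd⟩ := Nat.exists_prime_and_dvd (n := Nat.card D)
      fun h => kstar_ne_bot hI hL hA hA1 (Subgroup.card_eq_one.mp h)
    have := Fact.mk hp
    obtain ⟨T⟩ : Nonempty (Sylow p ↥(Cfsg.sigmaCore L)) := inferInstance
    have hne := (sylow_kstar hG hI hL hA hA1 hpd (sylowOf_map T)).2.2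
    obtain ⟨j, hj⟩ := Subgroup.card_dvd_of_le (inf_le_left : D ≤ Cfsg.sigmaCore L)
    obtain ⟨i, hi⟩ : Odd (Nat.card ↥(Cfsg.sigmaCore L)) := minSimple_odd hG _
    rw [hj, mul_comm]
    refine Nat.mul_le_mul_left _ ?_
    rcases Nat.lt_or_ge j 3 with hj3 | hj3
    swap
    · exact hj3
    interval_cases j
    · rw [mul_zero] at hj
      exact absurd hj Nat.card_pos.ne'
    · refine absurd ((Subgroup.map_subtype_le (T : Subgroup ↥(Cfsg.sigmaCore L))).trans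
        (Subgroup.eq_of_le_of_card_ge (inf_le_left : D ≤ Cfsg.sigmaCore L) ?_).ge) hne
      rw [hj, mul_one]
    · omega
  refine count_absurd (Nat.card_pos (α := G)) (h3 hK1) (h3 hC1) (hprop hM hK hK1) ?_ hMlow hNlow
    hcount hsum
  have h := hprop hMstar hKstH hC1
  rwa [← hKst] at h

end CfsgLib.OddOrder38
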