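import Mathlib
import Cfsg.Agent.Lib.OddOrder38.Conf1435

/-!
# S1435 (BG 14.8) from the inputs of `Props14`
-/

set_option autoImplicit false

namespace CfsgLib.OddOrder38

open Subgroup CfsgLib.OddOrder CfsgLib.OddOrder.Transitivity CfsgLib.OddOrder41
open scoped commutatorElement

universe u

variable {G : Type u} [Group G] [Finite G] (hG : Cfsg.IsMinSimpleOddOrder G) (hI : Inputs G)
  {M K U Mstar T H : Subgroup G} {a : G} {q t : ℕ} [ht : Fact t.Prime]
  (h : Conf M K U Mstar a q) (o : Over U T H t)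

omit ht in
include hG hI h in
/-- `N_G(K) ≤ M*`. -/
theorem Conf.normalizer_le : Subgroup.normalizer (K : Set G) ≤ Mstar := fun g hg =>
  mem_of_conj_kstar hG hI h.coatomStar h.hallStar (h.kstar_ne hI) h.mem_star h.ne_one
    (sigmaCore_le Mstar (Subgroup.mem_inf.mp
      (h.star.le ((Subgroup.mem_normalizer_iff.mp hg a).mp h.mem_K))).1)

omit ht in
include hG hI h in
/-- `N_{M*}(K) ≤ C(K)`. -/
theorem Conf.commute_of_normalizes {d : G} (hd : d ∈ Subgroup.normalizer (K : Set G)) :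
    d * a = a * d := by
  set C := Cfsg.sigmaCore M ⊓ Subgroup.centralizer (K : Set G) with hC
  have hdM : d ∈ Mstar := h.normalizer_le hG hI hd
  set D := Mstar ⊓ Subgroup.centralizer (K : Set G) with hD
  have hCD : C ≤ D := le_inf h.hallStar.1 inf_le_right
  have := minSimple_solvable hG h.coatomStar.1
  have hDs : Group.IsSolvable D :=
    solvable_of_solvable_injective (Subgroup.inclusion_injective (inf_le_left : D ≤ Mstar))
  have hdC : cj d C ≤ D := le_inf ((cj_mono h.hallStar.1).trans (cj_eq_of_mem hdM).le)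
    ((cj_mono inf_le_right).trans (le_of_eq (by
      rw [OddOrder41.cj_centralizer, cj_eq_of_mem_normalizer hd])))
  obtain ⟨e, he, hle⟩ := OddOrder41.exists_conj_into (π := Cfsg.kappa Mstar) hCD
    (fun r hr hrκ hrd => h.hallStar.2.2 r hr hrκ (by
      rw [← Subgroup.relIndex_mul_relIndex C D Mstar hCD inf_le_left]
      exact hrd.mul_right _)) hdC (fun r hr hrd => by
      rw [card_cj] at hrd
      exact h.hallStar.2.1 r hr hrd)
  rw [cj_mul] at hle
  have hn : e * d ∈ Mstar ⊓ Subgroup.normalizer (C : Set G) :=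
    ⟨mul_mem he.1 hdM, mem_normalizer_of_cj_eq (Subgroup.eq_of_le_of_card_ge hle (by rw [card_cj]))⟩
  obtain ⟨p, hp, hpd⟩ := Nat.exists_prime_and_dvd (n := Nat.card C)
    fun e => h.kstar_ne hI (Subgroup.card_eq_one.mp e)
  have := Fact.mk hp
  obtain ⟨y, hy⟩ := exists_prime_orderOf_dvd_card' (G := C) p hpd
  obtain ⟨-, hNC, -⟩ := (hI.kappaHall Mstar h.coatomStar C h.hallStar (h.kstar_ne hI)).2.2
    (Subgroup.zpowers (y : G)) (Subgroup.zpowers_le.mpr y.2)
    (by rw [Nat.card_zpowers, Subgroup.orderOf_coe, hy]; exact hp)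
  rw [hNC, ← h.star] at hn
  have hle' : C ⊔ K ≤ Subgroup.centralizer ({a} : Set G) := by
    refine sup_le (fun c hc => ?_) (h.gen.le.trans (Subgroup.zpowers_le.mpr (self_mem_centralizer a)))
    exact Subgroup.mem_centralizer_singleton_iff.mpr
      (Subgroup.mem_centralizer_iff.mp (Subgroup.mem_inf.mp hc).2 a h.mem_K).symm
  have he' : e ∈ Subgroup.centralizer ({a} : Set G) := Subgroup.mem_centralizer_singleton_iff.mpr
    (Subgroup.mem_centralizer_iff.mp (Subgroup.mem_inf.mp he).2 a h.mem_K).symm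
  have hd' : d ∈ Subgroup.centralizer ({a} : Set G) := by
    simpa using mul_mem (inv_mem he') (hle' hn)
  exact Subgroup.mem_centralizer_singleton_iff.mp hd'

include hG hI h o in
theorem Over.q_not_sigma : q ∉ Cfsg.sigma H := o.disjoint_star hG hI h h.q_mem_sigma

include hG hI h o in
/-- `q ∉ κ(H)`. -/
theorem Over.q_not_kappa : q ∉ Cfsg.kappa H := fun hq => by
  obtain ⟨K', hK', haK'⟩ := exists_hall_kappa_ge hG hI o.coatom
    (Subgroup.zpowers_le.mpr (o.a_mem h)) fun p hp hd => by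
      rw [Nat.card_zpowers, h.order] at hd
      rwa [(Nat.prime_dvd_prime_iff_eq hp h.prime).mp hd]
  have haK : a ∈ K' := haK' (Subgroup.mem_zpowers a)
  obtain ⟨z, hz, hz1⟩ := (Subgroup.bot_or_exists_ne_one _).resolve_left
    (kstar_ne_bot hI o.coatom hK' fun e => h.ne_one (Subgroup.mem_bot.mp (e ▸ haK)))
  exact hz1 (o.fixed_eq_one hG hI h (Subgroup.mem_inf.mp hz).1
    (Subgroup.mem_centralizer_iff.mp (Subgroup.mem_inf.mp hz).2 a haK))

include hG hI h o in
/-- `U ≤ H_σ`. -/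
theorem Over.U_le_sigma : U ≤ Cfsg.sigmaCore H := by
  have key : ∀ (s : ℕ) [Fact s.Prime] (S : Sylow s U), s ∣ Nat.card U →
      (S : Subgroup U).map U.subtype ≤ Cfsg.sigmaCore H := by
    intro s hs S hsU
    set X := (S : Subgroup U).map U.subtype with hX
    have hXU : SylowOf s X U := sylowOf_map S
    have hXH : X ≤ H := hXU.1.trans (o.U_le h)
    obtain ⟨n, hn⟩ := hXU.2.1.exists_card_eq
    by_cases hsσ : s ∈ Cfsg.sigma H
    · exact le_sigmaCore hG o.coatom hXH fun p hp hd => by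
        rw [hn] at hd
        rwa [(Nat.prime_dvd_prime_iff_eq hp hs.out).mp (hp.dvd_of_dvd_pow hd)]
    exfalso
    have haX : a ∈ Subgroup.normalizer (X : Set G) :=
      mem_normalizer_sylow_of_comm hXU h.commU (h.normU h.mem_K)
    have hfree : ∀ x ∈ X, a * x = x * a → x = 1 := fun x hx => h.fpf x (hXU.1 hx)
    have hle := o.centralizes hG hI h hXH hXU.2.1 hsσ haX hfree
    have hsol : Group.IsSolvable X := by
      have := hXU.2.1.isNilpotent
      infer_instance
    have hsq : s ≠ q := fun e => (h.hallU.2.1 s hs.out hsU).2.1 (e ▸ h.q_mem_kappa)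
    have hTa : X ≤ ⁅X, Subgroup.zpowers a⁆ := by
      have h1 := CfsgLib.Coprime.commutator_sup_centralizer (Subgroup.zpowers a) X
        (Subgroup.zpowers_le.mpr haX) (by
          rw [Nat.card_zpowers, h.order, hn]
          exact ((Nat.coprime_primes h.prime hs.out).mpr (Ne.symm hsq)).pow_right n) (Or.inr hsol)
      have hbot : X ⊓ Subgroup.centralizer ((Subgroup.zpowers a : Subgroup G) : Set G) = ⊥ :=
        (Subgroup.eq_bot_iff_forall _).mpr fun x hx => hfree x hx.1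
          (Subgroup.mem_centralizer_iff.mp hx.2 a (Subgroup.mem_zpowers a))
      rw [hbot, sup_bot_eq] at h1
      exact h1.ge
    have hXY := le_fitting_core_of_commutator hG o.coatom hXH hXU.2.1 hsσ
      (Subgroup.le_centralizer_iff.mp hle) (o.a_mem h) hTa
    have hHN : H ≤ Subgroup.normalizer (X : Set G) := fun g hg => mem_normalizer_of_cj_eq
      (eq_of_card_eq_cyclic (Sigma15.fitting_structure hG o.coatom).1
        ((cj_mono hXY).trans (cj_eq_of_mem_normalizer (le_normalizer_fitting_core H hg)).le) hXY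
        (card_cj _ _))
    have hX1 : X ≠ ⊥ := fun e => S.ne_bot_of_dvd_card hsU
      ((Subgroup.map_eq_bot_iff_of_injective _ U.subtype_injective).mp e)
    have hNH : Subgroup.normalizer (X : Set G) ≤ H := by
      rcases eq_or_lt_of_le hHN with e | e
      · exact e.ge
      · exact absurd (o.coatom.2 _ e) (minSimple_normalizer_ne_top hG hX1
          (minSimple_pgroup_ne_top hG hXU.2.1))
    exact hsσ (Over.mem_sigma hG hI h (⟨hXU, hsU, o.coatom, hNH⟩ : Over U X H s))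
  have hle : Cfsg.sigmaCore H ⊓ U = U := by
    refine Subgroup.eq_of_le_of_card_ge inf_le_right (Nat.le_of_dvd Nat.card_pos ?_)
    refine (Nat.factorization_le_iff_dvd Nat.card_pos.ne' Nat.card_pos.ne').mp ?_
    intro s
    by_cases hs : s.Prime
    swap
    · simp [Nat.factorization_eq_zero_of_not_prime _ hs]
    by_cases hsU : s ∣ Nat.card U
    swap
    · simp [Nat.factorization_eq_zero_of_not_dvd hsU]
    have := Fact.mk hs
    obtain ⟨S⟩ : Nonempty (Sylow s U) := inferInstance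
    have hd := Subgroup.card_dvd_of_le (le_inf (key s S hsU) (Subgroup.map_subtype_le _))
    rw [Subgroup.card_map_of_injective U.subtype_injective, S.card_eq_multiplicity] at hd
    exact (hs.pow_dvd_iff_le_factorization Nat.card_pos.ne').mp hd
  exact hle ▸ inf_le_left

include hG hI h o in
/-- `M_σ ∩ H = 1`. -/
theorem Over.sigma_inf_H : Cfsg.sigmaCore M ⊓ H = ⊥ := by
  set W := Cfsg.sigmaCore M ⊓ H with hW
  refine (Subgroup.eq_bot_iff_forall _).mpr fun w hw => ?_
  by_contra hw1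
  have hwM := Subgroup.mem_inf.mp hw
  obtain ⟨u, hu, hu1⟩ := (Subgroup.bot_or_exists_ne_one U).resolve_left fun e => o.T_ne
    (le_bot_iff.mp (e ▸ o.sylow.1))
  have huS := o.U_le_sigma hG hI h hu
  have hwσ : ∀ p : ℕ, p.Prime → p ∣ orderOf w → p ∉ Cfsg.sigma H :=
    fun p hp hd => o.disjoint_M hG hI h (mem_sigma_of_mem_sigmaCore hwM.1 hp hd)
  have hcomm : ⁅u, w⁆ = 1 := by
    by_contra h3
    obtain ⟨p, hp, hd⟩ := Nat.exists_prime_and_dvd (n := orderOf ⁅u, w⁆)
      fun e => h3 (orderOf_eq_one_iff.mp e)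
    refine o.disjoint_M hG hI h (mem_sigma_of_mem_sigmaCore ?_ hp hd) (mem_sigma_of_mem_sigmaCore ?_ hp hd)
    · rw [commutatorElement_def]
      exact mul_mem ((Subgroup.mem_normalizer_iff.mp
        (piCoreOf_normal (Cfsg.sigma M) M (h.hallU.1 hu)) w).mp hwM.1) (inv_mem hwM.1)
    · rw [commutatorElement_def, show u * w * u⁻¹ * w⁻¹ = u * (w * u⁻¹ * w⁻¹) by group]
      exact mul_mem huS ((Subgroup.mem_normalizer_iff.mp
        (piCoreOf_normal (Cfsg.sigma H) H hwM.2) u⁻¹).mp (inv_mem huS))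
  have huw : u * w = w * u := commutatorElement_eq_one_iff_mul_comm.mp hcomm
  have hHM : H ≠ M := fun e => o.not_conj hG hI h 1 (by rw [cj_one, e])
  rcases sigma_element_centralizer_dichotomy hG hI H o.coatom u huS hu1 w
      ⟨hwM.2, Subgroup.mem_centralizer_singleton_iff.mpr huw.symm⟩ hw1 hwσ with
    ⟨hκ, -⟩ | ⟨-, -, hwH, huniq⟩
  swap
  · obtain ⟨L, hL, honly, -, -, hc, -⟩ := centralizer_partner hG hI h.coatom hwM.1 hw1
      fun hle => hHM (huniq M h.coatom hle).symm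
    obtain rfl : L = H := huniq L hL honly.1
    have h1 : u ∈ (M ⊓ L) ⊓ Cfsg.sigmaCore L := ⟨⟨h.hallU.1 hu, o.U_le h hu⟩, huS⟩
    rw [hc.2.2.1, Subgroup.mem_bot] at h1
    exact hu1 h1
  obtain ⟨s, hs, hsd⟩ := Nat.exists_prime_and_dvd (n := orderOf w) fun e => hw1 (orderOf_eq_one_iff.mp e)
  have := Fact.mk hs
  have hsκ : s ∈ Cfsg.kappa H := hκ s hs hsd
  have haW : a ∈ Subgroup.normalizer (W : Set G) := mem_normalizer_inf
    (piCoreOf_normal (Cfsg.sigma M) M h.mem_M) (Subgroup.le_normalizer (o.a_mem h))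
  have hsW : s ∣ Nat.card W := hsd.trans (Subgroup.orderOf_dvd_natCard _ hw)
  have := minSimple_solvable hG h.coatom.1
  have hWs : Group.IsSolvable W :=
    solvable_of_solvable_injective (Subgroup.inclusion_injective (inf_le_left.trans (sigmaCore_le M) : W ≤ M))
  obtain ⟨P, hP⟩ := CfsgLib.Coprime.exists_invariant_sylow (Subgroup.zpowers a) W
    (Subgroup.zpowers_le.mpr haW) (Nat.coprime_of_dvd fun p hp h1 h2 => by
      rw [Nat.card_zpowers, h.order, Nat.prime_dvd_prime_iff_eq hp h.prime] at h1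
      exact h.q_mem_kappa.2.2.1 (h1 ▸ piNat_card_piCoreOf (Cfsg.sigma M) M p hp
        (h2.trans (Subgroup.card_dvd_of_le inf_le_left)))) (Or.inr hWs) s
  set P' := (P : Subgroup W).map W.subtype with hP'
  obtain ⟨R, hR, hPR⟩ := exists_sylowOf_ge ((Subgroup.map_subtype_le _).trans inf_le_right : P' ≤ H)
    (P.isPGroup'.map _)
  obtain ⟨S, hS⟩ := hR.toSylow
  have := (hsκ.2.2.2 S).1
  have hRc : IsCyclic R := by
    rw [← hS]
    exact isCyclic_of_surjective ((S : Subgroup H).equivMapOfInjective H.subtype H.subtype_injective).toMonoidHom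
      (MulEquiv.surjective _)
  obtain ⟨y₀, hy₀⟩ := exists_prime_orderOf_dvd_card' (G := P') s (by
    rw [hP', Subgroup.card_map_of_injective W.subtype_injective]
    exact P.dvd_card_of_dvd_card hsW)
  have hXc : Nat.card (Subgroup.zpowers (y₀ : G)) = s := by
    rw [Nat.card_zpowers, Subgroup.orderOf_coe, hy₀]
  have hXP : Subgroup.zpowers (y₀ : G) ≤ P' := Subgroup.zpowers_le.mpr y₀.2
  have hXH : Subgroup.zpowers (y₀ : G) ≤ H := hXP.trans ((Subgroup.map_subtype_le _).trans inf_le_right)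
  obtain ⟨K', hK', hXK⟩ := exists_hall_kappa_ge hG hI o.coatom hXH fun p hp hd => by
    rw [hXc] at hd
    rwa [(Nat.prime_dvd_prime_iff_eq hp hs).mp hd]
  obtain ⟨hN, -, -⟩ := (hI.kappaHall H o.coatom K' hK' fun e => hs.ne_one (by
    rw [e] at hXK
    rw [← hXc, le_bot_iff.mp hXK, Subgroup.card_bot])).2.2 _ hXK (hXc.symm ▸ hs)
  have hain : a ∈ H ⊓ Subgroup.normalizer ((Subgroup.zpowers (y₀ : G) : Subgroup G) : Set G) :=
    ⟨o.a_mem h, mem_normalizer_of_cj_eq (eq_of_card_eq_cyclic hRc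
      (((cj_mono hXP).trans (cj_eq_of_mem_normalizer (hP (Subgroup.mem_zpowers a))).le).trans hPR)
      (hXP.trans hPR) (card_cj _ _))⟩
  rw [hN] at hain
  rcases piNat_sup_kstar hK' q h.prime (h.order ▸ Subgroup.orderOf_dvd_natCard _ hain) with h1 | h1
  · exact o.q_not_kappa hG hI h h1
  · exact o.q_not_sigma hG hI h h1

include hG hI h o in
/-- `H_σ ∩ M* = 1`. -/
theorem Over.sigma_inf_star : Cfsg.sigmaCore H ⊓ Mstar = ⊥ := by
  refine (Subgroup.eq_bot_iff_forall _).mpr fun w hw => o.fixed_eq_one hG hI h hw.1 ?_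
  refine commutatorElement_eq_one_iff_mul_comm.mp ?_
  by_contra h3
  obtain ⟨p, hp, hd⟩ := Nat.exists_prime_and_dvd (n := orderOf ⁅a, w⁆)
    fun e => h3 (orderOf_eq_one_iff.mp e)
  have haS := (Subgroup.mem_inf.mp h.mem_star).1
  refine o.disjoint_star hG hI h (mem_sigma_of_mem_sigmaCore ?_ hp hd) (mem_sigma_of_mem_sigmaCore ?_ hp hd)
  · rw [commutatorElement_def, show a * w * a⁻¹ * w⁻¹ = a * (w * a⁻¹ * w⁻¹) by group]
    exact mul_mem haS ((Subgroup.mem_normalizer_iff.mp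
      (piCoreOf_normal (Cfsg.sigma Mstar) Mstar hw.2) a⁻¹).mp (inv_mem haS))
  · rw [commutatorElement_def]
    exact mul_mem ((Subgroup.mem_normalizer_iff.mp
      (piCoreOf_normal (Cfsg.sigma H) H (o.a_mem h)) w).mp hw.1) (inv_mem hw.1)

include hG hI h o in
/-- A prime power normal subgroup of a complement of `H_σ` is centralized by `a`. -/
theorem Over.opCore_le_centralizer {E : Subgroup G} (hE : Cfsg.IsComplIn E (Cfsg.sigmaCore H) H)
    (haE : a ∈ E) {p : ℕ} (hp : p.Prime) :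
    opCore p E ≤ Subgroup.centralizer ({a} : Set G) := by
  have := Fact.mk hp
  set O := opCore p E with hO
  have hOE : O ≤ E := opCore_le p E
  have hOp : IsPGroup p O := opCore_isPGroup p E
  have haO : a ∈ Subgroup.normalizer (O : Set G) := opCore_normal p E haE
  obtain ⟨n, hn⟩ := hOp.exists_card_eq
  have hEσ : ∀ r : ℕ, r.Prime → r ∣ Nat.card E → r ∉ Cfsg.sigma H :=
    fun r hr hd => not_mem_sigma_of_compl hG o.coatom hE hr hd
  have habel : ∀ N : Subgroup G, N ≤ E → Group.IsNilpotent N → IsMulCommutative N := fun N hN hnil =>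
    (hI.nilpotent H o.coatom E hE).1 N (hN.trans hE.1) hnil
      fun r hr hd => hEσ r hr (hd.trans (Subgroup.card_dvd_of_le hN))
  by_cases hpq : p = q
  · intro x hx
    have hA : IsPGroup p ↥(Subgroup.zpowers a ⊔ O) := by
      refine (IsPGroup.of_card (n := 1) ?_).to_sup_of_normal_right' hOp (Subgroup.zpowers_le.mpr haO)
      rw [Nat.card_zpowers, h.order, pow_one, hpq]
    exact Subgroup.mem_centralizer_singleton_iff.mpr (mul_comm_of_mem
      (habel _ (sup_le (Subgroup.zpowers_le.mpr haE) hOE) hA.isNilpotent)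
      (Subgroup.mem_sup_right hx) (Subgroup.mem_sup_left (Subgroup.mem_zpowers a)))
  have hOc : IsMulCommutative O := habel O hOE hOp.isNilpotent
  have haO' : Subgroup.zpowers a ≤ Subgroup.normalizer (O : Set G) := Subgroup.zpowers_le.mpr haO
  have hcop : (Nat.card (Subgroup.zpowers a)).Coprime (Nat.card O) := by
    rw [Nat.card_zpowers, h.order, hn]
    exact ((Nat.coprime_primes h.prime hp).mpr (Ne.symm hpq)).pow_right n
  set Y := ⁅O, Subgroup.zpowers a⁆ with hY
  by_cases hY1 : Y = ⊥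
  · rw [← OddOrder41.centralizer_zpowers]
    exact Subgroup.commutator_eq_bot_iff_le_centralizer.mp hY1
  exfalso
  have hYO : Y ≤ O := commutator_le_of_normalizes haO'
  have hYC : Y ⊓ Subgroup.centralizer ((Subgroup.zpowers a : Subgroup G) : Set G) = ⊥ :=
    CfsgLib.Coprime.commutator_inf_centralizer_eq_bot (Subgroup.zpowers a) O haO' hcop
  have hYp : IsPGroup p Y := hOp.to_le hYO
  have hYn : Subgroup.zpowers a ≤ Subgroup.normalizer (Y : Set G) :=
    InvariantCore.le_normalizer_commutator haO' Subgroup.le_normalizer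
  have hYfree : ∀ y ∈ Y, a * y = y * a → y = 1 := fun y hy hay => by
    refine Subgroup.mem_bot.mp (hYC ▸ (⟨hy, ?_⟩ :
      y ∈ Y ⊓ Subgroup.centralizer ((Subgroup.zpowers a : Subgroup G) : Set G)))
    rw [OddOrder41.centralizer_zpowers]
    exact Subgroup.mem_centralizer_singleton_iff.mpr hay.symm
  have hYH : Y ≤ H := (hYO.trans hOE).trans hE.1
  have hpσ : p ∉ Cfsg.sigma H := by
    refine hEσ p hp ?_
    obtain ⟨m, hm⟩ := hYp.exists_card_eq
    exact ((dvd_pow_self p fun e => hY1 (Subgroup.card_eq_one.mp (by rw [hm, e, pow_zero]))).trans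
      (dvd_of_eq hm.symm)).trans (Subgroup.card_dvd_of_le (hYO.trans hOE))
  have hle := o.centralizes hG hI h hYH hYp hpσ (hYn (Subgroup.mem_zpowers a)) hYfree
  have hYY : Y ≤ ⁅Y, Subgroup.zpowers a⁆ := by
    have hsol : Group.IsSolvable Y := by
      have := hYp.isNilpotent
      infer_instance
    have h1 := CfsgLib.Coprime.commutator_sup_centralizer (Subgroup.zpowers a) Y hYn
      (hcop.coprime_dvd_right (Subgroup.card_dvd_of_le hYO)) (Or.inr hsol)
    rw [hYC, sup_bot_eq] at h1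
    exact h1.ge
  have hYY₀ := le_fitting_core_of_commutator hG o.coatom hYH hYp hpσ
    (Subgroup.le_centralizer_iff.mp hle) (o.a_mem h) hYY
  obtain ⟨y', hy'⟩ := exists_prime_orderOf_dvd_card' (G := Y) p (by
    obtain ⟨m, hm⟩ := hYp.exists_card_eq
    rw [hm]
    exact dvd_pow_self p fun e => hY1 (Subgroup.card_eq_one.mp (by rw [hm, e, pow_zero])))
  set y : G := (y' : G) with hy
  have hyo : orderOf y = p := by rw [hy, Subgroup.orderOf_coe, hy']
  have hyY : y ∈ Y := y'.2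
  have hy1 : y ≠ 1 := fun e => hp.ne_one (by rw [← hyo, e, orderOf_one])
  obtain ⟨hcyc, hτ, -⟩ := Sigma15.fitting_structure hG o.coatom
  have hpτ : p ∈ Cfsg.tau2 H := hτ p hp
    (hyo ▸ Subgroup.orderOf_dvd_natCard _ (hYY₀ hyY))
  have hHy : ∀ g ∈ H, g ∈ Subgroup.normalizer ((Subgroup.zpowers y : Subgroup G) : Set G) := fun g hg =>
    mem_normalizer_of_cj_eq (eq_of_card_eq_cyclic hcyc
      ((cj_mono (Subgroup.zpowers_le.mpr (hYY₀ hyY))).trans
        (cj_eq_of_mem_normalizer (le_normalizer_fitting_core H hg)).le)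
      (Subgroup.zpowers_le.mpr (hYY₀ hyY)) (card_cj _ _))
  -- the plane through `y`
  obtain ⟨A, hAE, hAe, hA2⟩ := exists_plane_compl hG o.coatom hE hpτ
  obtain ⟨⟨hAn, hAall⟩, -, -⟩ := hI.tauTwoCompl H o.coatom E hE p hpτ A ⟨hAE, hAe, hA2⟩
  obtain ⟨-, -, -, hCA, -, -⟩ := hI.tauTwo H o.coatom p hpτ A ⟨hAE.trans hE.1, hAe, hA2⟩
  have hyA : y ∈ A := hAall _ (Subgroup.zpowers_le.mpr (hOE (hYO hyY)))
    (by rw [Nat.card_zpowers, hyo]) (Subgroup.mem_zpowers y)
  obtain ⟨z, hzA, hz1, haz⟩ : ∃ z ∈ A, z ≠ 1 ∧ a * z = z * a := by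
    by_contra hcon
    push_neg at hcon
    refine Sigma15.sigmaCore_ne_bot hG o.coatom (le_bot_iff.mp (hCA ▸ le_inf le_rfl
      (o.centralizes hG hI h (hAE.trans hE.1) (isPGroup_of_elemAb hAe) hpσ (hAn haE)
        fun x hx hax => by_contra fun hx1 => hcon x hx hx1 hax)))
  have hzo : orderOf z = p := orderOf_eq_prime (hAe.2 z hzA) hz1
  have hzC : z ∈ Subgroup.centralizer ({a} : Set G) :=
    Subgroup.mem_centralizer_singleton_iff.mpr haz.symm
  have hzS : z ∈ Mstar := h.centralizer_le hG hI hzC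
  have hyz : y ∈ Subgroup.centralizer ({z} : Set G) :=
    Subgroup.mem_centralizer_singleton_iff.mpr (mul_comm_of_mem hAe.1 hyA hzA)
  have hB : HasMaxPlane G p := hasMaxPlane_of_tau2 hG o.coatom hpτ
  have hβ : p ∉ Cfsg.beta Mstar := fun hb =>
    Sigma10.not_idealPrime hG o.coatom hpτ.2.1 hpτ.2.2.2 hb.2
  have haS := (Subgroup.mem_inf.mp h.mem_star).1
  -- it is enough that `a` commutes with `y`
  suffices hay : a * y = y * a from hy1 (hYfree y hyY hay)
  by_cases hyM : y ∈ Mstar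
  · exact commute_of_not_beta hG h.coatomStar hp h.prime hpq hβ (Subgroup.zpowers_le.mpr hyM)
      (hYp.to_le (Subgroup.zpowers_le.mpr hyY)) haS h.order (hHy a (o.a_mem h)) (Subgroup.mem_zpowers y)
  by_cases hpS : p ∈ Cfsg.sigma Mstar
  swap
  · rcases sigma_element_centralizer_dichotomy hG hI Mstar h.coatomStar a haS h.ne_one z ⟨hzS, hzC⟩ hz1
        (fun r hr hd => by
          rw [hzo] at hd
          rwa [(Nat.prime_dvd_prime_iff_eq hr hp).mp hd]) with ⟨hκ, -⟩ | ⟨-, -, hzM, -⟩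
    · exact absurd (h.no_plane hG hI (h.kappa_star_subset (hκ p hp (hzo ▸ dvd_rfl))) hB) id
    · exact absurd (hzM hyz) hyM
  have hzσ : z ∈ Cfsg.sigmaCore Mstar := le_sigmaCore hG h.coatomStar (Subgroup.zpowers_le.mpr hzS)
    (fun r hr hd => by
      rw [Nat.card_zpowers, hzo] at hd
      rwa [(Nat.prime_dvd_prime_iff_eq hr hp).mp hd]) (Subgroup.mem_zpowers z)
  obtain ⟨L, hL, honly, -, -, hc, hτL⟩ := centralizer_partner hG hI h.coatomStar hzσ hz1
    fun hle => hyM (hle hyz)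
  have hpL : p ∈ Cfsg.tau2 L := hτL p hp (hzo ▸ dvd_rfl)
  have haL : a ∈ L := honly.1 (Subgroup.mem_centralizer_singleton_iff.mpr haz)
  have := minSimple_solvable hG hL.1
  obtain ⟨g, hg, hgle⟩ := OddOrder41.exists_conj_into (π := (Cfsg.sigma L)ᶜ) hc.1
    (fun r hr hrσ hd => by
      rw [IsComplIn.relIndex_left hc] at hd
      exact hrσ (piNat_card_piCoreOf (Cfsg.sigma L) L r hr hd))
    (Subgroup.zpowers_le.mpr (honly.1 hyz)) (fun r hr hd => by
      rw [Nat.card_zpowers, hyo] at hd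
      rw [(Nat.prime_dvd_prime_iff_eq hr hp).mp hd]
      exact hpL.2.1)
  obtain ⟨e₁, he₁, b, hb, rfl⟩ := hc.2.2.2 g hg
  rw [← cj_mul, cj_le_iff, cj_eq_of_mem (inv_mem he₁)] at hgle
  set e := b * y * b⁻¹ with he
  have heM : e ∈ Mstar ⊓ L := hgle (mem_cj_self.mpr (Subgroup.mem_zpowers y))
  have heo : orderOf e = p := (MulEquiv.orderOf_eq (MulAut.conj b) y).trans hyo
  obtain ⟨A', hA', hA'e, hA'2⟩ := exists_plane_compl hG hL hc hpL
  obtain ⟨⟨hA'n, hA'all⟩, -, -⟩ := hI.tauTwoCompl L hL (Mstar ⊓ L) hc p hpL A' ⟨hA', hA'e, hA'2⟩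
  have hae : a * e = e * a := commute_of_not_beta hG h.coatomStar hp h.prime hpq hβ
    (hA'.trans inf_le_left) (isPGroup_of_elemAb hA'e) haS h.order
    (hA'n ⟨sigmaCore_le Mstar haS, haL⟩)
    (hA'all _ (Subgroup.zpowers_le.mpr heM) (by rw [Nat.card_zpowers, heo]) (Subgroup.mem_zpowers e))
  have hbn := Subgroup.mem_normalizer_iff.mp (piCoreOf_normal (Cfsg.sigma L) L haL) b
  have hmem : ⁅a, y⁆ ∈ Cfsg.sigmaCore L := by
    have h1 : (a * b⁻¹ * a⁻¹) * (e * ((a * b * a⁻¹) * b⁻¹) * e⁻¹) * b ∈ Cfsg.sigmaCore L := by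
      have hc1 : a * b * a⁻¹ ∈ Cfsg.sigmaCore L := hbn.mp hb
      refine mul_mem (mul_mem ?_ ?_) hb
      · simpa [mul_assoc] using inv_mem hc1
      · exact (Subgroup.mem_normalizer_iff.mp (piCoreOf_normal (Cfsg.sigma L) L heM.2) _).mp
          (mul_mem hc1 (inv_mem hb))
    have h2 : ⁅a, y⁆ = (a * b⁻¹ * a⁻¹) * (e * ((a * b * a⁻¹) * b⁻¹) * e⁻¹) * b := by
      have h3 : a * e * a⁻¹ = e := by rw [hae, mul_inv_cancel_right]
      calc ⁅a, y⁆ = (a * b⁻¹ * a⁻¹) * (a * e * a⁻¹) * (a * b * a⁻¹) * (b⁻¹ * e⁻¹ * b) := by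
            rw [commutatorElement_def, he]
            group
        _ = (a * b⁻¹ * a⁻¹) * e * (a * b * a⁻¹) * (b⁻¹ * e⁻¹ * b) := by rw [h3]
        _ = _ := by group
    rwa [h2]
  refine commutatorElement_eq_one_iff_mul_comm.mp ?_
  by_contra h3
  obtain ⟨r, hr, hd⟩ := Nat.exists_prime_and_dvd (n := orderOf ⁅a, y⁆)
    fun e => h3 (orderOf_eq_one_iff.mp e)
  have hcy : ⁅a, y⁆ ∈ Subgroup.zpowers y := by
    rw [commutatorElement_def]
    exact mul_mem ((Subgroup.mem_normalizer_iff.mp (hHy a (o.a_mem h)) y).mp (Subgroup.mem_zpowers y))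
      (inv_mem (Subgroup.mem_zpowers y))
  have hrp := hd.trans (Subgroup.orderOf_dvd_natCard _ hcy)
  rw [Nat.card_zpowers, hyo, Nat.prime_dvd_prime_iff_eq hr hp] at hrp
  exact hpL.2.1 (hrp ▸ mem_sigma_of_mem_sigmaCore hmem hr hd)

include hG hI h o in
/-- The complement of `H_σ` through `a` lies in `M*`. -/
theorem Over.compl_star : ∃ E : Subgroup G, Cfsg.IsComplIn E (Cfsg.sigmaCore H) H ∧ E ≤ Mstar ∧
    K ≤ Cfsg.fittingOf E ∧ (q ∈ Cfsg.tau2 H ∨ E ≤ Subgroup.normalizer (K : Set G)) := by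
  have := Fact.mk h.prime
  have hqσ := o.q_not_sigma hG hI h
  obtain ⟨E, hE, haE'⟩ := exists_compl_ge hG o.coatom (Subgroup.zpowers_le.mpr (o.a_mem h))
    fun r hr hd => by
      rw [Nat.card_zpowers, h.order, Nat.prime_dvd_prime_iff_eq hr h.prime] at hd
      rwa [hd]
  have haE : a ∈ E := haE' (Subgroup.mem_zpowers a)
  rcases tau2_or_rank_one hG o.coatom h.prime hqσ with hqτ | hq1
  · obtain ⟨B, hBE, hBe, hB2⟩ := exists_plane_compl hG o.coatom hE hqτ
    obtain ⟨⟨hBn, hBall⟩, -, -⟩ := hI.tauTwoCompl H o.coatom E hE q hqτ B ⟨hBE, hBe, hB2⟩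
    have haB : a ∈ B := hBall _ (Subgroup.zpowers_le.mpr haE)
      (by rw [Nat.card_zpowers, h.order]) (Subgroup.mem_zpowers a)
    have hBM : B ≤ Mstar := fun x hx => h.centralizer_le hG hI
      (Subgroup.mem_centralizer_singleton_iff.mpr (mul_comm_of_mem hBe.1 hx haB))
    obtain ⟨E', hE'⟩ := exists_compl hG h.coatomStar
    have hNB := (hI.nilpotent Mstar h.coatomStar E' hE').2.2.1 q B h.q_mem_sigma
      (isPGroup_of_elemAb hBe) hBM (Sigma11.not_isCyclic_plane hBe hB2)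
    refine ⟨E, hE, hBn.trans hNB, ?_, Or.inl hqτ⟩
    rw [h.gen]
    exact (Subgroup.zpowers_le.mpr haB).trans (le_fittingOf hBE hBn (isPGroup_of_elemAb hBe).isNilpotent)
  set F := Cfsg.fittingOf E with hF
  have := minSimple_solvable hG o.coatom.1
  have hEs : Group.IsSolvable E := solvable_of_solvable_injective (Subgroup.inclusion_injective hE.1)
  have hFc : IsMulCommutative F := (hI.nilpotent H o.coatom E hE).1 F ((fittingOf_le E).trans hE.1)
    (fittingOf_isNilpotent E)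
    fun r hr hd => not_mem_sigma_of_compl hG o.coatom hE hr (hd.trans (Subgroup.card_dvd_of_le (fittingOf_le E)))
  have haF : a ∈ F := centralizer_fittingOf_le hEs ⟨haE, Subgroup.mem_centralizer_iff.mpr fun x hx =>
    Subgroup.mem_centralizer_singleton_iff.mp
      (fittingOf_le_of_forall (fun r hr => o.opCore_le_centralizer hG hI h hE haE hr) hx)⟩
  have hEN : E ≤ Subgroup.normalizer (K : Set G) := fun e he => by
    refine mem_normalizer_of_cj_eq ?_
    have h1 : e * a * e⁻¹ ∈ Subgroup.zpowers a := zpowers_eq_of_rank_one hq1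
      ((fittingOf_le E).trans hE.1) hFc haF
      ((Subgroup.mem_normalizer_iff.mp (fittingOf_normal E he) a).mp haF) h.order
      ((MulEquiv.orderOf_eq (MulAut.conj e) a).trans h.order)
    rw [h.gen, OddOrder41.cj_zpowers]
    refine Subgroup.eq_of_le_of_card_ge (Subgroup.zpowers_le.mpr h1) (le_of_eq ?_)
    rw [Nat.card_zpowers, Nat.card_zpowers, h.order]
    exact ((MulEquiv.orderOf_eq (MulAut.conj e) a).trans h.order).symm
  exact ⟨E, hE, hEN.trans (h.normalizer_le hG hI), h.gen.le.trans (Subgroup.zpowers_le.mpr haF), Or.inr hEN⟩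

include hG hI h o in
/-- A `κ(H)`-element is not in `L_σ` unless `C_G` of it lies in `L`. -/
theorem Over.false_of_sigma {L : Subgroup G} (hL : IsCoatom L) {p : ℕ} (hpκ : p ∈ Cfsg.kappa H)
    {b : G} (hbH : b ∈ H) (hbo : orderOf b = p) (hbL : b ∈ Cfsg.sigmaCore L)
    (hbC : ¬ Subgroup.centralizer ({b} : Set G) ≤ L) : False := by
  have := Fact.mk hpκ.1
  have hb1 : b ≠ 1 := fun e => hpκ.1.ne_one (by rw [← hbo, e, orderOf_one])
  obtain ⟨N, -, honly, -, -, -, hτ⟩ := centralizer_partner hG hI hL hbL hb1 hbC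
  obtain ⟨L', hL', hle⟩ := exists_isCoatom_ge (minSimple_normalizer_ne_top hG
    (Subgroup.zpowers_ne_bot.mpr hb1) (minSimple_pgroup_ne_top hG
      (IsPGroup.of_card (n := 1) (by rw [Nat.card_zpowers, hbo, pow_one]) : IsPGroup p (Subgroup.zpowers b))))
  have hp := (mem_sigma_of_kappa hG hI o.coatom hpκ (by rw [Nat.card_zpowers, hbo])
    (Subgroup.zpowers_le.mpr hbH) hL' hle).1
  rw [honly.2 L' hL' ((centralizer_zpowers_le_normalizer b).trans hle)] at hp
  exact (hτ p hpκ.1 (hbo ▸ dvd_rfl)).2.1 hp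

include hG hI h o in
/-- `κ(H) = ∅`. -/
theorem Over.kappa_eq_empty : Cfsg.kappa H = ∅ := by
  rw [Set.eq_empty_iff_forall_notMem]
  intro p hpκ
  have := Fact.mk hpκ.1
  obtain ⟨E, hE, hEM, -, hcase⟩ := o.compl_star hG hI h
  have hpE : p ∣ Nat.card E := by
    have h1 := hpκ.2.1
    rw [← card_mul_relIndex_of_le hE.1, IsComplIn.relIndex_left hE] at h1
    exact (hpκ.1.dvd_mul.mp h1).resolve_right fun h2 =>
      hpκ.2.2.1 (piNat_card_piCoreOf (Cfsg.sigma H) H p hpκ.1 h2)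
  obtain ⟨b', hb'⟩ := exists_prime_orderOf_dvd_card' (G := E) p hpE
  set b : G := (b' : G) with hb
  have hbE : b ∈ E := b'.2
  have hbo : orderOf b = p := by rw [hb, Subgroup.orderOf_coe, hb']
  have hb1 : b ≠ 1 := fun e => hpκ.1.ne_one (by rw [← hbo, e, orderOf_one])
  have hbH : b ∈ H := hE.1 hbE
  obtain ⟨K', hK', hbK'⟩ := exists_hall_kappa_ge hG hI o.coatom (Subgroup.zpowers_le.mpr hbH)
    fun r hr hd => by
      rw [Nat.card_zpowers, hbo] at hd
      rwa [(Nat.prime_dvd_prime_iff_eq hr hpκ.1).mp hd]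
  have hbK : b ∈ K' := hbK' (Subgroup.mem_zpowers b)
  have hK'1 : K' ≠ ⊥ := fun e => hb1 (Subgroup.mem_bot.mp (e ▸ hbK))
  rcases hcase with hqτ | hEN
  swap
  · rcases mem_kappa_union_sigma_of_commute hG hI o.coatom hK' hbK hb1 (o.a_mem h)
      (h.commute_of_normalizes hG hI (hEN hbE)) h.prime (h.order ▸ dvd_rfl) with h1 | h1
    · exact o.q_not_kappa hG hI h h1
    · exact o.q_not_sigma hG hI h h1
  obtain ⟨z, hz, hz1⟩ := (Subgroup.bot_or_exists_ne_one _).resolve_left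
    (kstar_ne_bot hI o.coatom hK' hK'1)
  have hzH : Subgroup.centralizer ({z} : Set G) ≤ H :=
    centralizer_kstar_le hG hI o.coatom hK' hK'1 hz hz1
  have hzb : z ∈ Subgroup.centralizer ({b} : Set G) := Subgroup.mem_centralizer_singleton_iff.mpr
    (Subgroup.mem_centralizer_iff.mp (Subgroup.mem_inf.mp hz).2 b hbK).symm
  have hzM : z ∉ Mstar := fun hzM => hz1 (Subgroup.mem_bot.mp
    (o.sigma_inf_star hG hI h ▸ (⟨(Subgroup.mem_inf.mp hz).1, hzM⟩ : z ∈ Cfsg.sigmaCore H ⊓ Mstar)))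
  obtain ⟨r, hr, hrC⟩ := Nat.exists_prime_and_dvd
    (n := Nat.card ↥(Cfsg.sigmaCore M ⊓ Subgroup.centralizer (K : Set G)))
    fun e => h.kstar_ne hI (Subgroup.card_eq_one.mp e)
  have hpS : p ∈ Cfsg.sigma Mstar ∪ Cfsg.kappa Mstar := by
    by_contra hcon
    exact no_plane_of_type_two hG hI h.coatomStar hpκ.1
      (hbo ▸ Subgroup.orderOf_dvd_natCard _ (hEM hbE)) (fun h1 => hcon (Or.inl h1))
      (fun h1 => hcon (Or.inr h1)) ⟨r, h.hallStar.2.1 r hr hrC⟩ h.q_mem_sigma
      (hasMaxPlane_of_tau2 hG o.coatom hqτ)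
  rcases hpS with hpS | hpS
  · refine o.false_of_sigma hG hI h h.coatomStar hpκ hbH hbo ?_ fun hle => hzM (hle hzb)
    exact le_sigmaCore hG h.coatomStar (Subgroup.zpowers_le.mpr (hEM hbE)) (fun r hr hd => by
      rw [Nat.card_zpowers, hbo] at hd
      rwa [(Nat.prime_dvd_prime_iff_eq hr hpκ.1).mp hd]) (Subgroup.mem_zpowers b)
  have hpM : p ∈ Cfsg.sigma M := h.kappa_star_subset hpS
  obtain ⟨g, hg⟩ := sigma_subgroup_conj hG hI.tauTwo hI.tauTwoCompl hI.nilpotent h.coatom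
    (Subgroup.zpowers_ne_bot.mpr hb1) fun r hr hd => by
      rw [Nat.card_zpowers, hbo] at hd
      rwa [(Nat.prime_dvd_prime_iff_eq hr hpκ.1).mp hd]
  set L := cj g⁻¹ M with hLdef
  have hL : IsCoatom L := isCoatom_map_conj h.coatom g⁻¹
  have hbL : b ∈ Cfsg.sigmaCore L := by
    rw [hLdef, sigmaCore_cj]
    exact cj_le_iff.mp hg (Subgroup.mem_zpowers b)
  by_cases hzL : z ∈ L
  swap
  · exact o.false_of_sigma hG hI h hL hpκ hbH hbo hbL fun hle => hzL (hle hzb)
  have hzσ : ∀ r : ℕ, r.Prime → r ∣ orderOf z → r ∈ Cfsg.sigma H :=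
    fun r hr hd => mem_sigma_of_mem_sigmaCore (Subgroup.mem_inf.mp hz).1 hr hd
  rcases sigma_element_centralizer_dichotomy hG hI L hL b hbL hb1 z ⟨hzL, hzb⟩ hz1
      (fun r hr hd hrL => o.disjoint_M hG hI h (sigma_cj g⁻¹ M ▸ hrL) (hzσ r hr hd)) with
    ⟨hκ, -⟩ | ⟨-, -, -, huniq⟩
  · obtain ⟨s, hs, hsd⟩ := Nat.exists_prime_and_dvd (n := orderOf z) fun e => hz1 (orderOf_eq_one_iff.mp e)
    exact o.q_not_sigma hG hI h (h.kappa_eq (kappa_cj_subset g⁻¹ M (hκ s hs hsd)) ▸ hzσ s hs hsd)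
  · exact o.not_conj hG hI h g⁻¹ (huniq H o.coatom hzH)

include hG hI in
omit ht in
theorem over_normalizer_U
    (M : Subgroup G) (hM : IsCoatom M) (K U : Subgroup G) (hKU : Cfsg.IsSigmaDecomposition M K U) (hK1 : K ≠ ⊥) (hU1 : U ≠ ⊥) (Mstar : Subgroup G) (hMstar : IsCoatom Mstar)
    (hKst : K = Cfsg.sigmaCore Mstar ⊓ Subgroup.centralizer ((Cfsg.sigmaCore M ⊓ Subgroup.centralizer (K : Set G)) : Set G))
    (hKstH : Cfsg.IsPiHallOf (Cfsg.kappa Mstar) (Cfsg.sigmaCore M ⊓ Subgroup.centralizer (K : Set G)) Mstar)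
    (r : ℕ) [Fact r.Prime] (hr : r ∣ Nat.card U) (R : Sylow r U) (H : Subgroup G) (hH : IsCoatom H)
    (hNR : Subgroup.normalizer (((R : Subgroup U).map U.subtype : Subgroup G) : Set G) ≤ H) :
    Cfsg.kappa H = ∅ ∧ U ≤ Cfsg.sigmaCore H ∧ M ⊓ H = U ⊔ K ∧ ¬ H ⊓ Subgroup.normalizer (U : Set G) ≤ M ∧
      K ≤ Cfsg.fittingOf (H ⊓ Mstar) ∧ Cfsg.IsComplIn (H ⊓ Mstar) (Cfsg.sigmaCore H) H := by
  have hK := hKU.hall
  have hU := decomp_U_hall hG hM hKU
  obtain ⟨q, hq, hqd⟩ := Nat.exists_prime_and_dvd (n := Nat.card K) fun e => hK1 (Subgroup.card_eq_one.mp e)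
  have := Fact.mk hq
  obtain ⟨a', ha'⟩ := exists_prime_orderOf_dvd_card' (G := K) q hqd
  set a : G := (a' : G) with hadef
  have haK : a ∈ K := a'.2
  have hao : orderOf a = q := by rw [hadef, Subgroup.orderOf_coe, ha']
  have ha1 : a ≠ 1 := fun e => hq.ne_one (by rw [← hao, e, orderOf_one])
  have hrM : r ∣ Nat.card M := hr.trans (Subgroup.card_dvd_of_le hU.1)
  have hrσ := hU.2.1 r Fact.out hr
  have := minSimple_solvable hG hM.1
  have hUc : IsMulCommutative U := by
    obtain ⟨U₀, E₀, -, -, hU₀c, -, -, hU₀, -⟩ := exists_compl_kappa hG hI hM hK hK1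
    obtain ⟨g, -, hle⟩ := OddOrder41.exists_conj_into hU₀.1 (fun s hs hsπ => hU₀.2.2 s hs hsπ) hU.1
      hU.2.1
    refine ⟨⟨fun x y => Subtype.ext ?_⟩⟩
    have h1 := mul_comm_of_mem hU₀c (hle (mem_cj_self.mpr x.2)) (hle (mem_cj_self.mpr y.2))
    show (x : G) * y = y * x
    exact mul_right_cancel (b := g⁻¹) (by simpa [mul_assoc] using h1)
  have hgen : K = Subgroup.zpowers a := by
    obtain ⟨P, hPM, hPc, hKP, hPC, -⟩ := exists_fpf_subgroup hG hI hM hK hK1 hrM hrσ.2.2 hrσ.2.1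
    set S := Cfsg.sigmaCore M with hS
    have hsolv : Group.IsSolvable S :=
      solvable_of_solvable_injective (Subgroup.inclusion_injective (sigmaCore_le M))
    have hform : ∀ E : Subgroup G, E ≤ K → E ≠ ⊥ →
        Nat.card S = Nat.card ↥(S ⊓ Subgroup.centralizer (K : Set G)) ^ Nat.card E := by
      intro E hEK hE1
      have hEP : E ≤ Subgroup.normalizer (P : Set G) := hEK.trans hKP
      have hfpf : ∀ e ∈ E, e ≠ 1 → ∀ u ∈ P, e * u = u * e → u = 1 := by
        intro e he he1 u hu heu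
        by_contra hu1
        obtain ⟨p, hp, hpd⟩ := Nat.exists_prime_and_dvd (n := orderOf u)
          fun h => hu1 (orderOf_eq_one_iff.mp h)
        have hpr := hPc p hp (hpd.trans (Subgroup.orderOf_dvd_natCard _ hu))
        rcases mem_kappa_union_sigma_of_commute hG hI hM hK (hEK he) he1 (hPM hu) heu hp hpd with h1 | h1
        · exact hrσ.2.1 (hpr ▸ h1)
        · exact hrσ.2.2 (hpr ▸ h1)
      have hcop : (Nat.card S).Coprime (Nat.card ↥(P ⊔ E)) := Nat.coprime_of_dvd fun p hp h1 h2 => by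
        have hpσ : p ∈ Cfsg.sigma M := piNat_card_piCoreOf (Cfsg.sigma M) M p hp h1
        rw [sup_comm] at h2
        rcases hp.dvd_mul.mp (h2.trans (card_sup_dvd_mul hEP)) with h3 | h3
        · exact (hK.2.1 p hp (h3.trans (Subgroup.card_dvd_of_le hEK))).2.2.1 hpσ
        · exact hrσ.2.2 (hPc p hp h3 ▸ hpσ)
      have hf := FixedFormula.fixed_formula P E hE1 hEP (FixedFormula.coprime_of_fpf hEP hfpf) hfpf S
        ((sup_le hPM (hEK.trans hK.1)).trans (piCoreOf_normal _ _)) hsolv hcop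
      obtain ⟨e, he, he1⟩ := (Subgroup.bot_or_exists_ne_one E).resolve_left hE1
      have hSE : S ⊓ Subgroup.centralizer (E : Set G) = S ⊓ Subgroup.centralizer (K : Set G) :=
        le_antisymm ((inf_le_inf le_rfl (Subgroup.centralizer_le (Set.singleton_subset_iff.mpr he))).trans
          ((hI.kappaHall M hM K hK hK1).1 e (hEK he) he1).le)
          (inf_le_inf le_rfl (Subgroup.centralizer_le fun _ hx => hEK hx))
      have hSPE : S ⊓ Subgroup.centralizer ((P ⊔ E : Subgroup G) : Set G) = ⊥ :=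
        le_bot_iff.mp (hPC ▸ inf_le_inf le_rfl (Subgroup.centralizer_le fun _ hz => Subgroup.mem_sup_left hz))
      rwa [hSE, hPC, hSPE, Subgroup.card_bot, one_pow, one_mul, mul_one] at hf
    have h1 := (hform (Subgroup.zpowers a) (Subgroup.zpowers_le.mpr haK) (Subgroup.zpowers_ne_bot.mpr ha1)).symm.trans
      (hform K le_rfl hK1)
    rw [Nat.card_zpowers, hao] at h1
    have hc2 : 2 ≤ Nat.card ↥(S ⊓ Subgroup.centralizer (K : Set G)) := by
      exact (Subgroup.one_lt_card_iff_ne_bot _).mpr (kstar_ne_bot hI hM hK hK1)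
    exact (Subgroup.eq_of_le_of_card_ge (Subgroup.zpowers_le.mpr haK)
      (le_of_eq (by rw [Nat.card_zpowers, hao]; exact (Nat.pow_right_injective hc2 h1).symm))).symm
  have h : Conf M K U Mstar a q :=
    { coatom := hM, coatomStar := hMstar, hallK := hK, hallStar := hKstH, star := hKst, hallU := hU,
      commU := hUc, normU := hKU.normal,
      fpf := fun u hu hau => Subgroup.mem_bot.mp (decomp_fpf hG hI hM hKU hK1 haK ha1 ▸
        (⟨hu, Subgroup.mem_centralizer_singleton_iff.mpr hau.symm⟩ :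
          u ∈ U ⊓ Subgroup.centralizer ({a} : Set G)))
      prime := hq, order := hao, gen := hgen, typeTwo := ⟨r, Fact.out, hrM, hrσ.2.2, hrσ.2.1⟩ }
  have o : Over U ((R : Subgroup U).map U.subtype) H r := ⟨sylowOf_map R, hr, hH, hNR⟩
  have hKH : K ≤ H := hgen ▸ Subgroup.zpowers_le.mpr (o.a_mem h)
  have hUS := o.U_le_sigma hG hI h
  have hMH : M ⊓ H = U ⊔ K := by
    refine le_antisymm (fun g hg => ?_) (sup_le (le_inf hU.1 (o.U_le h)) (le_inf hK.1 hKH))
    obtain ⟨u, hu, v, hv, rfl⟩ := hKU.compl.2.2.2 g hg.1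
    obtain ⟨k, hk, s, hs, rfl⟩ :=
      CfsgLib.Coprime.exists_mul_of_mem_sup (hK.1.trans (piCoreOf_normal (Cfsg.sigma M) M)) hv
    have hsH : s ∈ H := by
      have h1 := mul_mem (inv_mem (hKH hk)) (mul_mem (inv_mem (o.U_le h hu)) hg.2)
      simpa [mul_assoc] using h1
    have h1 : s ∈ Cfsg.sigmaCore M ⊓ H := ⟨hs, hsH⟩
    rw [o.sigma_inf_H hG hI h, Subgroup.mem_bot] at h1
    rw [h1, mul_one]
    exact mul_mem (Subgroup.mem_sup_left hu) (Subgroup.mem_sup_right hk)
  refine ⟨o.kappa_eq_empty hG hI h, hUS, hMH, fun hle => ?_, ?_⟩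
  · set S := Cfsg.sigmaCore H with hS
    rcases eq_or_lt_of_le hUS with e | hlt
    · have hHN : H ≤ Subgroup.normalizer (U : Set G) := by
        rw [e]
        exact piCoreOf_normal _ _
      have hHM : H ≤ M := (le_inf le_rfl hHN).trans hle
      rcases eq_or_lt_of_le hHM with e' | e'
      · exact o.not_conj hG hI h 1 (by rw [cj_one, e'])
      · exact hM.1 (hH.2 M e')
    have hnil : Group.IsNilpotent S := o.nilpotent hG hI h
    have hlt' : U.subgroupOf S < ⊤ :=
      lt_top_iff_ne_top.mpr fun e => hlt.not_ge (Subgroup.subgroupOf_eq_top.mp e)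
    obtain ⟨x, hx, hxU⟩ := SetLike.exists_of_lt (Group.normalizerCondition_of_isNilpotent _ hlt')
    rw [← Subgroup.subgroupOf_normalizer_eq hlt.le, Subgroup.mem_subgroupOf] at hx
    have hxMH : (x : G) ∈ M ⊓ H :=
      ⟨hle ⟨sigmaCore_le H x.2, hx⟩, sigmaCore_le H x.2⟩
    rw [hMH, sup_comm] at hxMH
    obtain ⟨k, hk, u, hu, he⟩ := CfsgLib.Coprime.exists_mul_of_mem_sup hKU.normal hxMH
    have hk1 : k = 1 := by
      by_contra hk1
      have hkS : k ∈ S := by
        have h1 : (x : G) * u⁻¹ ∈ S := mul_mem x.2 (inv_mem (hUS hu))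
        rwa [he, mul_inv_cancel_right] at h1
      obtain ⟨p, hp, hpd⟩ := Nat.exists_prime_and_dvd (n := orderOf k) fun e => hk1 (orderOf_eq_one_iff.mp e)
      have hpq := hpd.trans (Subgroup.orderOf_dvd_natCard _ hk)
      rw [h.card_K, Nat.prime_dvd_prime_iff_eq hp hq] at hpq
      exact o.q_not_sigma hG hI h (hpq ▸ mem_sigma_of_mem_sigmaCore hkS hp hpd)
    apply hxU
    rw [Subgroup.mem_subgroupOf, he, hk1, one_mul]
    exact hu
  · obtain ⟨E, hE, hEM, hKF, -⟩ := o.compl_star hG hI h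
    have heq : H ⊓ Mstar = E := by
      refine le_antisymm (fun x hx => ?_) (le_inf hE.1 hEM)
      obtain ⟨e, he, b, hb, rfl⟩ := hE.2.2.2 x hx.1
      have h1 : b ∈ Cfsg.sigmaCore H ⊓ Mstar := ⟨hb, by
        simpa using mul_mem (inv_mem (hEM he)) hx.2⟩
      rw [o.sigma_inf_star hG hI h, Subgroup.mem_bot] at h1
      rwa [h1, mul_one]
    rw [heq]
    exact ⟨hKF, hE⟩

end CfsgLib.OddOrder38
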