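import Mathlib
import Cfsg.Agent.Lib.OddOrder38.Aux1435
import Cfsg.Agent.Lib.OddOrder41.PrimeActionFitting
import Cfsg.Agent.Lib.OddOrder41.FixedFormula
import Cfsg.Agent.Lib.PGroup.Frattini
import Cfsg.Agent.Lib.Solvable.EigenChain

/-!
# BG 15.2, the group theory: a prime action with centralizer of prime order on a non-nilpotent group
-/

set_option autoImplicit false

namespace CfsgLib.OddOrder38

open Subgroup CfsgLib.OddOrder CfsgLib.OddOrder.Transitivity CfsgLib.OddOrder41
open scoped commutatorElement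

universe u

variable {G : Type u} [Group G]

/-- A group with an injective map into a nilpotent group is nilpotent. -/
theorem isNilpotent_of_inj {A B : Type*} [Group A] [Group B] (hB : Group.IsNilpotent B) (f : A →* B)
    (hf : Function.Injective f) : Group.IsNilpotent A := by
  have := hB
  exact Group.nilpotent_of_mulEquiv (MonoidHom.ofInjective hf).symm

/-- `M = K S` with a prime action of `K` on the non-nilpotent `S` and centralizer of prime order `q`. -/
structure PrimeAction (M S K : Subgroup G) (q : ℕ) : Prop where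
  le : S ≤ M
  leK : K ≤ M
  normal : M ≤ Subgroup.normalizer (S : Set G)
  join : M ≤ K ⊔ S
  coprime : (Nat.card K).Coprime (Nat.card S)
  ne_bot : K ≠ ⊥
  solvable : Group.IsSolvable M
  odd : Odd (Nat.card M)
  comm : ⁅S, K⁆ = S
  prime : q.Prime
  card_fixed : Nat.card ↥(S ⊓ Subgroup.centralizer (K : Set G)) = q
  action : ∀ k ∈ K, k ≠ 1 →
    S ⊓ Subgroup.centralizer ({k} : Set G) = S ⊓ Subgroup.centralizer (K : Set G)
  not_nilpotent : ¬ Group.IsNilpotent S

variable [Finite G] {M S K : Subgroup G} {q : ℕ} (h : PrimeAction M S K q)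

omit [Finite G] in
include h in
theorem PrimeAction.solvableS : Group.IsSolvable S := by
  have := h.solvable
  exact Group.isSolvable_of_isSolvable_injective (Subgroup.inclusion_injective h.le)

include h in
theorem PrimeAction.fixed_le_opCore : S ⊓ Subgroup.centralizer (K : Set G) ≤ opCore q S := by
  set C := S ⊓ Subgroup.centralizer (K : Set G) with hC
  have := Fact.mk h.prime
  suffices hCF : C ≤ Cfsg.fittingOf S from
    le_opCore_of_le_fittingOf hCF (IsPGroup.of_card (n := 1) (by rw [h.card_fixed, pow_one]))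
  have hdvd := Subgroup.card_dvd_of_le (inf_le_left : C ⊓ Cfsg.fittingOf S ≤ C)
  rw [h.card_fixed] at hdvd
  rcases (Nat.dvd_prime h.prime).mp hdvd with h1 | h1
  swap
  · exact (Subgroup.eq_of_le_of_card_ge (inf_le_left : C ⊓ Cfsg.fittingOf S ≤ C)
      (by rw [h.card_fixed, h1])).ge.trans inf_le_right
  exfalso
  have hbot := Subgroup.card_eq_one.mp h1
  have hMs := h.solvable
  set S' := S.subgroupOf M with hS'
  set R' := K.subgroupOf M with hR'
  have hS'n : S'.Normal := (Subgroup.normal_subgroupOf_iff_le_normalizer h.le).mpr h.normal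
  have hmapS : S'.map M.subtype = S := Subgroup.map_subgroupOf_eq_of_le h.le
  have hmapK : R'.map M.subtype = K := Subgroup.map_subgroupOf_eq_of_le h.leK
  have hFle : (Cfsg.fittingOf S').map M.subtype ≤ Cfsg.fittingOf S := by
    refine le_fittingOf ((Subgroup.map_mono (fittingOf_le S')).trans hmapS.le) ?_
      (Fitting.isNilpotent_map (fittingOf_isNilpotent S') M.subtype)
    conv_lhs => rw [← hmapS]
    exact (Subgroup.map_mono (fittingOf_normal S')).trans (Subgroup.le_normalizer_map _)
  have hF : Cfsg.fittingOf S' ⊓ Subgroup.centralizer (R' : Set M) = ⊥ := by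
    refine (Subgroup.eq_bot_iff_forall _).mpr fun x hx => Subtype.ext ?_
    refine Subgroup.mem_bot.mp (hbot ▸ (⟨⟨fittingOf_le S' hx.1, Subgroup.mem_centralizer_iff.mpr
      fun k hk => ?_⟩, hFle ⟨x, hx.1, rfl⟩⟩ : (x : G) ∈ C ⊓ Cfsg.fittingOf S))
    exact congrArg Subtype.val (Subgroup.mem_centralizer_iff.mp hx.2 ⟨k, h.leK hk⟩ hk)
  have hle := commutator_le_fittingOf_of_prime_action h.odd S' R' (by
    rw [Nat.card_congr (Subgroup.subgroupOfEquivOfLe h.le).toEquiv,
      Nat.card_congr (Subgroup.subgroupOfEquivOfLe h.leK).toEquiv]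
    exact h.coprime.symm) (fun x hx hx1 => ?_) hF
  · have h2 := Subgroup.map_mono (f := M.subtype) hle
    rw [Subgroup.map_commutator, hmapS, hmapK, h.comm] at h2
    exact h.not_nilpotent (isNilpotent_of_inj (fittingOf_isNilpotent S) (Subgroup.inclusion (h2.trans hFle))
      (Subgroup.inclusion_injective _))
  · ext y
    simp only [Subgroup.mem_inf]
    refine and_congr_right fun hy => ⟨fun hxy => Subgroup.mem_centralizer_iff.mpr fun k hk => ?_,
      fun hall => Subgroup.mem_centralizer_singleton_iff.mpr (Subgroup.mem_centralizer_iff.mp hall x hx).symm⟩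
    have h1 : (y : G) ∈ S ⊓ Subgroup.centralizer (K : Set G) := by
      rw [← h.action x hx fun e => hx1 (Subtype.ext e)]
      exact ⟨hy, Subgroup.mem_centralizer_singleton_iff.mpr
        (congrArg Subtype.val (Subgroup.mem_centralizer_singleton_iff.mp hxy))⟩
    exact Subtype.ext (Subgroup.mem_centralizer_iff.mp h1.2 k hk)

include h in
theorem PrimeAction.opCore_normalized : M ≤ Subgroup.normalizer (opCore q S : Set G) := fun m hm => by
  have := Fact.mk h.prime
  have hS : cj m S = S := cj_eq_of_mem_normalizer (h.normal hm)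
  refine mem_normalizer_of_cj_eq (Subgroup.eq_of_le_of_card_ge
    (le_opCore ((cj_mono (opCore_le q S)).trans hS.le) ?_ ((opCore_isPGroup q S).map _)) (by rw [card_cj]))
  calc S = cj m S := hS.symm
    _ ≤ cj m (Subgroup.normalizer (opCore q S : Set G)) := cj_mono (opCore_normal q S)
    _ = _ := OddOrder41.cj_normalizer m _

include h in
/-- `O_q(S)` is a Sylow subgroup of `S` with nilpotent quotient. -/
theorem PrimeAction.sylow_opCore :
    ¬ q ∣ (opCore q S).relIndex S ∧
      ∀ D : Subgroup G, D ≤ S → D ⊓ opCore q S = ⊥ → Group.IsNilpotent D := by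
  have hqf := Fact.mk h.prime
  have hMs := h.solvable
  set C := S ⊓ Subgroup.centralizer (K : Set G) with hC
  set Q := opCore q S with hQ
  have hQS : Q ≤ S := opCore_le q S
  have hQM : Q ≤ M := hQS.trans h.le
  set N := Q.subgroupOf M with hN
  have hNn : N.Normal := (Subgroup.normal_subgroupOf_iff_le_normalizer hQM).mpr h.opCore_normalized
  set π := QuotientGroup.mk' N with hπ
  have hmemN : ∀ {x : M}, π x = 1 ↔ (x : G) ∈ Q := fun {x} => QuotientGroup.eq_one_iff x
  set S' := S.subgroupOf M with hS'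
  have hS'n : S'.Normal := (Subgroup.normal_subgroupOf_iff_le_normalizer h.le).mpr h.normal
  obtain ⟨p, hp, hpd⟩ := Nat.exists_prime_and_dvd (n := Nat.card K)
    fun e => h.ne_bot (Subgroup.card_eq_one.mp e)
  have := Fact.mk hp
  obtain ⟨k, hk⟩ := exists_prime_orderOf_dvd_card' (G := K) p hpd
  have hk1 : (k : G) ≠ 1 := fun e => hp.ne_one (by
    rw [← hk, ← Subgroup.orderOf_coe, e, orderOf_one])
  set k' : M := ⟨k, h.leK k.2⟩ with hk'
  have hkp : (π k') ^ p = 1 := by
    rw [← map_pow, show k' ^ p = 1 from Subtype.ext (by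
      show (k : G) ^ p = 1
      rw [← hk, ← Subgroup.orderOf_coe]
      exact pow_orderOf_eq_one _), map_one]
  have hSsolv := h.solvableS
  have hkS : Subgroup.zpowers (k : G) ≤ Subgroup.normalizer (S : Set G) :=
    (Subgroup.zpowers_le.mpr (h.leK k.2)).trans h.normal
  have hnorm : π k' ∈ Subgroup.normalizer ((S'.map π : Subgroup (M ⧸ N)) : Set (M ⧸ N)) := by
    have : (S'.map π).Normal := hS'n.map π (QuotientGroup.mk'_surjective N)
    rw [Subgroup.normalizer_eq_top_iff.mpr this]
    trivial
  have hnil : Group.IsNilpotent (S'.map π : Subgroup (M ⧸ N)) := by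
    refine CfsgLib.Frobenius.Thompson.isNilpotent_of_element _ hnorm hp hkp ?_
    rintro _ ⟨s, hs, rfl⟩ he
    rw [hmemN]
    have hfix : ∀ a ∈ Subgroup.zpowers (k : G), (s : G)⁻¹ * (a * s * a⁻¹) ∈ Q := fun a ha => by
      obtain ⟨i, rfl⟩ := Subgroup.mem_zpowers_iff.mp ha
      have h1 : π (s⁻¹ * (k' ^ i * s * (k' ^ i)⁻¹)) = 1 := by
        have hcomm : Commute (π k' ^ i) (π s) := Commute.zpow_left he i
        rw [map_mul, map_mul, map_mul, map_inv, map_inv, map_zpow, hcomm.eq]
        group
      have h2 := hmemN.mp h1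
      simpa [hk'] using h2
    obtain ⟨c, hc, hsc⟩ := CfsgLib.Coprime.exists_centralizing_rep (Subgroup.zpowers (k : G)) S hkS
      (h.coprime.coprime_dvd_left (Subgroup.card_dvd_of_le (Subgroup.zpowers_le.mpr k.2))) (Or.inr hSsolv)
      Q hQS ((Subgroup.zpowers_le.mpr (h.leK k.2)).trans h.opCore_normalized) hs hfix
    have hcQ : c ∈ Q := h.fixed_le_opCore (by
      rw [← h.action k k.2 hk1, ← OddOrder41.centralizer_zpowers]
      exact hc)
    have h1 := Q.mul_mem hcQ (Q.inv_mem hsc)
    simpa [mul_assoc] using h1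
  set f := π.subgroupMap S' with hf
  have hfs : Function.Surjective f := π.subgroupMap_surjective S'
  have hker : ∀ x : S', f x = 1 ↔ ((x : M) : G) ∈ Q := fun x => by
    rw [← hmemN]
    exact Subtype.ext_iff
  refine ⟨fun hd => ?_, fun D hDS hDQ => ?_⟩
  · obtain ⟨P⟩ : Nonempty (Sylow q S') := inferInstance
    set P₁ := ((P : Subgroup S').map S'.subtype).map M.subtype with hP₁
    have hP₁S : P₁ ≤ S := (Subgroup.map_mono (Subgroup.map_subtype_le _)).trans
      (Subgroup.map_subgroupOf_eq_of_le h.le).le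
    have hkerp : IsPGroup q f.ker := (opCore_isPGroup q S).of_injective
      ((M.subtype.comp (S'.subtype.comp f.ker.subtype)).codRestrict Q fun x => (hker x).mp x.2)
      (fun x y hxy => by
        have h1 := congrArg Subtype.val hxy
        exact Subtype.ext (Subtype.ext (Subtype.ext h1)))
    have hle : f.ker ≤ (P : Subgroup S') := by
      have := (P.is_maximal' (hkerp.to_sup_of_normal_left P.isPGroup') le_sup_right)
      exact le_sup_left.trans this.le
    have hPn : (P : Subgroup S').Normal := by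
      have h1 : (Sylow.mapSurjective hfs P).toSubgroup.Normal :=
        Solvable.EigenChain.sylow_normal hnil (Sylow.mapSurjective hfs P)
      rw [Sylow.coe_mapSurjective] at h1
      have h2 := h1.comap f
      rwa [Subgroup.comap_map_eq_self hle] at h2
    have hSP : S ≤ Subgroup.normalizer (P₁ : Set G) := by
      intro s hs
      refine mem_normalizer_of_cj_eq (Subgroup.eq_of_le_of_card_ge ?_ (by rw [card_cj]))
      rintro _ ⟨_, ⟨_, ⟨x, hx, rfl⟩, rfl⟩, rfl⟩
      exact ⟨_, ⟨⟨⟨s, h.le hs⟩, hs⟩ * x * (⟨⟨s, h.le hs⟩, hs⟩ : S')⁻¹, hPn.conj_mem x hx _, rfl⟩, rfl⟩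
    have hPQ : P₁ ≤ Q := le_opCore hP₁S hSP ((P.isPGroup'.map _).map _)
    have hc : Nat.card P₁ = q ^ (Nat.card S).factorization q := by
      rw [hP₁, Subgroup.card_map_of_injective M.subtype_injective,
        Subgroup.card_map_of_injective S'.subtype_injective, P.card_eq_multiplicity,
        Nat.card_congr (Subgroup.subgroupOfEquivOfLe h.le).toEquiv]
    have h1 : q ^ ((Nat.card S).factorization q + 1) ∣ Nat.card S := by
      rw [← card_mul_relIndex_of_le hQS, pow_succ]
      exact Nat.mul_dvd_mul (by rw [card_mul_relIndex_of_le hQS, ← hc]; exact Subgroup.card_dvd_of_le hPQ) hd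
    exact Nat.pow_succ_factorization_not_dvd Nat.card_pos.ne' h.prime h1
  · refine isNilpotent_of_inj hnil
      (f.comp
        { toFun := fun d : D => (⟨⟨d, h.le (hDS d.2)⟩, hDS d.2⟩ : S')
          map_one' := rfl
          map_mul' := fun _ _ => rfl }) ?_
    rw [injective_iff_map_eq_one]
    intro d hd
    refine Subtype.ext (Subgroup.mem_bot.mp (hDQ ▸ (⟨d.2, (hker _).mp hd⟩ : (d : G) ∈ D ⊓ Q)))

end CfsgLib.OddOrder38
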