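import Mathlib
import Cfsg.Agent.Lib.OddOrder38.PrimeAction37

/-!
# BG 15.2, the group theory: the section `Q / C_Q(D)`
-/

set_option autoImplicit false

namespace CfsgLib.OddOrder38

open Subgroup CfsgLib.OddOrder CfsgLib.OddOrder.Transitivity CfsgLib.OddOrder41
open scoped commutatorElement

universe u

variable {G : Type u} [Group G]

/-- `D` is a `q`-complement in `S` of `O_q(S)`. -/
def IsQCompl (S D : Subgroup G) (q : ℕ) : Prop :=
  D ≤ S ∧ ¬ q ∣ Nat.card D ∧ Nat.card D * Nat.card (opCore q S) = Nat.card S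

omit [Group G] in
/-- Commutators and `q`-th powers. -/
def phiSub {G : Type u} [Group G] (Q : Subgroup G) (q : ℕ) : Subgroup G :=
  ⁅Q, Q⁆ ⊔ Subgroup.closure {y : G | ∃ x ∈ Q, y = x ^ q}

theorem phiSub_le (Q : Subgroup G) (q : ℕ) : phiSub Q q ≤ Q :=
  sup_le (Subgroup.commutator_le_self Q)
    ((Subgroup.closure_le _).mpr fun y ⟨x, hx, hy⟩ => hy ▸ Q.pow_mem hx q)

theorem mem_normalizer_phiSub (Q : Subgroup G) (q : ℕ) {g : G}
    (hg : g ∈ Subgroup.normalizer (Q : Set G)) : g ∈ Subgroup.normalizer (phiSub Q q : Set G) := by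
  refine mem_normalizer_of_cj_eq ?_
  have hQ : Q.map (MulAut.conj g).toMonoidHom = Q := cj_eq_of_mem_normalizer hg
  rw [Transitivity.cj, phiSub, Subgroup.map_sup, Subgroup.map_commutator, hQ, MonoidHom.map_closure]
  congr 2
  ext y
  constructor
  · rintro ⟨_, ⟨x, hx, rfl⟩, rfl⟩
    exact ⟨_, hQ.le ⟨x, hx, rfl⟩, map_pow _ x q⟩
  · rintro ⟨x, hx, rfl⟩
    obtain ⟨x', hx', he⟩ := hQ.ge hx
    exact ⟨x' ^ q, ⟨x', hx', rfl⟩, by rw [map_pow, he]⟩

/-- A subgroup of a `q`-group covering it modulo commutators and `q`-th powers is everything. -/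
theorem eq_of_sup_phiSub [Finite G] {q : ℕ} [Fact q.Prime] {Q X : Subgroup G} (hQ : IsPGroup q Q)
    (hXQ : X ≤ Q) (h : Q ≤ X ⊔ phiSub Q q) : X = Q := by
  have hle : phiSub Q q ≤ (frattini Q).map Q.subtype := by
    refine sup_le ?_ ((Subgroup.closure_le _).mpr fun y ⟨x, hx, hy⟩ =>
      ⟨⟨x, hx⟩ ^ q, PGroup.pow_mem_frattini hQ _, hy.symm⟩)
    rw [← Subgroup.map_subtype_commutator]
    exact Subgroup.map_mono (PGroup.commutator_le_frattini hQ)
  have h1 : X.subgroupOf Q ⊔ frattini Q = ⊤ := by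
    apply Subgroup.map_injective Q.subtype_injective
    rw [Subgroup.map_sup, Subgroup.map_subgroupOf_eq_of_le hXQ, ← MonoidHom.range_eq_map,
      Subgroup.range_subtype]
    exact le_antisymm (sup_le hXQ (Subgroup.map_subtype_le _)) (h.trans (sup_le_sup_left hle _))
  have h2 := frattini_nongenerating h1
  exact le_antisymm hXQ (Subgroup.subgroupOf_eq_top.mp h2)

variable [Finite G] {M S K D : Subgroup G} {q : ℕ} (h : PrimeAction M S K q)

include h in
theorem IsQCompl.inf_eq (hD : IsQCompl S D q) : D ⊓ opCore q S = ⊥ := by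
  have := Fact.mk h.prime
  obtain ⟨n, hn⟩ := (opCore_isPGroup q S).exists_card_eq
  refine Subgroup.inf_eq_bot_of_coprime ?_
  rw [hn]
  exact ((h.prime.coprime_iff_not_dvd).mpr hD.2.1).symm.pow_right n

include h in
theorem IsQCompl.le_sup (hD : IsQCompl S D q) : S ≤ D ⊔ opCore q S := by
  have hn : D ≤ Subgroup.normalizer (opCore q S : Set G) :=
    hD.1.trans (h.le.trans h.opCore_normalized)
  refine (Subgroup.eq_of_le_of_card_ge (sup_le hD.1 (opCore_le q S)) ?_).ge
  rw [CfsgLib.Coprime.card_sup_of_disjoint hn (by rw [inf_comm]; exact hD.inf_eq h), hD.2.2]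

include h in
theorem IsQCompl.nilpotent (hD : IsQCompl S D q) : Group.IsNilpotent D :=
  h.sylow_opCore.2 D hD.1 (hD.inf_eq h)

include h in
/-- `O_q(S)` does not centralize a complement. -/
theorem IsQCompl.not_centralizes (hD : IsQCompl S D q) :
    ¬ opCore q S ≤ Subgroup.centralizer (D : Set G) := by
  intro hc
  have := Fact.mk h.prime
  refine h.not_nilpotent (isNilpotent_of_inj (fittingOf_isNilpotent S) (Subgroup.inclusion ?_)
    (Subgroup.inclusion_injective _))
  refine (hD.le_sup h).trans (sup_le (le_fittingOf hD.1 ((hD.le_sup h).trans (sup_le ?_ ?_))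
    (hD.nilpotent h)) (opCore_le_fittingOf h.prime S))
  · exact Subgroup.le_normalizer
  · exact hc.trans (Subgroup.centralizer_le_normalizer _)

include h in
theorem IsQCompl.exists_conj {D' : Subgroup G} (hD : IsQCompl S D q) (hD' : IsQCompl S D' q) :
    ∃ s ∈ S, cj s D' = D := by
  have := h.solvableS
  have hidx : ∀ r : ℕ, r.Prime → r ∈ {r : ℕ | r ≠ q} → ¬ r ∣ D.relIndex S := by
    intro r hr hrq hd
    have e := card_mul_relIndex_of_le hD.1
    have e' : D.relIndex S = Nat.card (opCore q S) :=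
      Nat.eq_of_mul_eq_mul_left Nat.card_pos (e.trans hD.2.2.symm)
    rw [e'] at hd
    have := Fact.mk h.prime
    obtain ⟨n, hn⟩ := (opCore_isPGroup q S).exists_card_eq
    rw [hn] at hd
    exact hrq ((Nat.prime_dvd_prime_iff_eq hr h.prime).mp (hr.dvd_of_dvd_pow hd))
  obtain ⟨s, hs, hle⟩ := OddOrder41.exists_conj_into (π := {r | r ≠ q}) hD.1 hidx hD'.1
    (fun r hr hd (e : r = q) => hD'.2.1 (e ▸ hd))
  exact ⟨s, hs, Subgroup.eq_of_le_of_card_ge hle (le_of_eq
      ((Nat.eq_of_mul_eq_mul_right Nat.card_pos (hD.2.2.trans hD'.2.2.symm)).trans (card_cj s D').symm))⟩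

include h in
/-- An invariant complement. -/
theorem PrimeAction.exists_invariant_qCompl :
    ∃ D, IsQCompl S D q ∧ K ≤ Subgroup.normalizer (D : Set G) := by
  have hq := Fact.mk h.prime
  have := h.solvableS
  obtain ⟨H, hH⟩ := CfsgLib.Hall.exists_isPiHall (G := S) {r | r ≠ q}
  set D₁ := H.map S.subtype with hD₁
  have hcard : Nat.card D₁ = Nat.card H := Subgroup.card_map_of_injective S.subtype_injective
  obtain ⟨n, hn⟩ := (opCore_isPGroup q S).exists_card_eq
  have hqH : ¬ q ∣ Nat.card H := fun hd => hH.1 q h.prime hd rfl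
  have hD₁c : IsQCompl S D₁ q := by
    refine ⟨Subgroup.map_subtype_le H, hcard ▸ hqH, ?_⟩
    have e1 := card_mul_relIndex_of_le (opCore_le q S)
    have e2 := Subgroup.card_mul_index H
    rw [hcard, ← e1, mul_comm]
    congr 1
    have hd1 : Nat.card H ∣ (opCore q S).relIndex S := by
      refine Nat.Coprime.dvd_of_dvd_mul_left ?_ (e1.symm ▸ e2 ▸ dvd_mul_right _ _)
      rw [hn]
      exact ((h.prime.coprime_iff_not_dvd).mpr hqH).symm.pow_right n
    have hd2 : (opCore q S).relIndex S ∣ Nat.card H := by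
      refine Nat.Coprime.dvd_of_dvd_mul_right ?_ (e2.symm ▸ e1 ▸ dvd_mul_left _ _)
      refine Nat.coprime_of_dvd fun r hr h1 h2 => ?_
      by_cases hrq : r = q
      · exact h.sylow_opCore.1 (hrq ▸ h1)
      · exact hH.2 r hr hrq h2
    exact Nat.dvd_antisymm hd1 hd2
  obtain ⟨x, hx, hxS⟩ := CfsgLib.Coprime.exists_conj_mem_of_forall_mul K S (h.leK.trans h.normal) h.coprime
    (Or.inr inferInstance) (Subgroup.normalizer (D₁ : Set G)) fun a ha => by
      have hS : cj a S = S := cj_eq_of_mem_normalizer (h.normal (h.leK ha))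
      obtain ⟨s, hs, he⟩ := hD₁c.exists_conj h
        (⟨(cj_mono hD₁c.1).trans hS.le, by rw [card_cj]; exact hD₁c.2.1,
          by rw [card_cj]; exact hD₁c.2.2⟩ : IsQCompl S (cj a D₁) q)
      exact ⟨s⁻¹, inv_mem hs, by rw [inv_inv]; exact mem_normalizer_of_cj_eq (by rw [← cj_mul, he])⟩
  refine ⟨cj x⁻¹ D₁, ⟨(cj_mono hD₁c.1).trans (cj_eq_of_mem_normalizer
    (Subgroup.le_normalizer (inv_mem hx))).le, by rw [card_cj]; exact hD₁c.2.1,
    by rw [card_cj]; exact hD₁c.2.2⟩, fun a ha => mem_normalizer_of_cj_eq ?_⟩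
  rw [cj_mul, show a * x⁻¹ = x⁻¹ * (x * a * x⁻¹) by group, ← cj_mul,
    cj_eq_of_mem_normalizer (hxS a ha)]

include h in
/-- The fixed point formula on an invariant subgroup of `O_q(S)`. -/
theorem PrimeAction.formula (hD : IsQCompl S D q) (hKD : K ≤ Subgroup.normalizer (D : Set G))
    {N : Subgroup G} (hN : N ≤ opCore q S) (hDN : D ≤ Subgroup.normalizer (N : Set G))
    (hKN : K ≤ Subgroup.normalizer (N : Set G)) {E : Subgroup G} (hE : E ≤ K) (hE1 : E ≠ ⊥) :
    Nat.card ↥(N ⊓ Subgroup.centralizer (D : Set G) ⊓ Subgroup.centralizer (K : Set G)) ^ Nat.card E *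
        Nat.card N =
      Nat.card ↥(N ⊓ Subgroup.centralizer (K : Set G)) ^ Nat.card E *
        Nat.card ↥(N ⊓ Subgroup.centralizer (D : Set G)) := by
  have := Fact.mk h.prime
  have hED : E ≤ Subgroup.normalizer (D : Set G) := hE.trans hKD
  have hNS : N ≤ S := hN.trans (opCore_le q S)
  have hfpf : ∀ e ∈ E, e ≠ 1 → ∀ u ∈ D, e * u = u * e → u = 1 := by
    intro e he he1 u hu heu
    refine Subgroup.mem_bot.mp (hD.inf_eq h ▸ (⟨hu, h.fixed_le_opCore ?_⟩ : u ∈ D ⊓ opCore q S))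
    rw [← h.action e (hE he) he1]
    exact ⟨hD.1 hu, Subgroup.mem_centralizer_singleton_iff.mpr heu.symm⟩
  have hNK : N ⊓ Subgroup.centralizer (E : Set G) = N ⊓ Subgroup.centralizer (K : Set G) := by
    refine le_antisymm (fun x hx => ⟨hx.1, ?_⟩)
      (inf_le_inf le_rfl (Subgroup.centralizer_le fun _ hz => hE hz))
    obtain ⟨e, he, he1⟩ := (Subgroup.bot_or_exists_ne_one E).resolve_left hE1
    have h1 : x ∈ S ⊓ Subgroup.centralizer ({e} : Set G) := ⟨hNS hx.1,
      Subgroup.mem_centralizer_singleton_iff.mpr (Subgroup.mem_centralizer_iff.mp hx.2 e he).symm⟩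
    rw [h.action e (hE he) he1] at h1
    exact h1.2
  have hNDE : N ⊓ Subgroup.centralizer ((D ⊔ E : Subgroup G) : Set G) =
      N ⊓ Subgroup.centralizer (D : Set G) ⊓ Subgroup.centralizer (K : Set G) := by
    refine le_antisymm (fun x hx => ?_) (fun x hx => ⟨hx.1.1, ?_⟩)
    · have h1 : x ∈ N ⊓ Subgroup.centralizer (E : Set G) :=
        ⟨hx.1, Subgroup.centralizer_le (fun _ hz => Subgroup.mem_sup_right hz) hx.2⟩
      rw [hNK] at h1
      exact ⟨⟨hx.1, Subgroup.centralizer_le (fun _ hz => Subgroup.mem_sup_left hz) hx.2⟩, h1.2⟩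
    · have h1 : D ⊔ E ≤ Subgroup.centralizer ({x} : Set G) := sup_le
        (fun d hd => Subgroup.mem_centralizer_singleton_iff.mpr (Subgroup.mem_centralizer_iff.mp hx.1.2 d hd))
        (fun e he => Subgroup.mem_centralizer_singleton_iff.mpr
          (Subgroup.mem_centralizer_iff.mp hx.2 e (hE he)))
      exact Subgroup.mem_centralizer_iff.mpr fun y hy =>
        Subgroup.mem_centralizer_singleton_iff.mp (h1 hy)
  have hsolv : Group.IsSolvable N := by
    have := h.solvableS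
    exact Group.isSolvable_of_isSolvable_injective (Subgroup.inclusion_injective hNS)
  have hcop : (Nat.card N).Coprime (Nat.card ↥(D ⊔ E)) := by
    obtain ⟨n, hn⟩ := ((opCore_isPGroup q S).to_le hN).exists_card_eq
    rw [hn]
    refine ((h.prime.coprime_iff_not_dvd).mpr fun hd => ?_).pow_left n
    rw [sup_comm] at hd
    rcases h.prime.dvd_mul.mp (hd.trans (card_sup_dvd_mul hED)) with h1 | h1
    · refine Nat.Prime.not_coprime_iff_dvd.mpr ⟨q, h.prime, h1.trans (Subgroup.card_dvd_of_le hE),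
        (dvd_of_eq h.card_fixed.symm).trans (Subgroup.card_dvd_of_le inf_le_left)⟩ h.coprime
    · exact hD.2.1 h1
  have hf := FixedFormula.fixed_formula D E hE1 hED (FixedFormula.coprime_of_fpf hED hfpf) hfpf N
    (sup_le hDN (hE.trans hKN)) hsolv hcop
  rwa [hNK, hNDE] at hf

include h in
/-- BG 15.2: the section `Q / C_Q(D)`. -/
theorem PrimeAction.structure_Q (hDc : IsQCompl S D q) :
    (Nat.card K).Prime ∧
      M ≤ Subgroup.normalizer ((opCore q S ⊓ Subgroup.centralizer (D : Set G) : Subgroup G) : Set G) ∧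
      opCore q S ⊓ Subgroup.centralizer (D : Set G) < opCore q S ∧
      Nat.card (opCore q S) = Nat.card ↥(opCore q S ⊓ Subgroup.centralizer (D : Set G)) * q ^ Nat.card K ∧
      (∀ a ∈ opCore q S, ∀ b ∈ opCore q S, a ^ q ∈ opCore q S ⊓ Subgroup.centralizer (D : Set G) ∧
        a * b * a⁻¹ * b⁻¹ ∈ opCore q S ⊓ Subgroup.centralizer (D : Set G)) ∧
      ∀ N : Subgroup G, opCore q S ⊓ Subgroup.centralizer (D : Set G) < N → N < opCore q S →
        ¬ M ≤ Subgroup.normalizer (N : Set G) := by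
  have hq := Fact.mk h.prime
  set Q := opCore q S with hQ
  have hQp : IsPGroup q Q := opCore_isPGroup q S
  obtain ⟨D₀, hD₀, hKD⟩ := h.exists_invariant_qCompl
  set C := S ⊓ Subgroup.centralizer (K : Set G) with hC
  set Q₀ := Q ⊓ Subgroup.centralizer (D₀ : Set G) with hQ₀
  have hDM : D₀ ≤ M := hD₀.1.trans h.le
  have hQM : M ≤ Subgroup.normalizer (Q : Set G) := h.opCore_normalized
  have hCQ : C ≤ Q := h.fixed_le_opCore
  have hcentN : ∀ {g : G}, g ∈ Subgroup.normalizer (D₀ : Set G) →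
      g ∈ Subgroup.normalizer (Subgroup.centralizer (D₀ : Set G) : Set G) := fun {g} hg =>
    mem_normalizer_of_cj_eq (by rw [OddOrder41.cj_centralizer, cj_eq_of_mem_normalizer hg])
  have hQ₀n : ∀ {g : G}, g ∈ M → g ∈ Subgroup.normalizer (D₀ : Set G) →
      g ∈ Subgroup.normalizer (Q₀ : Set G) := fun {g} hgM hg => mem_normalizer_inf (hQM hgM) (hcentN hg)
  have hfix : ∀ {N : Subgroup G}, N ≤ Q → N ⊓ C = ⊥ ∨ C ≤ N := fun {N} _ => by
    have hd := Subgroup.card_dvd_of_le (inf_le_right : N ⊓ C ≤ C)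
    rw [h.card_fixed] at hd
    rcases (Nat.dvd_prime h.prime).mp hd with h1 | h1
    · exact Or.inl (Subgroup.card_eq_one.mp h1)
    · exact Or.inr ((Subgroup.eq_of_le_of_card_ge (inf_le_right : N ⊓ C ≤ C)
        (by rw [h.card_fixed, h1])).ge.trans inf_le_left)
  have hNK : ∀ {N : Subgroup G}, N ≤ Q → N ⊓ Subgroup.centralizer (K : Set G) = N ⊓ C := fun {N} hN => by
    rw [hC, ← inf_assoc, inf_eq_left.mpr (hN.trans (opCore_le q S))]
  have hC0 : Q₀ ⊓ C = ⊥ := by
    refine (hfix (inf_le_left : Q₀ ≤ Q)).resolve_right fun hle => hD₀.not_centralizes h ?_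
    have hf := h.formula hD₀ hKD le_rfl (hDM.trans hQM) (h.leK.trans hQM) le_rfl h.ne_bot
    rw [← hQ, hNK (inf_le_left : Q ⊓ _ ≤ Q), ← hQ₀, inf_eq_right.mpr hle, hNK le_rfl,
      inf_eq_right.mpr hCQ] at hf
    exact (Subgroup.eq_of_le_of_card_ge (inf_le_left : Q₀ ≤ Q)
      (Nat.eq_of_mul_eq_mul_left (pow_pos Nat.card_pos _) hf).le).ge.trans inf_le_right
  -- the formula without denominator
  have key : ∀ {N E : Subgroup G}, N ≤ Q → D₀ ≤ Subgroup.normalizer (N : Set G) →
      K ≤ Subgroup.normalizer (N : Set G) → E ≤ K → E ≠ ⊥ →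
      Nat.card N = Nat.card ↥(N ⊓ C) ^ Nat.card E * Nat.card ↥(N ⊓ Subgroup.centralizer (D₀ : Set G)) := by
    intro N E hN hDN hKN hE hE1
    have hf := h.formula hD₀ hKD hN hDN hKN hE hE1
    have hbot : N ⊓ Subgroup.centralizer (D₀ : Set G) ⊓ Subgroup.centralizer (K : Set G) = ⊥ := by
      rw [hNK (inf_le_left.trans hN), ← le_bot_iff, ← hC0]
      exact inf_le_inf (inf_le_inf hN le_rfl) le_rfl
    rwa [hbot, hNK hN, Subgroup.card_bot, one_pow, one_mul] at hf
  have hQcard : ∀ {E : Subgroup G}, E ≤ K → E ≠ ⊥ → Nat.card Q = q ^ Nat.card E * Nat.card Q₀ :=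
    fun {E} hE hE1 => by
      have hf := key le_rfl (hDM.trans hQM) (h.leK.trans hQM) hE hE1
      rwa [inf_eq_right.mpr hCQ, h.card_fixed, ← hQ₀] at hf
  have hKp : (Nat.card K).Prime := by
    obtain ⟨p, hp, hpd⟩ := Nat.exists_prime_and_dvd (n := Nat.card K)
      fun e => h.ne_bot (Subgroup.card_eq_one.mp e)
    have := Fact.mk hp
    obtain ⟨k, hk⟩ := exists_prime_orderOf_dvd_card' (G := K) p hpd
    have hko : orderOf (k : G) = p := by rw [Subgroup.orderOf_coe, hk]
    have h1 := (hQcard (Subgroup.zpowers_le.mpr k.2)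
      (Subgroup.zpowers_ne_bot.mpr fun e => hp.ne_one (by rw [← hko, e, orderOf_one]))).symm.trans
      (hQcard le_rfl h.ne_bot)
    rw [Nat.card_zpowers, hko] at h1
    rw [← Nat.pow_right_injective h.prime.two_le (Nat.eq_of_mul_eq_mul_right Nat.card_pos h1)]
    exact hp
  have hlt : Q₀ < Q := lt_of_le_of_ne inf_le_left fun e => hD₀.not_centralizes h (le_inf_iff.mp e.ge).2
  -- commutators and powers
  set Φ := phiSub Q q with hΦ
  have hΦQ₀ : Φ ≤ Q₀ := by
    have hΦn : ∀ {g : G}, g ∈ M → g ∈ Subgroup.normalizer (Φ : Set G) := fun hg =>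
      mem_normalizer_phiSub Q q (hQM hg)
    rcases hfix (phiSub_le Q q) with h1 | h1
    · have hf := key (phiSub_le Q q) (fun d hd => hΦn (hDM hd)) (fun k hk => hΦn (h.leK hk)) le_rfl h.ne_bot
      rw [h1, Subgroup.card_bot, one_pow, one_mul] at hf
      exact le_inf (phiSub_le Q q) ((Subgroup.eq_of_le_of_card_ge inf_le_left hf.le).ge.trans inf_le_right)
    · exfalso
      set X := Q₀ ⊔ Φ with hX
      have hXQ : X ≤ Q := sup_le inf_le_left (phiSub_le Q q)
      have hXn : ∀ {g : G}, g ∈ M → g ∈ Subgroup.normalizer (D₀ : Set G) →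
          g ∈ Subgroup.normalizer (X : Set G) := fun {g} hgM hg => by
        refine mem_normalizer_of_cj_eq ?_
        rw [hX, Transitivity.cj, Subgroup.map_sup]
        exact congrArg₂ (· ⊔ ·) (cj_eq_of_mem_normalizer (hQ₀n hgM hg)) (cj_eq_of_mem_normalizer (hΦn hgM))
      have hf := key hXQ (fun d hd => hXn (hDM hd) (Subgroup.le_normalizer hd))
        (fun k hk => hXn (h.leK hk) (hKD hk)) le_rfl h.ne_bot
      have hXD : X ⊓ Subgroup.centralizer (D₀ : Set G) = Q₀ :=
        le_antisymm (inf_le_inf hXQ le_rfl) (le_inf le_sup_left inf_le_right)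
      rw [inf_eq_right.mpr (h1.trans le_sup_right), h.card_fixed, hXD, ← hQcard le_rfl h.ne_bot] at hf
      exact hlt.ne (eq_of_sup_phiSub hQp inf_le_left (Subgroup.eq_of_le_of_card_ge hXQ hf.ge).ge)
  have hcomm : ⁅Q, Q⁆ ≤ Q₀ := le_sup_left.trans hΦQ₀
  have hpow : ∀ x ∈ Q, x ^ q ∈ Q₀ := fun x hx =>
    hΦQ₀ (le_sup_right (a := ⁅Q, Q⁆) (Subgroup.subset_closure ⟨x, hx, rfl⟩))
  have hQn : Q ≤ Subgroup.normalizer (Q₀ : Set G) := fun x hx =>
    CfsgLib.Coprime.mem_normalizer_of_forall_conj (fun y hy => by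
      have h1 := mul_mem (hcomm (Subgroup.commutator_mem_commutator hx (Subgroup.mem_inf.mp hy).1)) hy
      rwa [commutatorElement_def, inv_mul_cancel_right] at h1)
  have hMn : M ≤ Subgroup.normalizer (Q₀ : Set G) :=
    h.join.trans (sup_le (fun k hk => hQ₀n (h.leK hk) (hKD hk)) ((hD₀.le_sup h).trans
      (sup_le (fun d hd => hQ₀n (hDM hd) (Subgroup.le_normalizer hd)) hQn)))
  -- an arbitrary complement
  have hQ₀D : Q ⊓ Subgroup.centralizer (D : Set G) = Q₀ := by
    obtain ⟨s, hs, rfl⟩ := hDc.exists_conj h hD₀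
    conv_rhs => rw [← cj_eq_of_mem_normalizer (hMn (h.le hs)), hQ₀, Transitivity.cj,
      Subgroup.map_inf _ _ _ (MulAut.conj s).injective]
    rw [← OddOrder41.cj_centralizer]
    exact congrArg₂ (· ⊓ ·) (cj_eq_of_mem_normalizer (hQM (h.le hs))).symm rfl
  rw [hQ₀D]
  refine ⟨hKp, hMn, hlt, by rw [hQcard le_rfl h.ne_bot, mul_comm], fun a ha b hb => ⟨hpow a ha, ?_⟩,
    fun N h1 h2 hMN => ?_⟩
  · rw [← commutatorElement_def]
    exact hcomm (Subgroup.commutator_mem_commutator ha hb)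
  · have hf := key h2.le (hDM.trans hMN) (h.leK.trans hMN) le_rfl h.ne_bot
    have hND : N ⊓ Subgroup.centralizer (D₀ : Set G) = Q₀ :=
      le_antisymm (inf_le_inf h2.le le_rfl) (le_inf h1.le inf_le_right)
    rw [hND] at hf
    rcases hfix h2.le with h3 | h3
    · rw [h3, Subgroup.card_bot, one_pow, one_mul] at hf
      exact h1.ne (Subgroup.eq_of_le_of_card_ge h1.le hf.le)
    · rw [inf_eq_right.mpr h3, h.card_fixed, ← hQcard le_rfl h.ne_bot] at hf
      exact h2.ne (Subgroup.eq_of_le_of_card_ge h2.le hf.ge)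

end CfsgLib.OddOrder38
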