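import Mathlib
import Cfsg.Agent.Lib.OddOrder38.PrimeAction37b
import Cfsg.Agent.Lib.OddOrder38.Count14
import Cfsg.Agent.Lib.OddOrder38.PlaneP2
import Cfsg.Agent.Lib.OddOrder41.Sigma12Inter
import Cfsg.Agent.Lib.OddOrder41.Sigma14NonP1
import Cfsg.Agent.Lib.OddOrder41.Sigma12Inst

/-!
# BG 15.2 (S1437): `M` with `M_F ≠ M_σ`
-/

set_option autoImplicit false

namespace CfsgLib.OddOrder38

open Subgroup CfsgLib.OddOrder CfsgLib.OddOrder.Transitivity CfsgLib.OddOrder41
open scoped commutatorElement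

universe u

variable {G : Type u} [Group G] [Finite G] (hG : Cfsg.IsMinSimpleOddOrder G) (hI : Inputs G)

include hG hI in
/-- A Hall `κ`-subgroup of a maximal subgroup of type `P₂` has prime order. -/
theorem kappa_hall_prime {M K : Subgroup G} (hM : IsCoatom M)
    (hK : Cfsg.IsPiHallOf (Cfsg.kappa M) K M) (hK1 : K ≠ ⊥) {r : ℕ} [hr : Fact r.Prime]
    (hrM : r ∣ Nat.card M) (hrσ : r ∉ Cfsg.sigma M) (hrκ : r ∉ Cfsg.kappa M) :
    (Nat.card K).Prime := by
  obtain ⟨q, hq, hqd⟩ := Nat.exists_prime_and_dvd (n := Nat.card K) fun e => hK1 (Subgroup.card_eq_one.mp e)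
  have := Fact.mk hq
  obtain ⟨a', ha'⟩ := exists_prime_orderOf_dvd_card' (G := K) q hqd
  set a : G := (a' : G) with hadef
  have haK : a ∈ K := a'.2
  have hao : orderOf a = q := by rw [hadef, Subgroup.orderOf_coe, ha']
  have ha1 : a ≠ 1 := fun e => hq.ne_one (by rw [← hao, e, orderOf_one])
  obtain ⟨P, hPM, hPc, hKP, hPC, -⟩ := exists_fpf_subgroup hG hI hM hK hK1 hrM hrσ hrκ
  set S := Cfsg.sigmaCore M with hS
  have := minSimple_solvable hG hM.1
  have hsolv : Group.IsSolvable S :=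
    Group.isSolvable_of_isSolvable_injective (Subgroup.inclusion_injective (sigmaCore_le M))
  have hform : ∀ E : Subgroup G, E ≤ K → E ≠ ⊥ →
      Nat.card S = Nat.card ↥(S ⊓ Subgroup.centralizer (K : Set G)) ^ Nat.card E := by
    intro E hEK hE1
    have hEP : E ≤ Subgroup.normalizer (P : Set G) := hEK.trans hKP
    have hfpf : ∀ e ∈ E, e ≠ 1 → ∀ u ∈ P, e * u = u * e → u = 1 := by
      intro e he he1 u hu heu
      by_contra hu1
      obtain ⟨p, hp, hpd⟩ := Nat.exists_prime_and_dvd (n := orderOf u)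
        fun h => hu1 (orderOf_eq_one_iff.mp h)
      have hpr := hPc p hp (hpd.trans (Subgroup.orderOf_dvd_natCard _ hu))
      rcases mem_kappa_union_sigma_of_commute hG hI hM hK (hEK he) he1 (hPM hu) heu hp hpd with h1 | h1
      · exact hrκ (hpr ▸ h1)
      · exact hrσ (hpr ▸ h1)
    have hcop : (Nat.card S).Coprime (Nat.card ↥(P ⊔ E)) := Nat.coprime_of_dvd fun p hp h1 h2 => by
      have hpσ : p ∈ Cfsg.sigma M := piNat_card_piCoreOf (Cfsg.sigma M) M p hp h1
      rw [sup_comm] at h2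
      rcases hp.dvd_mul.mp (h2.trans (card_sup_dvd_mul hEP)) with h3 | h3
      · exact (hK.2.1 p hp (h3.trans (Subgroup.card_dvd_of_le hEK))).2.2.1 hpσ
      · exact hrσ (hPc p hp h3 ▸ hpσ)
    have hf := FixedFormula.fixed_formula P E hE1 hEP (FixedFormula.coprime_of_fpf hEP hfpf) hfpf S
      ((sup_le hPM (hEK.trans hK.1)).trans (piCoreOf_normal _ _)) hsolv hcop
    obtain ⟨e, he, he1⟩ := (Subgroup.bot_or_exists_ne_one E).resolve_left hE1
    have hSE : S ⊓ Subgroup.centralizer (E : Set G) = S ⊓ Subgroup.centralizer (K : Set G) :=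
      le_antisymm ((inf_le_inf le_rfl (Subgroup.centralizer_le (Set.singleton_subset_iff.mpr he))).trans
        ((hI.kappaHall M hM K hK hK1).1 e (hEK he) he1).le)
        (inf_le_inf le_rfl (Subgroup.centralizer_le fun _ hx => hEK hx))
    have hSPE : S ⊓ Subgroup.centralizer ((P ⊔ E : Subgroup G) : Set G) = ⊥ :=
      le_bot_iff.mp (hPC ▸ inf_le_inf le_rfl (Subgroup.centralizer_le fun _ hz => Subgroup.mem_sup_left hz))
    rwa [hSE, hPC, hSPE, Subgroup.card_bot, one_pow, one_mul, mul_one] at hf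
  have h1 := (hform (Subgroup.zpowers a) (Subgroup.zpowers_le.mpr haK) (Subgroup.zpowers_ne_bot.mpr ha1)).symm.trans
    (hform K le_rfl hK1)
  rw [Nat.card_zpowers, hao] at h1
  have hc2 : 2 ≤ Nat.card ↥(S ⊓ Subgroup.centralizer (K : Set G)) :=
    (Subgroup.one_lt_card_iff_ne_bot _).mpr (kstar_ne_bot hI hM hK hK1)
  rw [← Nat.pow_right_injective hc2 h1]
  exact hq

include hG hI in
/-- S1437, given the partner of `M` (BG 14.7 (a)). -/
theorem fitting_hall_ne_sigma
    (M : Subgroup G) (hM : IsCoatom M) (K U : Subgroup G) (hKU : Cfsg.IsSigmaDecomposition M K U) (hne : Cfsg.fittingHallOf M ≠ Cfsg.sigmaCore M)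
    (hpair : K ≠ ⊥ → ∃ Mstar : Subgroup G, IsCoatom Mstar ∧
      K = Cfsg.sigmaCore Mstar ⊓ Subgroup.centralizer ((Cfsg.sigmaCore M ⊓ Subgroup.centralizer (K : Set G) : Subgroup G) : Set G) ∧
      Cfsg.IsPiHallOf (Cfsg.kappa Mstar) (Cfsg.sigmaCore M ⊓ Subgroup.centralizer (K : Set G)) Mstar) :
    U = ⊥ ∧ Cfsg.sigmaCore M = ⁅M, M⁆ ∧ (Nat.card K).Prime ∧ (Nat.card ↥(Cfsg.sigmaCore M ⊓ Subgroup.centralizer (K : Set G))).Prime ∧
      Nat.card ↥(Cfsg.sigmaCore M ⊓ Subgroup.centralizer (K : Set G)) ∣ Nat.card (Cfsg.fittingHallOf M) ∧ Nat.card ↥(Cfsg.sigmaCore M ⊓ Subgroup.centralizer (K : Set G)) ∈ Cfsg.beta M ∧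
      ∃ Q : Subgroup G, Q ≤ Cfsg.fittingHallOf M ∧ M ≤ Subgroup.normalizer (Q : Set G) ∧ IsPGroup (Nat.card ↥(Cfsg.sigmaCore M ⊓ Subgroup.centralizer (K : Set G))) Q ∧
        ¬ Nat.card ↥(Cfsg.sigmaCore M ⊓ Subgroup.centralizer (K : Set G)) ∣ Q.relIndex (Cfsg.sigmaCore M) ∧
        ∀ D : Subgroup G, Cfsg.IsComplIn Q D (Cfsg.sigmaCore M) →
          Group.IsNilpotent D ∧ M ≤ Subgroup.normalizer ((Q ⊓ Subgroup.centralizer (D : Set G) : Subgroup G) : Set G) ∧
          Q ⊓ Subgroup.centralizer (D : Set G) < Q ∧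
          Nat.card Q = Nat.card ↥(Q ⊓ Subgroup.centralizer (D : Set G)) * Nat.card ↥(Cfsg.sigmaCore M ⊓ Subgroup.centralizer (K : Set G)) ^ Nat.card K ∧
          (∀ a ∈ Q, ∀ b ∈ Q, a ^ Nat.card ↥(Cfsg.sigmaCore M ⊓ Subgroup.centralizer (K : Set G)) ∈ Q ⊓ Subgroup.centralizer (D : Set G) ∧
            a * b * a⁻¹ * b⁻¹ ∈ Q ⊓ Subgroup.centralizer (D : Set G)) ∧
          ∀ N : Subgroup G, Q ⊓ Subgroup.centralizer (D : Set G) < N → N < Q → ¬ M ≤ Subgroup.normalizer (N : Set G) := by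
  set S := Cfsg.sigmaCore M with hS
  have hSM : S ≤ M := sigmaCore_le M
  have hall := (Sigma10.sigmaCore_hall hG hM).1
  have hSn : M ≤ Subgroup.normalizer (S : Set G) := piCoreOf_normal _ _
  have hK := hKU.hall
  have hnil : ¬ Group.IsNilpotent S := fun hn =>
    hne (fittingHallOf_eq_sigmaCore hG hM hn fun p hp => hp.2.2.2)
  -- type `P₁`
  have hP1 : ∀ r : ℕ, r.Prime → r ∣ Nat.card M → r ∉ Cfsg.sigma M → r ∈ Cfsg.kappa M := by
    intro r hr hrM hrσ
    by_contra hrκ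
    have := Fact.mk hr
    obtain ⟨T⟩ : Nonempty (Sylow r M) := inferInstance
    exact hnil (small_omega_of_not_kappa hG (propTauTwoStructure hG) hM hrM
      (fun h => h.elim hrσ hrκ) T).2.2
  have hcardM := card_eq_of_type_one hG hM hK hP1
  have hKS : K ⊓ S = ⊥ := Subgroup.inf_eq_bot_of_coprime (Nat.coprime_of_dvd fun r hr h1 h2 =>
    (hK.2.1 r hr h1).2.2.1 (piNat_card_piCoreOf (Cfsg.sigma M) M r hr h2))
  have hjoin : M ≤ K ⊔ S := by
    refine (Subgroup.eq_of_le_of_card_ge (sup_le hK.1 hSM) (le_of_eq ?_)).ge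
    rw [CfsgLib.Coprime.card_sup_of_disjoint (hK.1.trans hSn) (by rw [inf_comm]; exact hKS), hcardM]
  have hE : Cfsg.IsComplIn K S M := by
    refine ⟨hK.1, hSM, hKS, fun m hm => ?_⟩
    exact CfsgLib.Coprime.exists_mul_of_mem_sup (hK.1.trans hSn) (hjoin hm)
  have hcomm : ⁅S, K⁆ = S := commutator_sigmaCore_compl hG hM hE
  have hK1 : K ≠ ⊥ := fun e => hnil (by
    rw [e, Subgroup.commutator_bot_right] at hcomm
    rw [← hcomm]
    infer_instance)
  have hU : U = ⊥ := by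
    refine Subgroup.card_eq_one.mp ?_
    by_contra hne'
    obtain ⟨r, hr, hrd⟩ := Nat.exists_prime_and_dvd hne'
    have h1 := (decomp_U_hall hG hM hKU).2.1 r hr hrd
    exact h1.2.1 (hP1 r hr (hrd.trans (Subgroup.card_dvd_of_le hKU.compl.1)) h1.2.2)
  obtain ⟨Mstar, hMstar, hKst, hKstH⟩ := hpair hK1
  set C := S ⊓ Subgroup.centralizer (K : Set G) with hC
  have hq : (Nat.card C).Prime := by
    by_contra hnp
    refine not_both_type_one hG hI hM hK hK1 hMstar hKst hKstH hP1 fun r hr hrM hrσ => ?_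
    by_contra hrκ
    have := Fact.mk hr
    exact hnp (kappa_hall_prime hG hI hMstar hKstH (kstar_ne_bot hI hM hK hK1) hrM hrσ hrκ)
  set q := Nat.card C with hqdef
  have hqf := Fact.mk hq
  have hMM : S = ⁅M, M⁆ := by
    refine le_antisymm (Sigma11.sigmaCore_le_derived hG hM) ?_
    set N := S.subgroupOf M with hN
    have hNn : N.Normal := (Subgroup.normal_subgroupOf_iff_le_normalizer hSM).mpr hSn
    have hcyc := hKU.cyclic
    set π := QuotientGroup.mk' N with hπ
    have him : ∀ x : M, ∃ k ∈ K, ∃ hk : k ∈ M, π x = π ⟨k, hk⟩ := fun x => by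
      obtain ⟨k, hk, s, hs, he⟩ := hE.2.2.2 x x.2
      refine ⟨k, hk, hK.1 hk, ?_⟩
      rw [show x = ⟨k, hK.1 hk⟩ * ⟨s, hSM hs⟩ from Subtype.ext he, map_mul]
      have : π ⟨s, hSM hs⟩ = 1 := (QuotientGroup.eq_one_iff _).mpr hs
      rw [this, mul_one]
    have hc : ∀ x y : M, π (x * y) = π (y * x) := fun x y => by
      obtain ⟨k, hk, hk', hx⟩ := him x
      obtain ⟨l, hl, hl', hy⟩ := him y
      rw [map_mul, map_mul, hx, hy, ← map_mul, ← map_mul]
      exact congrArg π (Subtype.ext (mul_comm_of_mem (IsCyclic.isMulCommutative (α := K)) hk hl))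
    refine Subgroup.commutator_le.mpr fun x hx y hy => ?_
    have h1 : π ⁅(⟨x, hx⟩ : M), ⟨y, hy⟩⁆ = 1 := by
      rw [map_commutatorElement, commutatorElement_eq_one_iff_mul_comm, ← map_mul, ← map_mul]
      exact hc _ _
    have h2 : ⁅(⟨x, hx⟩ : M), ⟨y, hy⟩⁆ ∈ N := (QuotientGroup.eq_one_iff _).mp h1
    exact h2
  have h : PrimeAction M S K q :=
    { le := hSM, leK := hK.1, normal := hSn, join := hjoin
      coprime := Nat.coprime_of_dvd fun r hr h1 h2 =>
        (hK.2.1 r hr h1).2.2.1 (piNat_card_piCoreOf (Cfsg.sigma M) M r hr h2)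
      ne_bot := hK1, solvable := minSimple_solvable hG hM.1, odd := minSimple_odd hG M
      comm := hcomm, prime := hq, card_fixed := rfl
      action := (hI.kappaHall M hM K hK hK1).1
      not_nilpotent := hnil }
  set Q := opCore q S with hQ
  have hQS : Q ≤ S := opCore_le q S
  have hQp : IsPGroup q Q := opCore_isPGroup q S
  have hQidx := h.sylow_opCore.1
  have hqσ : q ∈ Cfsg.sigma M := piNat_card_piCoreOf (Cfsg.sigma M) M q hq
    (Subgroup.card_dvd_of_le (inf_le_left : C ≤ S))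
  have hQM : Q ≤ M := hQS.trans hSM
  have hQF : Q ≤ Cfsg.fittingHallOf M := by
    rw [Cfsg.fittingHallOf, ← Subgroup.map_subgroupOf_eq_of_le hQM]
    refine Subgroup.map_mono (le_sSup ⟨?_, ?_, ?_⟩)
    · exact (Subgroup.normal_subgroupOf_iff_le_normalizer hQM).mpr h.opCore_normalized
    · have := hQp.isNilpotent
      exact (Group.isNilpotent_congr (Subgroup.subgroupOfEquivOfLe hQM)).mpr inferInstance
    · rw [Nat.card_congr (Subgroup.subgroupOfEquivOfLe hQM).toEquiv]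
      obtain ⟨n, hn⟩ := hQp.exists_card_eq
      rw [hn]
      refine ((hq.coprime_iff_not_dvd).mpr fun hd => ?_).pow_left n
      have hd' : q ∣ Q.relIndex S * S.relIndex M := by
        rw [Subgroup.relIndex_mul_relIndex Q S M hQS hSM]
        exact hd
      exact (hq.dvd_mul.mp hd').elim hQidx (hall.2.2 q hq hqσ)
  have hCQ := h.fixed_le_opCore
  have hβ : q ∈ Cfsg.beta M := by
    by_contra hβ
    obtain ⟨P, N, hNn, hNP⟩ := (Sigma10.derived_complement hG hM
      (fun p _ => Sigma10.pLengthLE_one_proper hG p) (Sigma10.propFiveFive hG) hq hβ).1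
    set D := N.map (⁅M, M⁆ : Subgroup G).subtype with hD
    have hDS : D ≤ S := hMM ▸ Subgroup.map_subtype_le N
    have hDc : Nat.card D = Nat.card N := Subgroup.card_map_of_injective (Subgroup.subtype_injective _)
    have hqN : ¬ q ∣ Nat.card N := by
      rw [← hNP.index_eq_card]
      exact P.not_dvd_index
    have e1 := card_mul_relIndex_of_le hQS
    have e2 : Nat.card N * N.index = Nat.card S := by
      rw [Subgroup.card_mul_index N, hMM]
    obtain ⟨n, hn⟩ := hQp.exists_card_eq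
    obtain ⟨m, hm⟩ := P.isPGroup'.exists_card_eq
    have hidx : N.index = q ^ m := hNP.symm.index_eq_card.trans hm
    have hDq : IsQCompl S D q := by
      refine ⟨hDS, hDc ▸ hqN, ?_⟩
      rw [hDc, ← hQ, ← e1, mul_comm]
      congr 1
      refine Nat.dvd_antisymm (Nat.Coprime.dvd_of_dvd_mul_left ?_ (e1.symm ▸ e2 ▸ dvd_mul_right _ _))
        (Nat.Coprime.dvd_of_dvd_mul_right ?_ (e2.symm ▸ e1 ▸ dvd_mul_left _ _))
      · rw [hn]
        exact ((hq.coprime_iff_not_dvd).mpr hqN).symm.pow_right n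
      · rw [hidx]
        exact ((hq.coprime_iff_not_dvd).mpr hQidx).symm.pow_right m
    refine hDq.not_centralizes h (commute_of_normalizes ?_ ?_ fun x hx hxD => ?_)
    · rw [hD]
      exact hQS.trans (hMM.le.trans (map_subtype_normalized N))
    · exact hDS.trans (hSM.trans h.opCore_normalized)
    · exact Subgroup.mem_bot.mp (hDq.inf_eq h ▸ (⟨hxD, hx⟩ : x ∈ D ⊓ opCore q S))
  have hQdvd : q ∣ Nat.card Q := Subgroup.card_dvd_of_le hCQ
  have hKprime : (Nat.card K).Prime := by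
    obtain ⟨D₀, hD₀, -⟩ := h.exists_invariant_qCompl
    exact (h.structure_Q hD₀).1
  refine ⟨hU, hMM, hKprime, hq, hQdvd.trans (Subgroup.card_dvd_of_le hQF), hβ, Q, hQF, h.opCore_normalized,
    hQp, hQidx, fun D hD => ?_⟩
  have hDq : IsQCompl S D q := by
    refine ⟨hD.2.1, ?_, ?_⟩
    · rw [← IsComplIn.relIndex_left hD]
      exact hQidx
    · rw [← IsComplIn.relIndex_left hD, mul_comm]
      exact card_mul_relIndex_of_le hQS
  exact ⟨hDq.nilpotent h, (h.structure_Q hDq).2⟩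

end CfsgLib.OddOrder38
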