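import Mathlib
import Cfsg.Agent.Lib.OddOrder38.Main1435
import Cfsg.Agent.Lib.OddOrder38.PrimeAction37
import Cfsg.Agent.Lib.OddOrder.Sigma12
import Cfsg.Agent.Lib.OddOrder41.Sigma14CyclicInput
import Cfsg.Agent.Lib.OddOrder41.Sigma14Inputs
import Cfsg.Agent.S1352
import Cfsg.Agent.S1437

/-!
# S1438 (BG 15.1): centralizer and fusion for a Hall subgroup of `M_σ`
-/

set_option autoImplicit false

namespace CfsgLib.OddOrder38

open Subgroup CfsgLib.OddOrder CfsgLib.OddOrder.Transitivity CfsgLib.OddOrder41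
open scoped commutatorElement

universe u

variable {G : Type u} [Group G] [Finite G]

/-- Fusion in a Hall subgroup `H` of `S = Q D`, `Q` a normal Sylow subgroup of `S` or trivial, `D` nilpotent. -/
theorem fusion_of_nilpotent_quotient {M S Q D H : Subgroup G} [Group.IsSolvable M] {q : ℕ}
    (hq : q.Prime) (hSM : S ≤ M) (hMS : M ≤ Subgroup.normalizer (S : Set G)) (hQS : Q ≤ S)
    (hMQ : M ≤ Subgroup.normalizer (Q : Set G)) (hQp : IsPGroup q Q) (hD : Cfsg.IsComplIn Q D S)
    (hQidx : Q ≠ ⊥ → ¬ q ∣ Q.relIndex S) (hDn : Group.IsNilpotent D) (hHS : H ≤ S)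
    (hHall : (Nat.card H).Coprime (H.relIndex S)) {x m : G} (hx : x ∈ H) (hm : m ∈ M)
    (hy : m * x * m⁻¹ ∈ H) :
    ∃ n ∈ M ⊓ Subgroup.normalizer (H : Set G), n * x * n⁻¹ = m * x * m⁻¹ := by
  have hqf := Fact.mk hq
  set π : Set ℕ := {p | p.Prime ∧ p ∣ Nat.card H} with hπ
  set ρ : Set ℕ := {p | p.Prime ∧ (p ∣ Nat.card H ∨ p ∣ Nat.card Q)} with hρ
  have hSs : Group.IsSolvable S :=
    Group.isSolvable_of_isSolvable_injective (Subgroup.inclusion_injective hSM)
  have hDS : D ≤ S := hD.2.1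
  have hDs : Group.IsSolvable D := by
    have := hDn
    infer_instance
  -- the normal Hall subgroup `W = Q D_π`
  set Dπ := (Cfsg.piCore π D).map D.subtype with hDπ
  set W := Q ⊔ Dπ with hW
  have hDπD : Dπ ≤ D := Subgroup.map_subtype_le _
  have hWS : W ≤ S := sup_le hQS (hDπD.trans hDS)
  have hDW : D ≤ Subgroup.normalizer (W : Set G) :=
    le_normalizer_sup (hDS.trans (hSM.trans hMQ)) (map_subtype_normalized _)
  have hQW : Q ≤ Subgroup.normalizer (W : Set G) := le_sup_left.trans Subgroup.le_normalizer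
  have hSW : S ≤ Subgroup.normalizer (W : Set G) := fun s hs => by
    obtain ⟨a, ha, b, hb, rfl⟩ := hD.2.2.2 s hs
    exact mul_mem (hQW ha) (hDW hb)
  obtain ⟨K₀, hK₀⟩ := CfsgLib.Hall.exists_isPiHall (G := D) π
  have hcoreHall : Cfsg.IsPiHall π (Cfsg.piCore π D) := by
    have := hDn
    exact CfsgLib.OddOrder.Sigma10.eq_piCore_of_isPiHall_nilpotent hK₀ ▸ hK₀
  have hDπhall : ∀ p : ℕ, p.Prime → p ∈ π → ¬ p ∣ Dπ.relIndex D := fun p hp hpπ hd => by
    refine hcoreHall.2 p hp hpπ ?_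
    rwa [hDπ, Subgroup.relIndex, Subgroup.subgroupOf,
      Subgroup.comap_map_eq_self_of_injective D.subtype_injective] at hd
  have hWidx : ∀ p : ℕ, p.Prime → p ∈ ρ → ¬ p ∣ W.relIndex S := by
    intro p hp hpρ hd
    by_cases hpQ : p ∣ Nat.card Q
    · obtain ⟨n, hn⟩ := hQp.exists_card_eq
      rw [hn] at hpQ
      have hQ1 : Q ≠ ⊥ := fun e => by
        rw [e, Subgroup.card_bot] at hn
        rw [← hn] at hpQ
        exact hp.ne_one (Nat.dvd_one.mp hpQ)
      rw [(Nat.prime_dvd_prime_iff_eq hp hq).mp (hp.dvd_of_dvd_pow hpQ)] at hd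
      refine hQidx hQ1 ?_
      rw [← Subgroup.relIndex_mul_relIndex Q W S le_sup_left hWS]
      exact hd.mul_left _
    · have hpπ : p ∈ π := ⟨hp, hpρ.2.resolve_right hpQ⟩
      refine hDπhall p hp hpπ ?_
      have h1 : p ∣ Dπ.relIndex S := by
        rw [← Subgroup.relIndex_mul_relIndex Dπ W S le_sup_right hWS]
        exact hd.mul_left _
      rw [← Subgroup.relIndex_mul_relIndex Dπ D S hDπD hDS] at h1
      refine (hp.dvd_mul.mp h1).resolve_right fun h2 => hpQ ?_
      have hD' : Cfsg.IsComplIn D Q S := by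
        refine ⟨hD.2.1, hD.1, by rw [inf_comm]; exact hD.2.2.1, fun s hs => ?_⟩
        obtain ⟨a, ha, b, hb, he⟩ := hD.2.2.2 s⁻¹ (inv_mem hs)
        exact ⟨b⁻¹, inv_mem hb, a⁻¹, inv_mem ha, by rw [← inv_inv s, he, mul_inv_rev]⟩
      rwa [IsComplIn.relIndex_left hD'] at h2
  have hunique : ∀ Y : Subgroup G, Y ≤ S → (∀ p : ℕ, p.Prime → p ∣ Nat.card Y → p ∈ ρ) → Y ≤ W := by
    intro Y hY hYρ
    obtain ⟨s, hs, hle⟩ := OddOrder41.exists_conj_into hWS hWidx hY hYρ
    exact (cj_le_iff.mp hle).trans (cj_eq_of_mem_normalizer (hSW (inv_mem hs))).le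
  have hHW : H ≤ W := hunique H hHS fun p hp hd => ⟨hp, Or.inl hd⟩
  have hWM : M ≤ Subgroup.normalizer (W : Set G) := fun g hg => by
    refine mem_normalizer_of_cj_eq (Subgroup.eq_of_le_of_card_ge (hunique _
      ((cj_mono hWS).trans (cj_eq_of_mem_normalizer (hMS hg)).le) fun p hp hd => ?_) (by rw [card_cj]))
    rw [card_cj, hW, sup_comm] at hd
    rcases hp.dvd_mul.mp (hd.trans (card_sup_dvd_mul ((hDπD.trans hDS).trans (hSM.trans hMQ)))) with h1 | h1
    · rw [hDπ, Subgroup.card_map_of_injective D.subtype_injective] at h1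
      exact ⟨hp, Or.inl (hcoreHall.1 p hp h1).2⟩
    · exact ⟨hp, Or.inr h1⟩
  have hHQ : H ≤ Subgroup.normalizer (Q : Set G) := hHS.trans (hSM.trans hMQ)
  have hWeq : W ≤ H ⊔ Q := by
    have hle : H ⊔ Q ≤ W := sup_le hHW le_sup_left
    rw [← Subgroup.relIndex_eq_one]
    by_contra hne
    obtain ⟨p, hp, hd⟩ := Nat.exists_prime_and_dvd hne
    have hpW : p ∣ Nat.card W := hd.trans (Subgroup.relIndex_dvd_card _ _)
    have hsub : ∀ {A : Subgroup G}, A ≤ H ⊔ Q → p ∣ A.relIndex S := fun {A} hA => by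
      rw [← Subgroup.relIndex_mul_relIndex A W S (hA.trans hle) hWS,
        ← Subgroup.relIndex_mul_relIndex A (H ⊔ Q) W hA hle]
      exact (hd.mul_left _).mul_right _
    rw [hW, sup_comm] at hpW
    rcases hp.dvd_mul.mp (hpW.trans (card_sup_dvd_mul ((hDπD.trans hDS).trans (hSM.trans hMQ)))) with h1 | h1
    · rw [hDπ, Subgroup.card_map_of_injective D.subtype_injective] at h1
      exact hp.ne_one (Nat.eq_one_of_dvd_coprimes hHall (hcoreHall.1 p hp h1).2 (hsub le_sup_left))
    · obtain ⟨n, hn⟩ := hQp.exists_card_eq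
      have hpq : p = q := (Nat.prime_dvd_prime_iff_eq hp hq).mp (hp.dvd_of_dvd_pow (hn ▸ h1))
      exact hQidx (fun e => hp.ne_one (Nat.dvd_one.mp (by rwa [e, Subgroup.card_bot] at h1)))
        (hpq ▸ hsub le_sup_right)
  by_cases hqH : q ∣ Nat.card H
  · have hQH : Q ≤ H := by
      obtain ⟨s, hs, hle⟩ := OddOrder41.exists_conj_into (π := π) hHS
        (fun p hp hpπ hd => hp.ne_one (Nat.eq_one_of_dvd_coprimes hHall hpπ.2 hd)) hQS
        (fun p hp hd => by
          obtain ⟨n, hn⟩ := hQp.exists_card_eq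
          rw [(Nat.prime_dvd_prime_iff_eq hp hq).mp (hp.dvd_of_dvd_pow (hn ▸ hd))]
          exact ⟨hq, hqH⟩)
      rwa [cj_eq_of_mem_normalizer (hMQ (hSM hs))] at hle
    have hHeq : H = W := le_antisymm hHW (hWeq.trans (sup_le le_rfl hQH))
    exact ⟨m, ⟨hm, hHeq ▸ hWM hm⟩, rfl⟩
  have hHQbot : ∀ z ∈ H, z ∈ Q → z = 1 := fun z hz hzQ => by
    obtain ⟨n, hn⟩ := hQp.exists_card_eq
    refine orderOf_eq_one_iff.mp (Nat.eq_one_of_dvd_coprimes ?_ (Subgroup.orderOf_dvd_natCard _ hz)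
      ((Subgroup.orderOf_dvd_natCard _ hzQ).trans (dvd_of_eq hn)))
    exact ((hq.coprime_iff_not_dvd).mpr hqH).symm.pow_right n
  have hWs : Group.IsSolvable W := Group.isSolvable_of_isSolvable_injective (Subgroup.inclusion_injective hWS)
  have hmW : cj m W = W := cj_eq_of_mem_normalizer (hWM hm)
  obtain ⟨w, hw, hle⟩ := OddOrder41.exists_conj_into (π := π) hHW
    (fun p hp hpπ hd => hp.ne_one (Nat.eq_one_of_dvd_coprimes hHall hpπ.2 (by
      rw [← Subgroup.relIndex_mul_relIndex H W S hHW hWS]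
      exact hd.mul_right _)))
    ((cj_mono hHW).trans hmW.le : cj m H ≤ W) (fun p hp hd => ⟨hp, card_cj m H ▸ hd⟩)
  rw [cj_mul] at hle
  have hwm : w * m ∈ Subgroup.normalizer (H : Set G) :=
    mem_normalizer_of_cj_eq (Subgroup.eq_of_le_of_card_ge hle (by rw [card_cj]))
  obtain ⟨h₀, hh₀, u, hu, he⟩ := CfsgLib.Coprime.exists_mul_of_mem_sup hHQ (hWeq hw)
  -- `m = u⁻¹ n`
  set n := h₀⁻¹ * (w * m) with hn
  have hnN : n ∈ Subgroup.normalizer (H : Set G) := mul_mem (Subgroup.le_normalizer (inv_mem hh₀)) hwm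
  have hnM : n ∈ M := mul_mem (inv_mem (hSM (hHS hh₀))) (mul_mem (hSM (hWS hw)) hm)
  have hmn : m = u⁻¹ * n := by
    rw [hn, he]
    group
  have hx' : n * x * n⁻¹ ∈ H := (Subgroup.mem_normalizer_iff.mp hnN x).mp hx
  refine ⟨n, ⟨hnM, hnN⟩, ?_⟩
  set z := m * x * m⁻¹ * (n * x * n⁻¹)⁻¹ with hz
  have h1 : z ∈ H := mul_mem hy (inv_mem hx')
  have h2 : z ∈ Q := by
    rw [hz, hmn, show u⁻¹ * n * x * (u⁻¹ * n)⁻¹ * (n * x * n⁻¹)⁻¹ =
      u⁻¹ * ((n * x * n⁻¹) * u * (n * x * n⁻¹)⁻¹) by group]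
    exact mul_mem (inv_mem hu) ((Subgroup.mem_normalizer_iff.mp (hHQ hx') u).mp hu)
  have h3 := hHQbot z h1 h2
  rw [hz, mul_inv_eq_one] at h3
  exact h3.symm

variable (hG : Cfsg.IsMinSimpleOddOrder G)

include hG in
theorem hall_sigma_centralizer_fusion
    (M : Subgroup G) (hM : IsCoatom M) (H : Subgroup G) (hH : H ≤ Cfsg.sigmaCore M) (hH1 : H ≠ ⊥)
    (hHall : (Nat.card H).Coprime (H.relIndex (Cfsg.sigmaCore M))) :
    (∃ X : Subgroup G, IsCyclic X ∧ (∀ p : ℕ, p.Prime → p ∣ Nat.card X → p ∈ Cfsg.tau2 M) ∧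
        M ⊓ Subgroup.centralizer (H : Set G) = (Cfsg.sigmaCore M ⊓ Subgroup.centralizer (H : Set G)) ⊔ X) ∧
      ∀ x ∈ H, ∀ g : G, g * x * g⁻¹ ∈ H → ∃ n ∈ M ⊓ Subgroup.normalizer (H : Set G), n * x * n⁻¹ = g * x * g⁻¹ := by
  have hI := OddOrder41.Hall14.inputs hG
  set S := Cfsg.sigmaCore M with hS
  have hSM : S ≤ M := sigmaCore_le M
  have hall := (Sigma10.sigmaCore_hall hG hM).1
  have hSn : M ≤ Subgroup.normalizer (S : Set G) := piCoreOf_normal _ _
  have := minSimple_solvable hG hM.1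
  refine ⟨?_, ?_⟩
  · set C := M ⊓ Subgroup.centralizer (H : Set G) with hC
    set CS := S ⊓ Subgroup.centralizer (H : Set G) with hCS
    have hle : CS ≤ C := inf_le_inf hSM le_rfl
    have hn : (CS.subgroupOf C).Normal := (Subgroup.normal_subgroupOf_iff_le_normalizer hle).mpr
      fun c hc => mem_normalizer_inf (hSn hc.1) (Subgroup.le_normalizer hc.2)
    have hidx : ∀ p : ℕ, p.Prime → p ∈ Cfsg.sigma M → ¬ p ∣ CS.relIndex C := fun p hp hpσ hd => by
      have e : CS.relIndex C = S.relIndex C := by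
        rw [← Subgroup.inf_relIndex_right S C]
        congr 1
        rw [hCS, hC, ← inf_assoc, inf_eq_left.mpr hSM]
      rw [e] at hd
      have hn' : (S.subgroupOf M).Normal := (Subgroup.normal_subgroupOf_iff_le_normalizer hSM).mpr hSn
      refine hall.2.2 p hp hpσ (hd.trans ?_)
      have h1 := Subgroup.relIndex_dvd_index_of_normal (S.subgroupOf M) (C.subgroupOf M)
      rwa [Subgroup.relIndex_subgroupOf inf_le_left] at h1
    have hcop : (Nat.card (CS.subgroupOf C)).Coprime (CS.subgroupOf C).index := by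
      rw [Nat.card_congr (Subgroup.subgroupOfEquivOfLe hle).toEquiv]
      exact Nat.coprime_of_dvd fun p hp h1 h2 => hidx p hp (hall.2.1 p hp
        (h1.trans (Subgroup.card_dvd_of_le inf_le_left))) h2
    obtain ⟨X', hX'⟩ := Subgroup.exists_right_complement'_of_coprime hcop
    set X := X'.map C.subtype with hX
    have hXC : X ≤ C := Subgroup.map_subtype_le _
    have hXc : Nat.card X = CS.relIndex C := by
      rw [hX, Subgroup.card_map_of_injective C.subtype_injective, ← hX'.symm.index_eq_card]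
      rfl
    have hXσ : ∀ p : ℕ, p.Prime → p ∣ Nat.card X → p ∉ Cfsg.sigma M := fun p hp hd hpσ =>
      hidx p hp hpσ (hXc ▸ hd)
    have hXM : X ≤ M := hXC.trans inf_le_left
    have hXH : ∀ x ∈ X, ∀ h ∈ H, x * h = h * x := fun x hx h hh =>
      (Subgroup.mem_centralizer_iff.mp (hXC hx).2 h hh).symm
    have hτ : ∀ p : ℕ, p.Prime → p ∣ Nat.card X → p ∈ Cfsg.tau2 M := by
      intro p hp hd
      have := Fact.mk hp
      have hpσ := hXσ p hp hd
      refine (tau2_or_rank_one hG hM hp hpσ).resolve_right fun hr => ?_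
      obtain ⟨x', hx'⟩ := exists_prime_orderOf_dvd_card' (G := X) p hd
      set x : G := (x' : G) with hxdef
      have hxX : x ∈ X := x'.2
      have hxo : orderOf x = p := by rw [hxdef, Subgroup.orderOf_coe, hx']
      obtain ⟨h₁, hh₁, hh₁1⟩ := (Subgroup.bot_or_exists_ne_one H).resolve_left hH1
      have hpκ : p ∈ Cfsg.kappa M := mem_kappa hG hM hpσ hr (hXM hxX) hxo (hH hh₁) hh₁1 (hXH x hxX h₁ hh₁)
      have hxc : Nat.card (Subgroup.zpowers x) = p := by rw [Nat.card_zpowers, hxo]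
      obtain ⟨K, hK, hxK⟩ := exists_hall_kappa_ge hG hI hM (Subgroup.zpowers_le.mpr (hXM hxX))
        fun r hr hrd => by
          rw [hxc] at hrd
          rwa [(Nat.prime_dvd_prime_iff_eq hr hp).mp hrd]
      have hK1 : K ≠ ⊥ := fun e => hp.ne_one (by
        rw [e] at hxK
        rw [← hxc, le_bot_iff.mp hxK, Subgroup.card_bot])
      obtain ⟨hN, -, -⟩ := (hI.kappaHall M hM K hK hK1).2.2 _ hxK (hxc.symm ▸ hp)
      have hHC : H ≤ S ⊓ Subgroup.centralizer (K : Set G) := fun h hh => sup_kstar_inf_sigma hK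
        (hN ▸ ⟨hSM (hH hh), centralizer_zpowers_le_normalizer x
          (Subgroup.mem_centralizer_singleton_iff.mpr (hXH x hxX h hh).symm)⟩) (hH hh)
      obtain ⟨s, hs, hsd⟩ := Nat.exists_prime_and_dvd (n := Nat.card H)
        fun e => hH1 (Subgroup.card_eq_one.mp e)
      have := Fact.mk hs
      obtain ⟨P⟩ : Nonempty (Sylow s H) := inferInstance
      set P' := (P : Subgroup H).map H.subtype with hP'
      have hP'S : SylowOf s P' S := by
        refine ⟨(Subgroup.map_subtype_le _).trans hH, P.isPGroup'.map _, fun R hR hRp hle' => ?_⟩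
        have hSs : Group.IsSolvable S :=
          Group.isSolvable_of_isSolvable_injective (Subgroup.inclusion_injective hSM)
        obtain ⟨g, -, hgle⟩ := OddOrder41.exists_conj_into (π := {s}) hH (fun r hr hrs hd => by
          rw [Set.mem_singleton_iff] at hrs
          exact hr.ne_one (Nat.eq_one_of_dvd_coprimes hHall (hrs ▸ hsd) hd)) hR (fun r hr hrd => by
          obtain ⟨n, hn⟩ := hRp.exists_card_eq
          exact (Nat.prime_dvd_prime_iff_eq hr hs).mp (hr.dvd_of_dvd_pow (hn ▸ hrd)))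
        have h1 := (sylowOf_map P).card_dvd hgle (hRp.map _)
        rw [card_cj] at h1
        exact (Subgroup.eq_of_le_of_card_ge hle' (Nat.le_of_dvd Nat.card_pos h1)).symm
      exact (sylow_kstar hG hI hM hK hK1 (hsd.trans (Subgroup.card_dvd_of_le hHC)) hP'S).2.2
        ((Subgroup.map_subtype_le _).trans hHC)
    refine ⟨X, ?_, hτ, le_antisymm ?_ (sup_le hle hXC)⟩
    swap
    · rintro c hc
      obtain ⟨a, ha, b, hb, he⟩ := Subgroup.mem_sup_of_normal_left.1
        (hX'.sup_eq_top.ge (Subgroup.mem_top (⟨c, hc⟩ : C)))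
      rw [show c = (a : G) * b from (congrArg Subtype.val he).symm]
      exact mul_mem (Subgroup.mem_sup_left ha) (Subgroup.mem_sup_right ⟨b, hb, rfl⟩)
    by_cases hX1 : X = ⊥
    · rw [hX1]
      exact isCyclic_of_subsingleton
    obtain ⟨p₀, hp₀, hp₀d⟩ := Nat.exists_prime_and_dvd (n := Nat.card X)
      fun e => hX1 (Subgroup.card_eq_one.mp e)
    obtain ⟨L, hL, hsub⟩ := tau2_subset_sigma hG hI.toLocal hM ⟨p₀, hτ p₀ hp₀ hp₀d⟩
    have := minSimple_solvable hG hL.1
    obtain ⟨g, hg⟩ := sigma_subgroup_conj hG hI.tauTwo hI.tauTwoCompl hI.nilpotent hL hX1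
      fun p hp hd => hsub (hτ p hp hd)
    obtain ⟨-, -, -, ⟨H₀, hH₀, hH₀n⟩, -⟩ := Sigma10.betaCore_hall hG hL
      (fun p _ => Sigma10.pLengthLE_one_proper hG p) (Sigma10.propFiveFive hG)
    have hLs : Group.IsSolvable (Cfsg.sigmaCore L) :=
      Group.isSolvable_of_isSolvable_injective (Subgroup.inclusion_injective (sigmaCore_le L))
    obtain ⟨l, -, hlle⟩ := OddOrder41.exists_conj_into hH₀.1 (fun r hr hrπ => hH₀.2.2 r hr hrπ) hg
      fun r hr hrd => by
        rw [card_cj] at hrd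
        have := Fact.mk hr
        exact ⟨hr, fun hb => Sigma10.not_idealPrime hG hM (hτ r hr hrd).2.1 (hτ r hr hrd).2.2.2 hb.2⟩
    rw [cj_mul] at hlle
    have hXn : Group.IsNilpotent X := isNilpotent_of_inj hH₀n
      ((Subgroup.inclusion hlle).comp (cjEquiv (l * g) X).toMonoidHom)
      ((Subgroup.inclusion_injective hlle).comp (cjEquiv (l * g) X).injective)
    have hZ : IsZGroup X := by
      refine ⟨fun p hp P => ?_⟩
      have := Fact.mk hp
      by_cases hpd : p ∣ Nat.card X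
      swap
      · have hbot : (P : Subgroup X) = ⊥ := by
          refine Subgroup.card_eq_one.mp ?_
          rw [P.card_eq_multiplicity, Nat.factorization_eq_zero_of_not_dvd hpd, pow_zero]
        rw [hbot]
        exact isCyclic_of_subsingleton
      set P' := (P : Subgroup X).map X.subtype with hP'
      have hP'M : P' ≤ M := (Subgroup.map_subtype_le _).trans hXM
      have hcyc : IsCyclic P' := by
        refine isCyclic_of_pRankLE_one (minSimple_prime_ne_two' hG (hpd.trans (Subgroup.card_subgroup_dvd_card X)))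
          (P.isPGroup'.map _) ?_
        by_contra hr
        obtain ⟨B, hB, hBe, hB2⟩ := not_pRankLE_subgroup_iff.mp hr
        obtain ⟨-, -, -, hCB, -, -⟩ := hI.tauTwo M hM p (hτ p hp hpd) B ⟨hB.trans hP'M, hBe, hB2⟩
        refine hH1 (le_bot_iff.mp (hCB ▸ le_inf hH fun h hh => Subgroup.mem_centralizer_iff.mpr fun b hb => ?_))
        exact hXH b (Subgroup.map_subtype_le _ (hB hb)) h hh
      exact isCyclic_of_surjective
        ((P : Subgroup X).equivMapOfInjective X.subtype X.subtype_injective).symm.toMonoidHom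
        (MulEquiv.surjective _)
    infer_instance
  · intro x hx g hg
    by_cases hx1 : x = 1
    · exact ⟨1, one_mem _, by simp [hx1]⟩
    obtain ⟨p, hp, hd⟩ := Nat.exists_prime_and_dvd (n := orderOf x) fun e => hx1 (orderOf_eq_one_iff.mp e)
    obtain ⟨m, hm, c, hc, rfl⟩ := exists_mul_centralizer hG hI.toLocal hM (hSM (hH hx)) hp
      (mem_sigma_of_mem_sigmaCore (hH hx) hp hd) hd (hSM (hH hg))
    have he : m * c * x * (m * c)⁻¹ = m * x * m⁻¹ := by
      rw [show m * c * x * (m * c)⁻¹ = m * (c * x) * c⁻¹ * m⁻¹ by group,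
        Subgroup.mem_centralizer_singleton_iff.mp hc]
      group
    rw [he] at hg ⊢
    by_cases hne : Cfsg.fittingHallOf M = S
    · have hSnil : Group.IsNilpotent S := by
        have hFF : S ≤ Cfsg.fittingOf M := by
          rw [← hne, Cfsg.fittingHallOf, Cfsg.fittingOf]
          exact Subgroup.map_mono (sSup_le fun N hN => Fitting.le_fitting hN.1 hN.2.1)
        exact isNilpotent_of_inj (fittingOf_isNilpotent M) (Subgroup.inclusion hFF) (Subgroup.inclusion_injective _)
      exact fusion_of_nilpotent_quotient Nat.prime_two hSM hSn bot_le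
        (by rw [Subgroup.normalizer_eq_top_iff.mpr inferInstance]; exact le_top) (IsPGroup.of_bot)
        (⟨bot_le, le_rfl, bot_inf_eq _, fun s hs => ⟨1, one_mem _, s, hs, (one_mul s).symm⟩⟩ :
          Cfsg.IsComplIn ⊥ S S) (fun h => absurd rfl h) hSnil hH hHall hx hm hg
    · obtain ⟨K, hK⟩ := hI.kappaExists M hM
      have hKc := (OddOrder41.Hall14.propKappaCyclic hG M hM).2 K hK
      obtain ⟨U, hKU⟩ := (Cfsg.Agent.S1352.result hG M hM K hKc hK).1
      obtain ⟨-, -, -, hqp, -, -, Q, hQF, hMQ, hQp, hQidx, hQall⟩ :=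
        Cfsg.Agent.S1437.result hG M hM K U hKU hne
      set q := Nat.card ↥(S ⊓ Subgroup.centralizer (K : Set G)) with hq
      have := Fact.mk hqp
      have hQM : Q ≤ M := hQF.trans (Subgroup.map_subtype_le _)
      have hQS : Q ≤ S := le_sigmaCore hG hM hQM fun r hr hrd => by
        obtain ⟨n, hn⟩ := hQp.exists_card_eq
        rw [(Nat.prime_dvd_prime_iff_eq hr hqp).mp (hr.dvd_of_dvd_pow (hn ▸ hrd))]
        exact hall.2.1 q hqp (Subgroup.card_dvd_of_le inf_le_left)
      have hQn : (Q.subgroupOf S).Normal :=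
        (Subgroup.normal_subgroupOf_iff_le_normalizer hQS).mpr (hSM.trans hMQ)
      have hcopQ : (Nat.card (Q.subgroupOf S)).Coprime (Q.subgroupOf S).index := by
        rw [Nat.card_congr (Subgroup.subgroupOfEquivOfLe hQS).toEquiv]
        obtain ⟨n, hn⟩ := hQp.exists_card_eq
        rw [hn]
        exact ((hqp.coprime_iff_not_dvd).mpr hQidx).pow_left n
      obtain ⟨D', hD'⟩ := Subgroup.exists_right_complement'_of_coprime hcopQ
      have hDc : Cfsg.IsComplIn Q (D'.map S.subtype) S := by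
        refine ⟨hQS, Subgroup.map_subtype_le _, ?_, fun s hs => ?_⟩
        · rw [eq_bot_iff]
          rintro _ ⟨hyQ, y, hy, rfl⟩
          have h1 : y ∈ Q.subgroupOf S ⊓ D' := ⟨hyQ, hy⟩
          rw [hD'.disjoint.eq_bot, Subgroup.mem_bot] at h1
          rw [h1]
          exact Subgroup.one_mem _
        · obtain ⟨a, ha, b, hb, he⟩ := Subgroup.mem_sup_of_normal_left.1
            (hD'.sup_eq_top.ge (Subgroup.mem_top (⟨s, hs⟩ : S)))
          exact ⟨a, ha, b, ⟨b, hb, rfl⟩, congrArg Subtype.val he.symm⟩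
      exact fusion_of_nilpotent_quotient hqp hSM hSn hQS hMQ hQp hDc (fun _ => hQidx) (hQall _ hDc).1
        hH hHall hx hm hg

end CfsgLib.OddOrder38
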