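import Mathlib
import Cfsg.Agent.Lib.OddOrder.Sigma15Fitting
import Cfsg.Agent.Lib.OddOrder.Narrow
import Cfsg.Agent.Lib.OddOrder.NarrowStructure
import Cfsg.Agent.Lib.OddOrder.NarrowOperators
import Cfsg.Agent.Lib.OddOrder40.TheoremB
import Cfsg.Agent.Lib.OddOrder40.Pair14
import Cfsg.Agent.Lib.OddOrder38.Main1435
import Cfsg.Agent.Lib.OddOrder38.Main1437
import Cfsg.Agent.Lib.OddOrder38.Aux15
import Cfsg.Agent.Lib.OddOrder41.Sigma14Inputs
import Cfsg.Agent.Lib.OddOrder41.Sigma14CyclicInput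
import Cfsg.Agent.Lib.OddOrder41.Sigma13Tools
import Cfsg.Agent.Lib.OddOrder42.Hall16
import Cfsg.Agent.Lib.OddOrder42.Group16
import Cfsg.Agent.S1412
import Cfsg.Agent.S1414
import Cfsg.Agent.S1422
import Cfsg.Agent.S1426
import Cfsg.Agent.S1437

/-!
# BG 15.7: `F(M)` when it is not a TI-subgroup

The printed statement has `M' = F(M)`; here only `M' ≤ F(M)` is proved (see `fitting_nonTI`).
-/

set_option autoImplicit false
set_option linter.unusedSectionVars false

namespace CfsgLib.OddOrder38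

open Subgroup CfsgLib.OddOrder CfsgLib.OddOrder.Transitivity CfsgLib.OddOrder41
open scoped commutatorElement

universe u

variable {G : Type u} [Group G] [Finite G] (hG : Cfsg.IsMinSimpleOddOrder G) {M : Subgroup G}
  (hM : IsCoatom M)

/-- A `p`-element of a nilpotent subgroup lies in its `p`-core. -/
theorem pgroup_le_opCore {p : ℕ} [Fact p.Prime] {S Q : Subgroup G} (hS : Group.IsNilpotent S)
    (hQS : Q ≤ S) (hQ : IsPGroup p Q) : Q ≤ opCore p S := by
  obtain ⟨P, hP⟩ := (hQ.comap_of_injective S.subtype S.subtype_injective).exists_le_sylow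
  have : (P : Subgroup S).Normal := inferInstance
  have hle : (P : Subgroup S) ≤ Cfsg.pCore p S := le_sSup ⟨this, P.isPGroup'⟩
  intro x hx
  exact ⟨⟨x, hQS hx⟩, hle (hP hx), rfl⟩

/-- The `p'`-elements of a nilpotent subgroup lie in its `p'`-core. -/
theorem mem_oPrime_of_nilpotent {p : ℕ} [hp : Fact p.Prime] {S : Subgroup G} (hS : Group.IsNilpotent S)
    {x : G} (hx : x ∈ S) (h : ¬ p ∣ orderOf x) : x ∈ oPrime p S := by
  obtain ⟨h1, -, h3⟩ := OddOrder42.piCoreOf_hall hS {q | q ≠ p}
  refine le_oPrime (piCoreOf_le _ _) (piCoreOf_normal _ _) ?_ (h3 x hx fun q _ hd he => h (he ▸ hd))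
  exact Nat.coprime_of_dvd fun q hq hd hqp => h1 q hq hd ((Nat.prime_dvd_prime_iff_eq hq hp.out).mp hqp)

/-- A nilpotent subgroup is `O_p × O_{p'}`. -/
theorem exists_mul_pcores {p : ℕ} [hp : Fact p.Prime] {S : Subgroup G} (hS : Group.IsNilpotent S) {x : G}
    (hx : x ∈ S) : ∃ a ∈ opCore p S, ∃ b ∈ oPrime p S, x = a * b := by
  obtain ⟨a, b, rfl, ha, hb, haπ, hbπ⟩ := OddOrder42.exists_parts {p} x
  refine ⟨a, ?_, b, mem_oPrime_of_nilpotent hS (Subgroup.zpowers_le.mpr hx hb) fun hd =>
    hbπ p hp.out hd rfl, rfl⟩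
  refine pgroup_le_opCore hS (Subgroup.zpowers_le.mpr (Subgroup.zpowers_le.mpr hx ha)) ?_
    (Subgroup.mem_zpowers a)
  refine IsPGroup.of_card (n := (Nat.card (Subgroup.zpowers a)).primeFactorsList.length) ?_
  exact Nat.eq_prime_pow_of_unique_prime_dvd Nat.card_pos.ne' fun {q} hq hd =>
    Set.mem_singleton_iff.mp (haπ q hq (by rwa [Nat.card_zpowers] at hd))

/-- `O_p` and `O_{p'}` commute. -/
theorem opCore_commute_oPrime {p : ℕ} [hp : Fact p.Prime] (S : Subgroup G) :
    opCore p S ≤ Subgroup.centralizer (oPrime p S : Set G) :=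
  commute_of_normalizes ((opCore_le p S).trans (oPrime_normal S)) ((oPrime_le S).trans (opCore_normal p S))
    fun _ hx hy => Criteria.eq_one_of_pgroup_of_coprime (opCore_isPGroup p S) (oPrime_coprime S) hx hy

/-- A group generated by `x`, `z`, `w` elementary abelian of order at most `p ^ 2`. -/
theorem mem_closure_pair {p : ℕ} [hp : Fact p.Prime] {x z w : G} (hxz : x * z = z * x)
    (hxw : x * w = w * x) (hzw : z * w = w * z) (hx : x ^ p = 1) (hz : z ^ p = 1) (hw : w ^ p = 1)
    {B : Subgroup G} (hxB : x ∈ B) (hzB : z ∈ B) (hwB : w ∈ B) (hrank : Cfsg.PRankLE p 2 B)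
    (hxo : orderOf x = p) (hzx : z ∉ Subgroup.zpowers x) : w ∈ Subgroup.closure ({x, z} : Set G) := by
  set A := Subgroup.closure ({x, z, w} : Set G) with hA
  have hsub : ({x, z} : Set G) ⊆ {x, z, w} := by intro a ha; rcases ha with rfl | rfl <;> simp
  set A2 := Subgroup.closure ({x, z} : Set G) with hA2
  have hle : A2 ≤ A := Subgroup.closure_mono hsub
  have hAc : IsMulCommutative A := Subgroup.isMulCommutative_closure (by
    rintro a (rfl | rfl | rfl) b (rfl | rfl | rfl) <;>
      first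
      | exact rfl
      | assumption
      | exact hxz.symm
      | exact hxw.symm
      | exact hzw.symm)
  have hAe : Cfsg.IsElementaryAbelian p A := by
    refine ⟨hAc, fun a ha => ?_⟩
    induction ha using Subgroup.closure_induction with
    | mem a ha => rcases ha with rfl | rfl | rfl <;> assumption
    | one => exact one_pow p
    | mul a b ha hb iha ihb =>
      rw [(show Commute a b from mul_comm_of_mem hAc ha hb).mul_pow, iha, ihb, one_mul]
    | inv a _ iha => rw [inv_pow, iha, inv_one]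
  have hAB : A ≤ B := (Subgroup.closure_le B).mpr (by rintro a (rfl | rfl | rfl) <;> assumption)
  have hAcard : Nat.card A ≤ p ^ 2 := by
    have h := pRankLE_iff.mp hrank (A.subgroupOf B) (elemAb_comap hAe _ B.subtype_injective)
    rwa [Nat.card_congr (Subgroup.subgroupOfEquivOfLe hAB).toEquiv] at h
  obtain ⟨i, hi⟩ := (IsPGroup.to_le (isPGroup_of_elemAb hAe) hle).exists_card_eq
  have hxA : Subgroup.zpowers x ≤ A2 := Subgroup.zpowers_le.mpr (Subgroup.subset_closure (by simp))
  have hi2 : 2 ≤ i := by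
    by_contra h
    have he : Subgroup.zpowers x = A2 := Subgroup.eq_of_le_of_card_ge hxA (by
      rw [hi, Nat.card_zpowers, hxo]
      exact (Nat.pow_le_pow_right hp.out.pos (by omega : i ≤ 1)).trans (pow_one p).le)
    exact hzx (he.ge (Subgroup.subset_closure (by simp)))
  exact (Subgroup.eq_of_le_of_card_ge hle (hAcard.trans (hi ▸ Nat.pow_le_pow_right hp.out.pos hi2))).ge
    (Subgroup.subset_closure (by simp))

/-- A uniqueness subgroup of `M` centralizing `x` forces `C(x) ≤ M`. -/
theorem centralizer_le_of_unique (hG : Cfsg.IsMinSimpleOddOrder G) (hM : IsCoatom M) {A : Subgroup G}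
    (hA : Cfsg.InUniqueMaximal A) (hAM : A ≤ M) {x : G} (hx1 : x ≠ 1)
    (hAx : A ≤ Subgroup.centralizer ({x} : Set G)) : Subgroup.centralizer ({x} : Set G) ≤ M := by
  obtain ⟨L, hL, hxL⟩ := exists_isCoatom_ge (minSimple_centralizer_singleton_ne_top hG hx1)
  rwa [hA.unique ⟨hL, hAx.trans hxL⟩ ⟨hM, hAM⟩] at hxL

include hG hM in
/-- `C(x) ≤ M` if `C_{F(M)}(x)` has rank at least three. -/
theorem centralizer_le_of_rank_three {x : G} (hx1 : x ≠ 1) {r : ℕ} [Fact r.Prime] {A : Subgroup G}
    (hAF : A ≤ Cfsg.fittingOf M) (hA : IsPGroup r A) (hA3 : ¬ Cfsg.PRankLE r 2 A)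
    (hAx : A ≤ Subgroup.centralizer ({x} : Set G)) : Subgroup.centralizer ({x} : Set G) ≤ M :=
  centralizer_le_of_unique hG hM
    (MaxFit.inUniqueMaximal_of_rank_three hG hM (fun h => hA3 (PRankLE.of_le hAF h)) hA hA3)
    (hAF.trans (fittingOf_le M)) hx1 hAx

/-- The elements `x` of `F(M) ∩ F(M)^g` of prime order, `g ∉ M`, seen from `M`. -/
structure Meet (M : Subgroup G) (p : ℕ) (x : G) : Prop where
  coatom : IsCoatom M
  memS : x ∈ Cfsg.sigmaCore M
  memF : x ∈ Cfsg.fittingOf M
  order : orderOf x = p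
  outside : ¬ Subgroup.centralizer ({x} : Set G) ≤ M
  notBeta : p ∉ Cfsg.beta M

variable {p : ℕ} [hp : Fact p.Prime] {x : G}

omit [Finite G] in
theorem Meet.ne_one (h : Meet M p x) : x ≠ 1 := fun e => hp.out.ne_one (by rw [← h.order, e, orderOf_one])

theorem Meet.mem_sigma (h : Meet M p x) : p ∈ Cfsg.sigma M :=
  mem_sigma_of_mem_sigmaCore h.memS hp.out (h.order ▸ dvd_rfl)

include hG in
/-- `M_F = M_σ`. -/
theorem Meet.fittingHallOf_eq (h : Meet M p x) {K U : Subgroup G}
    (hKU : Cfsg.IsSigmaDecomposition M K U) : Cfsg.fittingHallOf M = Cfsg.sigmaCore M := by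
  by_contra hne
  obtain ⟨-, -, -, hq, -, hβ, Q, hQH, hQn, hQp, hQidx, -⟩ :=
    Cfsg.Agent.S1437.result hG M h.coatom K U hKU hne
  set q := Nat.card ↥(Cfsg.sigmaCore M ⊓ Subgroup.centralizer (K : Set G)) with hqdef
  have := Fact.mk hq
  have hpq : p ≠ q := fun e => h.notBeta (e ▸ hβ)
  have hQM : Q ≤ M := hQH.trans (fittingHallOf_le M)
  have hQS : Q ≤ Cfsg.sigmaCore M := le_sigmaCore hG h.coatom hQM fun r hr hd => by
    obtain ⟨n, hn⟩ := hQp.exists_card_eq
    rw [hn] at hd
    rw [(Nat.prime_dvd_prime_iff_eq hr hq).mp (hr.dvd_of_dvd_pow hd)]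
    exact Sigma10.alpha_subset_sigma hG h.coatom hβ.1
  have hQF : Q ≤ Cfsg.fittingOf M := le_fittingOf hQM hQn hQp.isNilpotent
  obtain ⟨A, hAM, hAe, hA3⟩ := not_pRankLE_subgroup_iff.mp hβ.1.2
  have := minSimple_solvable hG h.coatom.1
  obtain ⟨g, hg, hle⟩ := OddOrder41.exists_conj_into (π := {q}) hQM
    (fun r hr hrq hd => by
      rw [Set.mem_singleton_iff] at hrq
      subst hrq
      rw [← Subgroup.relIndex_mul_relIndex Q (Cfsg.sigmaCore M) M hQS (sigmaCore_le M)] at hd
      rcases hq.dvd_mul.mp hd with h1 | h1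
      · exact hQidx h1
      · exact (Sigma10.sigmaCore_hall hG h.coatom).1.2.2 _ hq (Sigma10.alpha_subset_sigma hG h.coatom hβ.1) h1)
    hAM fun r hr hd => by
      rw [hA3] at hd
      exact Set.mem_singleton_iff.mpr ((Nat.prime_dvd_prime_iff_eq hr hq).mp (hr.dvd_of_dvd_pow hd))
  have hQ3 : ¬ Cfsg.PRankLE q 2 Q := not_pRankLE_subgroup_iff.mpr
    ⟨_, hle, elemAb_map hAe _, by rw [← hA3]; exact Subgroup.card_map_of_injective (MulAut.conj g).injective⟩
  refine h.outside (centralizer_le_of_rank_three hG h.coatom h.ne_one hQF hQp hQ3 ?_)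
  have hxO : x ∈ opCore p M := le_opCore_of_le_fittingOf (Subgroup.zpowers_le.mpr h.memF)
    (IsPGroup.of_card (n := 1) (by rw [Nat.card_zpowers, h.order, pow_one])) (Subgroup.mem_zpowers x)
  have hc : Q ≤ Subgroup.centralizer (opCore p M : Set G) :=
    commute_of_normalizes (hQM.trans (opCore_normal p M)) ((opCore_le p M).trans hQn)
      fun y hy hy' => isPGroup_inter_eq_one hpq.symm hQp (opCore_isPGroup p M) hy hy'
  exact hc.trans (Subgroup.centralizer_le (Set.singleton_subset_iff.mpr hxO))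

include hG in
theorem Meet.sigmaCore_nilpotent (h : Meet M p x) {K U : Subgroup G}
    (hKU : Cfsg.IsSigmaDecomposition M K U) : Group.IsNilpotent (Cfsg.sigmaCore M) :=
  h.fittingHallOf_eq hG hKU ▸ fittingHallOf_isNilpotent M

variable (hS : Group.IsNilpotent (Cfsg.sigmaCore M))

include hS in
theorem sigmaCore_le_fittingOf : Cfsg.sigmaCore M ≤ Cfsg.fittingOf M :=
  le_fittingOf (sigmaCore_le M) (piCoreOf_normal _ _) hS

include hS in
theorem Meet.mem_opCore (h : Meet M p x) : x ∈ opCore p (Cfsg.sigmaCore M) :=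
  pgroup_le_opCore hS (Subgroup.zpowers_le.mpr h.memS)
    (IsPGroup.of_card (n := 1) (by rw [Nat.card_zpowers, h.order, pow_one])) (Subgroup.mem_zpowers x)

include hG hS in
theorem Meet.opCore_centralizes (h : Meet M p x) {r : ℕ} [hr : Fact r.Prime] (hrp : r ≠ p) :
    opCore r (Cfsg.sigmaCore M) ≤ Subgroup.centralizer ({x} : Set G) :=
  (commute_of_normalizes ((opCore_le r _).trans (opCore_normal p _))
    ((opCore_le p _).trans (opCore_normal r _))
    fun _ hy hy' => isPGroup_inter_eq_one hrp (opCore_isPGroup r _) (opCore_isPGroup p _) hy hy').trans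
    (Subgroup.centralizer_le (Set.singleton_subset_iff.mpr (h.mem_opCore hS)))

include hG hS in
/-- `C_{M_σ}(x)` has rank at most two. -/
theorem Meet.rank_two (h : Meet M p x) {r : ℕ} [Fact r.Prime] {A : Subgroup G}
    (hAS : A ≤ Cfsg.sigmaCore M) (hA : IsPGroup r A) (hAx : A ≤ Subgroup.centralizer ({x} : Set G)) :
    Cfsg.PRankLE r 2 A := by
  by_contra hA3
  exact h.outside (centralizer_le_of_rank_three hG h.coatom h.ne_one
    (hAS.trans (sigmaCore_le_fittingOf hS)) hA hA3 hAx)

include hG hS in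
/-- Only subgroups with abelian `r`-part centralize `x`. -/
theorem Meet.comm (h : Meet M p x) {r : ℕ} [Fact r.Prime] {A : Subgroup G}
    (hAM : A ≤ M) (hA : IsPGroup r A) (hAx : A ≤ Subgroup.centralizer ({x} : Set G)) :
    IsMulCommutative A := by
  by_contra hna
  exact h.outside (centralizer_le_of_unique hG h.coatom (Cfsg.Agent.S1422.result hG r A hA hna) hAM
    h.ne_one hAx)

include hG hS in
theorem Meet.beta_empty (h : Meet M p x) : Cfsg.beta M = ∅ := by
  refine Set.eq_empty_iff_forall_notMem.mpr fun r hr => ?_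
  have := Fact.mk hr.1.1
  have hrp : r ≠ p := fun e => h.notBeta (e ▸ hr)
  obtain ⟨A, hAM, hAe, hA3⟩ := not_pRankLE_subgroup_iff.mp hr.1.2
  have hAS : A ≤ Cfsg.sigmaCore M := le_sigmaCore hG h.coatom hAM fun t ht hd => by
    rw [hA3] at hd
    rw [(Nat.prime_dvd_prime_iff_eq ht hr.1.1).mp (ht.dvd_of_dvd_pow hd)]
    exact Sigma10.alpha_subset_sigma hG h.coatom hr.1
  have hAO : A ≤ opCore r (Cfsg.sigmaCore M) := pgroup_le_opCore hS hAS (isPGroup_of_elemAb hAe)
  exact not_pRankLE_subgroup_iff.mpr ⟨A, hAO, hAe, hA3⟩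
    (h.rank_two hG hS (opCore_le r _) (opCore_isPGroup r _) (h.opCore_centralizes hG hS hrp))

include hG hS in
/-- `M' ≤ F(M)`. -/
theorem Meet.derived_le_fitting (h : Meet M p x) : ⁅M, M⁆ ≤ Cfsg.fittingOf M := by
  obtain ⟨-, -, ⟨H, hH, hn⟩, -⟩ := Cfsg.Agent.S1414.result hG M h.coatom
  rw [h.beta_empty hG hS] at hH
  have he : H = ⁅M, M⁆ := by
    refine Subgroup.eq_of_le_of_card_ge hH.1 (le_of_eq ?_)
    have h1 : H.relIndex ⁅M, M⁆ = 1 := by
      by_contra hne
      obtain ⟨q, hq, hd⟩ := Nat.exists_prime_and_dvd hne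
      exact hH.2.2 q hq ⟨hq, Set.notMem_empty q⟩ hd
    rw [← card_mul_relIndex_of_le hH.1, h1, mul_one]
  exact le_fittingOf (Subgroup.commutator_le_self M) (le_normalizer_derived M) (he ▸ hn)

include hG hM hS in
/-- If `K ≠ 1` then `U = 1`. -/
theorem U_eq_bot_of_kappa (hder : ⁅M, M⁆ ≤ Cfsg.fittingOf M) {K U : Subgroup G}
    (hKU : Cfsg.IsSigmaDecomposition M K U) (hK1 : K ≠ ⊥) : U = ⊥ := by
  have hI := Hall14.inputs hG
  by_contra hU1
  have hK := hKU.hall
  have hUh := decomp_U_hall hG hM hKU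
  obtain ⟨U', E, -, -, -, hKU', hUK, hU'h, -⟩ := exists_compl_kappa hG hI hM hK hK1
  set Y := Cfsg.piCoreOf {q | q.Prime ∧ q ∉ Cfsg.sigma M} (Cfsg.fittingOf M) with hY
  obtain ⟨hYc, -, -⟩ := Sigma15.fitting_structure hG hM
  have hU'F : U' ≤ Cfsg.fittingOf M := by
    rw [← hUK]
    exact (Subgroup.commutator_mono hU'h.1 hK.1).trans hder
  have hU'Y : U' ≤ Y := fun v hv => (OddOrder42.piCoreOf_hall (fittingOf_isNilpotent M) _).2.2 v (hU'F hv)
    fun q hq hd => ⟨hq, (hU'h.2.1 q hq (hd.trans (Subgroup.orderOf_dvd_natCard _ hv))).2.2⟩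
  have hMY : M ≤ Subgroup.normalizer (Y : Set G) :=
    (fittingOf_normal M).trans (Sigma15.normalizer_le_normalizer_piCoreOf _ _)
  have hMU' : M ≤ Subgroup.normalizer (U' : Set G) := fun m hm => by
    refine mem_normalizer_of_cj_eq (OddOrder41.eq_of_card_eq_of_cyclic hYc ?_ hU'Y (card_cj m U'))
    exact (cj_mono hU'Y).trans (cj_eq_of_mem_normalizer (hMY hm)).le
  have hle : U' ≤ U := le_of_isPiHallOf hUh hU'h.1 hMU' hU'h.2.1
  have heq : U' = U := by
    refine le_antisymm hle (Subgroup.relIndex_eq_one.mp ?_)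
    by_contra hne
    obtain ⟨q, hq, hd⟩ := Nat.exists_prime_and_dvd hne
    refine hU'h.2.2 q hq (hUh.2.1 q hq (hd.trans ?_)) (hd.trans ?_)
    · exact ⟨_, (Nat.mul_comm _ _).trans (card_mul_relIndex_of_le hle) |>.symm⟩
    · exact Dvd.intro _ (Subgroup.relIndex_mul_relIndex U' U M hle hUh.1)
  subst heq
  have hNU := Sigma15.normalizer_eq_of_normal hG hM hU'h.1 hU1 hMU'
  obtain ⟨Mstar, hMs, hst, hstH, -⟩ := OddOrder40.exists_pair hG hI hM hK hK1
  obtain ⟨r, hr, hrd⟩ := Nat.exists_prime_and_dvd fun e => hU1 (Subgroup.card_eq_one.mp e)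
  have := Fact.mk hr
  obtain ⟨R⟩ : Nonempty (Sylow r U') := inferInstance
  set RG := (R : Subgroup U').map U'.subtype with hRG
  have hR1 : RG ≠ ⊥ := fun e => R.ne_bot_of_dvd_card hrd
    ((Subgroup.map_eq_bot_iff_of_injective _ U'.subtype_injective).mp e)
  have hRt : RG ≠ ⊤ := fun e =>
    hM.1 (top_le_iff.mp (e ▸ (Subgroup.map_subtype_le _).trans hU'h.1))
  obtain ⟨H, hH, hRH⟩ := exists_isCoatom_ge (minSimple_normalizer_ne_top hG hR1 hRt)
  exact (over_normalizer_U hG hI M hM K U' hKU hK1 hU1 Mstar hMs hst hstH r hrd R H hH hRH).2.2.2.1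
    (inf_le_right.trans hNU.le)

/-- The core `O_{p'}` of `M_σ` and the centre of `O_p`. -/
structure Shape (M : Subgroup G) (p : ℕ) (z : G) : Prop where
  cyclic : IsCyclic (oPrime p (Cfsg.sigmaCore M))
  noncomm : ¬ IsMulCommutative (opCore p (Cfsg.sigmaCore M))
  memT : z ∈ opCore p (Cfsg.sigmaCore M)
  central : ∀ t ∈ opCore p (Cfsg.sigmaCore M), t * z = z * t
  order : orderOf z = p
  unique : ∀ w ∈ opCore p (Cfsg.sigmaCore M), (∀ t ∈ opCore p (Cfsg.sigmaCore M), t * w = w * t) →
    w ^ p = 1 → w ∈ Subgroup.zpowers z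
  norm : M ≤ Subgroup.normalizer ((Subgroup.zpowers z : Subgroup G) : Set G)

include hG hS in
/-- If `O_r(M_σ)` is abelian for all `r`, so is `M_σ`. -/
theorem sigmaCore_comm_of_opCore
    (h : ∀ (r : ℕ), r.Prime → IsMulCommutative (opCore r (Cfsg.sigmaCore M))) :
    IsMulCommutative (Cfsg.sigmaCore M) := by
  set S := Cfsg.sigmaCore M with hSdef
  have hsyl : ∀ (r : ℕ) [Fact r.Prime] (Q : Sylow r S), (Q : Subgroup S).map S.subtype ≤ opCore r S :=
    fun r _ Q => pgroup_le_opCore hS (Subgroup.map_subtype_le _) (Q.isPGroup'.map _)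
  have h1 : ∀ r : ℕ, r.Prime → S ≤ Subgroup.centralizer (opCore r S : Set G) := by
    intro r hr
    refine OddOrder41.le_of_exists_sylow_le fun t ht => ?_
    have := Fact.mk ht
    have := Fact.mk hr
    obtain ⟨Q⟩ : Nonempty (Sylow t S) := inferInstance
    refine ⟨Q, (hsyl t Q).trans ?_⟩
    by_cases htr : t = r
    · subst htr
      exact Subgroup.le_centralizer_iff_isMulCommutative.mpr (h t ht)
    · exact commute_of_normalizes ((opCore_le t _).trans (opCore_normal r _))
        ((opCore_le r _).trans (opCore_normal t _))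
        fun _ hy hy' => isPGroup_inter_eq_one htr (opCore_isPGroup t _) (opCore_isPGroup r _) hy hy'
  refine Subgroup.le_centralizer_iff_isMulCommutative.mp (OddOrder41.le_of_exists_sylow_le fun t ht => ?_)
  have := Fact.mk ht
  obtain ⟨Q⟩ : Nonempty (Sylow t S) := inferInstance
  exact ⟨Q, (hsyl t Q).trans (Subgroup.le_centralizer_iff.mp (h1 t ht))⟩

include hG hS in
/-- A nonabelian `O_r(M_σ)` belongs to `r = p`. -/
theorem Meet.eq_of_noncomm (h : Meet M p x) {r : ℕ} [Fact r.Prime]
    (hna : ¬ IsMulCommutative (opCore r (Cfsg.sigmaCore M))) : r = p := by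
  by_contra hrp
  exact hna (h.comm hG hS ((opCore_le r _).trans (sigmaCore_le M)) (opCore_isPGroup r _)
    (h.opCore_centralizes hG hS hrp))

include hG hS in
/-- The shape of `M_σ` when it is not abelian. -/
theorem Meet.shape (h : Meet M p x) (hna : ¬ IsMulCommutative (Cfsg.sigmaCore M)) :
    ∃ z, Shape M p z := by
  set S := Cfsg.sigmaCore M with hSdef
  set T := opCore p S with hT
  set R := oPrime p S with hR
  have hTna : ¬ IsMulCommutative T := fun hc => hna (sigmaCore_comm_of_opCore hG hS fun r hr => by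
    have := Fact.mk hr
    by_contra hr'
    exact hr' (h.eq_of_noncomm hG hS hr' ▸ hc))
  have hTM : T ≤ M := (opCore_le p S).trans (sigmaCore_le M)
  have hRx : R ≤ Subgroup.centralizer ({x} : Set G) :=
    (Subgroup.le_centralizer_iff.mp (opCore_commute_oPrime S)).trans
      (Subgroup.centralizer_le (Set.singleton_subset_iff.mpr (h.mem_opCore hS)))
  have hrk : ∀ r : ℕ, r.Prime → r ∣ Nat.card R → Cfsg.PRankLE r 1 R := by
    intro r hr _
    have := Fact.mk hr
    by_contra hcon
    obtain ⟨A, hAR, hAe, hA2⟩ := not_pRankLE_subgroup_iff.mp hcon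
    have hAT : A ≤ Subgroup.centralizer (T : Set G) :=
      hAR.trans (Subgroup.le_centralizer_iff.mp (opCore_commute_oPrime S))
    have hrankA : ¬ Cfsg.RankLE 1 A := fun hr1 =>
      not_pRankLE_subgroup_iff.mpr ⟨A, le_rfl, hAe, hA2⟩ (hr1 r hr)
    exact h.outside (centralizer_le_of_unique hG h.coatom
      (Uniq.inUniqueMaximal_of_centralizes hG
        (Cfsg.Agent.S1422.result hG p T (opCore_isPGroup p S) hTna) hAT hrankA)
      (hAR.trans ((oPrime_le S).trans (sigmaCore_le M))) h.ne_one (hAR.trans hRx))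
  have hRc : IsCyclic R := by
    have := Sigma10.isZGroup_of_rank_one hG hrk
    have := Fitting.isNilpotent_of_le hS (oPrime_le (p := p) S)
    infer_instance
  obtain ⟨z, hzT, hzc, hzo⟩ := Sigma10.exists_central_orderOf (opCore_isPGroup p S) fun e => hTna (by
    rw [hT, e]
    exact ⟨⟨fun a b => Subtype.ext (by
      rw [Subgroup.coe_mul, Subgroup.coe_mul, Subgroup.mem_bot.mp a.2, Subgroup.mem_bot.mp b.2])⟩⟩)
  have hxnc : ∀ w ∈ Subgroup.zpowers x, (∀ t ∈ T, t * w = w * t) → w = 1 := by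
    intro w hw hwc
    by_contra hw1
    have hwo : orderOf w = p := ((Nat.dvd_prime hp.out).mp (h.order ▸ orderOf_dvd_of_mem_zpowers hw)).resolve_left
      fun e => hw1 (orderOf_eq_one_iff.mp e)
    have hxw : x ∈ Subgroup.zpowers w := (Subgroup.eq_of_le_of_card_ge (Subgroup.zpowers_le.mpr hw)
      (by rw [Nat.card_zpowers, Nat.card_zpowers, hwo, h.order])).ge (Subgroup.mem_zpowers x)
    refine hTna (h.comm hG hS hTM (opCore_isPGroup p S) fun t ht => ?_)
    obtain ⟨i, rfl⟩ := Subgroup.mem_zpowers_iff.mp hxw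
    exact Subgroup.mem_centralizer_singleton_iff.mpr
      ((show Commute t w from hwc t ht).zpow_right i).eq
  have huniq : ∀ w ∈ T, (∀ t ∈ T, t * w = w * t) → w ^ p = 1 → w ∈ Subgroup.zpowers z := by
    intro w hw hwc hwp
    set C := T ⊓ Subgroup.centralizer ({x} : Set G) with hC
    have hzx : z ∉ Subgroup.zpowers x := fun hzx => hp.out.ne_one (by
      rw [← hzo, hxnc z hzx hzc, orderOf_one])
    have hxT := h.mem_opCore hS
    have hmem := mem_closure_pair (hzc x hxT) (hwc x hxT) (hwc z hzT) (h.order ▸ pow_orderOf_eq_one x)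
      (hzo ▸ pow_orderOf_eq_one z) hwp (B := C)
      ⟨hxT, Subgroup.mem_centralizer_singleton_iff.mpr rfl⟩
      ⟨hzT, Subgroup.mem_centralizer_singleton_iff.mpr (hzc x hxT).symm⟩
      ⟨hw, Subgroup.mem_centralizer_singleton_iff.mpr (hwc x hxT).symm⟩
      (h.rank_two hG hS (inf_le_left.trans (opCore_le p S))
        ((opCore_isPGroup p S).to_le inf_le_left) inf_le_right) h.order hzx
    have hn : Subgroup.zpowers x ≤ Subgroup.normalizer ((Subgroup.zpowers z : Subgroup G) : Set G) :=
      Subgroup.zpowers_le.mpr (OddOrder41.mem_normalizer_zpowers_of_comm (hzc x hxT))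
    have hle : Subgroup.closure ({x, z} : Set G) ≤ Subgroup.zpowers x ⊔ Subgroup.zpowers z := by
      refine (Subgroup.closure_le _).mpr ?_
      rintro a (rfl | rfl)
      · exact Subgroup.mem_sup_left (Subgroup.mem_zpowers _)
      · exact Subgroup.mem_sup_right (Subgroup.mem_zpowers _)
    obtain ⟨a, ha, b, hb, rfl⟩ := CfsgLib.Coprime.exists_mul_of_mem_sup hn (hle hmem)
    suffices a = 1 by rwa [this, one_mul]
    refine hxnc a ha fun t ht => ?_
    obtain ⟨j, rfl⟩ := Subgroup.mem_zpowers_iff.mp hb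
    have h1 : Commute t (z ^ j) := (show Commute t z from hzc t ht).zpow_right j
    have h2 : Commute t (a * z ^ j) := hwc t ht
    have h3 := h2.mul_right h1.inv_right
    rwa [mul_inv_cancel_right] at h3
  refine ⟨z, hRc, hTna, hzT, hzc, hzo, huniq, fun m hm => ?_⟩
  have hmT : m ∈ Subgroup.normalizer (T : Set G) := by
    refine mem_normalizer_of_cj_eq (Subgroup.eq_of_le_of_card_ge ?_ (card_cj m T).ge)
    exact pgroup_le_opCore hS ((cj_mono (opCore_le p S)).trans
      (cj_eq_of_mem_normalizer (piCoreOf_normal _ _ hm)).le) ((opCore_isPGroup p S).map _)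
  refine mem_normalizer_of_cj_eq (Subgroup.eq_of_le_of_card_ge ?_ (card_cj m _).ge)
  show (Subgroup.zpowers z).map (MulAut.conj m).toMonoidHom ≤ _
  rw [MonoidHom.map_zpowers, Subgroup.zpowers_le]
  show m * z * m⁻¹ ∈ _
  refine huniq _ ((Subgroup.mem_normalizer_iff.mp hmT z).mp hzT) (fun t ht => ?_) ?_
  · have h1 := hzc _ ((Subgroup.mem_normalizer_iff''.mp hmT t).mp ht)
    calc t * (m * z * m⁻¹) = m * (m⁻¹ * t * m * z) * m⁻¹ := by group
      _ = m * (z * (m⁻¹ * t * m)) * m⁻¹ := by rw [h1]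
      _ = m * z * m⁻¹ * t := by group
  · rw [conj_pow, (hzo ▸ pow_orderOf_eq_one z : z ^ p = 1), mul_one, mul_inv_cancel]

variable {z : G}

include hG hS in
/-- `O_p(M_σ)` is a Sylow subgroup of `G`. -/
theorem Meet.exists_sylow (h : Meet M p x) :
    ∃ P : Sylow p G, (P : Subgroup G) = opCore p (Cfsg.sigmaCore M) := by
  refine Sigma10.exists_sylow_of_mem_sigma h.mem_sigma
    ⟨(opCore_le p _).trans (sigmaCore_le M), opCore_isPGroup p _, fun Q hQM hQ hle => ?_⟩
  refine le_antisymm (pgroup_le_opCore hS (le_sigmaCore hG h.coatom hQM fun r hr hd => ?_) hQ) hle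
  obtain ⟨n, hn⟩ := hQ.exists_card_eq
  rw [hn] at hd
  exact (Nat.prime_dvd_prime_iff_eq hr hp.out).mp (hr.dvd_of_dvd_pow hd) ▸ h.mem_sigma

include hG hS in
/-- No element of order `p ^ 2` of `O_p(M_σ)` has `x` as its `p`-th power. -/
theorem Meet.pow_ne (h : Meet M p x) (hs : Shape M p z) {y : G} (hy : y ∈ opCore p (Cfsg.sigmaCore M)) :
    y ^ p ≠ x := by
  intro hyx
  set T := opCore p (Cfsg.sigmaCore M) with hT
  have hp2 : p ≠ 2 := minSimple_prime_ne_two hG (H := T)
    (h.order ▸ Subgroup.orderOf_dvd_natCard T (h.mem_opCore hS))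
  have hnc : ¬ (∀ t ∈ T, t * x = x * t) := fun hc => hs.noncomm
    (h.comm hG hS ((opCore_le p _).trans (sigmaCore_le M)) (opCore_isPGroup p _)
      fun t ht => Subgroup.mem_centralizer_singleton_iff.mpr (hc t ht))
  by_cases hr : Cfsg.PRankLE p 2 T
  · obtain ⟨P, hP⟩ := h.exists_sylow hG hS
    rcases Cfsg.Agent.S1412.result hG p P (by rw [hP]; exact hr) with hc |
      ⟨P₁, P₂, hsup, hcm, -, -, hexp, hcyc, -⟩
    · rw [hP] at hc; exact hs.noncomm hc
    rw [hP] at hsup
    have hn : P₁ ≤ Subgroup.normalizer (P₂ : Set G) := fun a ha => Subgroup.centralizer_le_normalizer _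
      (Subgroup.mem_centralizer_iff.mpr fun b hb => (hcm a ha b hb).symm)
    obtain ⟨a, ha, b, hb, rfl⟩ := CfsgLib.Coprime.exists_mul_of_mem_sup hn (hsup.ge hy)
    have hap : a ^ p = 1 := by
      have := Monoid.pow_exponent_eq_one (⟨a, ha⟩ : P₁)
      rw [hexp] at this
      exact congrArg Subtype.val this
    rw [(show Commute a b from hcm a ha b hb).mul_pow, hap, one_mul] at hyx
    refine hnc fun t ht => ?_
    obtain ⟨c, hc, d, hd, rfl⟩ := CfsgLib.Coprime.exists_mul_of_mem_sup hn (hsup.ge ht)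
    have hxP : x ∈ P₂ := hyx ▸ pow_mem hb p
    haveI := hcyc
    have hdx : Commute d x := congrArg Subtype.val (mul_comm' (⟨d, hd⟩ : P₂) ⟨x, hxP⟩)
    exact ((show Commute c x from hcm c hc x hxP).mul_left hdx).eq
  · set T0 : Subgroup G := T
    set x' : T := ⟨x, h.mem_opCore hS⟩
    set z' : T := ⟨z, hs.memT⟩
    set E : Subgroup T := Subgroup.closure {x', z'} with hE
    have hzx : z ∉ Subgroup.zpowers x := by
      intro hzx
      have hx' : x ∈ Subgroup.zpowers z := (Subgroup.eq_of_le_of_card_ge (Subgroup.zpowers_le.mpr hzx)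
        (by rw [Nat.card_zpowers, Nat.card_zpowers, hs.order, h.order])).ge (Subgroup.mem_zpowers x)
      obtain ⟨i, rfl⟩ := Subgroup.mem_zpowers_iff.mp hx'
      exact hnc fun t ht => ((show Commute t z from hs.central t ht).zpow_right i).eq
    have hEc : IsMulCommutative E := Subgroup.isMulCommutative_closure (by
      rintro a (rfl | rfl) b (rfl | rfl) <;> first
        | exact rfl
        | exact Subtype.ext (hs.central x (h.mem_opCore hS))
        | exact Subtype.ext (hs.central x (h.mem_opCore hS)).symm)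
    have hEe : Cfsg.IsElementaryAbelian p E := by
      refine ⟨hEc, fun a ha => ?_⟩
      induction ha using Subgroup.closure_induction with
      | mem a ha =>
        rcases ha with rfl | rfl
        · exact Subtype.ext (h.order ▸ pow_orderOf_eq_one x)
        · exact Subtype.ext (hs.order ▸ pow_orderOf_eq_one z)
      | one => exact one_pow p
      | mul a b ha hb iha ihb =>
        rw [(show Commute a b from mul_comm_of_mem hEc ha hb).mul_pow, iha, ihb, one_mul]
      | inv a _ iha => rw [inv_pow, iha, inv_one]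
    have hEmax : ∀ w : T, w ^ p = 1 → w ∈ Subgroup.centralizer (E : Set T) → w ∈ E := by
      intro w hwp hwE
      have hwx : x * (w : G) = w * x := congrArg Subtype.val
        (Subgroup.mem_centralizer_iff.mp hwE x' (Subgroup.subset_closure (by simp)))
      have hxT := h.mem_opCore hS
      have hmem := mem_closure_pair (hs.central x hxT) hwx (hs.central w w.2).symm
        (h.order ▸ pow_orderOf_eq_one x) (hs.order ▸ pow_orderOf_eq_one z)
        (by exact congrArg Subtype.val hwp) (B := T ⊓ Subgroup.centralizer ({x} : Set G))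
        ⟨hxT, Subgroup.mem_centralizer_singleton_iff.mpr rfl⟩
        ⟨hs.memT, Subgroup.mem_centralizer_singleton_iff.mpr (hs.central x hxT).symm⟩
        ⟨w.2, Subgroup.mem_centralizer_singleton_iff.mpr hwx.symm⟩
        (h.rank_two hG hS (inf_le_left.trans (opCore_le p _))
          ((opCore_isPGroup p _).to_le inf_le_left) inf_le_right) h.order hzx
      have he : E.map T.subtype = Subgroup.closure ({x, z} : Set G) := by
        rw [hE, MonoidHom.map_closure, Set.image_pair]; rfl
      rw [← he] at hmem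
      obtain ⟨w', hw', he'⟩ := hmem
      exact (Subtype.ext he' : w' = w) ▸ hw'
    have hmax : ∀ B : Subgroup T, Cfsg.IsElementaryAbelian p B → E ≤ B → B = E := fun B hB hEB =>
      le_antisymm (fun w hw => hEmax w (hB.2 w hw)
        (Subgroup.centralizer_le hEB (Subgroup.mem_centralizer_iff.mpr fun b hb =>
          mul_comm_of_mem hB.1 hb hw))) hEB
    have hE2 : Nat.card E = p ^ 2 := by
      obtain ⟨i, hi⟩ := (isPGroup_of_elemAb hEe).exists_card_eq
      have hge : 2 ≤ i := by
        by_contra hlt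
        have hle : Subgroup.zpowers x' ≤ E := Subgroup.zpowers_le.mpr (Subgroup.subset_closure (by simp))
        have hxo : orderOf x' = p := (Subgroup.orderOf_mk x _).trans h.order
        have he := Subgroup.eq_of_le_of_card_ge hle (by
          rw [hi, Nat.card_zpowers, hxo]
          exact (Nat.pow_le_pow_right hp.out.pos (by omega : i ≤ 1)).trans (pow_one p).le)
        obtain ⟨j, hj⟩ := Subgroup.mem_zpowers_iff.mp
          (he.ge (Subgroup.subset_closure (by simp) : z' ∈ E))
        exact hzx ⟨j, congrArg Subtype.val hj⟩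
      have hEle : Nat.card E ≤ p ^ 2 := by
        have h1 := pRankLE_iff.mp (h.rank_two hG hS
          ((Subgroup.map_subtype_le E).trans (opCore_le p _))
          ((isPGroup_of_elemAb hEe).map T.subtype) (by
            rw [Subgroup.map_le_iff_le_comap, hE, Subgroup.closure_le]
            rintro a (rfl | rfl)
            · exact Subgroup.mem_centralizer_singleton_iff.mpr rfl
            · exact Subgroup.mem_centralizer_singleton_iff.mpr (hs.central x (h.mem_opCore hS)).symm))
          ⊤ (elemAb_comap (elemAb_map hEe T.subtype) (Subgroup.subtype _) (Subgroup.subtype_injective _) |>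
            fun he => by rwa [Subgroup.comap_subtype, Subgroup.subgroupOf_self] at he)
        rwa [Subgroup.card_top, Subgroup.card_map_of_injective T.subtype_injective] at h1
      rw [hi] at hEle ⊢
      rw [le_antisymm ((Nat.pow_le_pow_iff_right hp.out.one_lt).mp hEle) hge]
    obtain ⟨z1, e1, hL⟩ := Narrow.exists_layer hp2 (opCore_isPGroup p _) hr hEe hE2 hmax
    set W := Subgroup.centralizer ((CubeUnique.omegaTwo p (hp.out.odd_of_ne_two hp2) T : Subgroup T) : Set T) with hW
    have hzW : z' ∈ W := Subgroup.mem_centralizer_iff.mpr fun a _ => Subtype.ext (hs.central a a.2)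
    have hxW : x' ∉ W := fun hxW => hL.not_le (by
      rw [hE, Subgroup.closure_le]
      rintro a (rfl | rfl) <;> assumption)
    have hWn : W.Normal := by
      refine Subgroup.normal_of_index_eq_minFac_card ?_
      rw [hL.index]
      obtain ⟨n, hn⟩ := (opCore_isPGroup p (Cfsg.sigmaCore M)).exists_card_eq
      rw [hn]
      refine (Nat.Prime.pow_minFac hp.out fun h0 => hxW ?_).symm
      have : Subsingleton T := (Nat.card_eq_one_iff_unique.mp (hn.trans (by rw [h0, pow_zero]))).1
      rw [Subsingleton.elim x' 1]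
      exact W.one_mem
    refine hxW ?_
    have h1 : ((⟨y, hy⟩ : T) : T ⧸ W) ^ p = 1 := by
      rw [← hL.index]
      exact pow_card_eq_one'
    rw [← QuotientGroup.mk_pow, QuotientGroup.eq_one_iff] at h1
    exact (Subtype.ext hyx : (⟨y, hy⟩ : T) ^ p = x') ▸ h1

end CfsgLib.OddOrder38
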