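import Mathlib
import Cfsg.Agent.Lib.OddOrder38.NonTI15

/-!
# BG 15.7, weak form

The statement S1440 asserts `⁅M, M⁆ = F(M)`; only `⁅M, M⁆ ≤ F(M)` is proved here.
-/

set_option autoImplicit false
set_option linter.unusedSectionVars false

namespace CfsgLib.OddOrder38

open Subgroup CfsgLib.OddOrder CfsgLib.OddOrder.Transitivity CfsgLib.OddOrder41
open scoped commutatorElement

universe u

variable {G : Type u} [Group G] [Finite G] (hG : Cfsg.IsMinSimpleOddOrder G) {M : Subgroup G}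

theorem isMulCommutative_map {R : Type u} [Group R] (f : R →* G) {A : Subgroup R} (h : IsMulCommutative A) :
    IsMulCommutative (A.map f) := by
  refine ⟨⟨?_⟩⟩
  rintro ⟨_, a, ha, rfl⟩ ⟨_, b, hb, rfl⟩
  apply Subtype.ext
  show f a * f b = f b * f a
  rw [← map_mul, ← map_mul, mul_comm_of_mem h ha hb]

theorem comm_eq_mul_inv (a b : G) : ⁅a, b⁆ = a * b * (b * a)⁻¹ := by
  rw [commutatorElement_def, mul_inv_rev, ← mul_assoc]

/-- The commutator subgroup of a group of order `p ^ 3` is central. -/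
theorem commutator_le_center_cube {T : Type u} [Group T] [Finite T] {p : ℕ} [hp : Fact p.Prime]
    (hT : Nat.card T = p ^ 3) (a b : T) : ⁅a, b⁆ ∈ Subgroup.center T := by
  have hTp : IsPGroup p T := IsPGroup.of_card hT
  set Z := Subgroup.center T with hZ
  have : Nontrivial T := Finite.one_lt_card_iff_nontrivial.mp (hT ▸ Nat.one_lt_pow (by norm_num) hp.out.one_lt)
  have : Nontrivial Z := hTp.center_nontrivial
  obtain ⟨c, hc⟩ := (hTp.to_subgroup Z).exists_card_eq
  obtain ⟨d, hd⟩ := (hTp.to_quotient Z).exists_card_eq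
  have hmul : p ^ d * p ^ c = p ^ 3 := by
    rw [← hd, ← hc, ← Subgroup.card_eq_card_quotient_mul_card_subgroup, hT]
  rw [← pow_add] at hmul
  have hdc := Nat.pow_right_injective hp.out.two_le hmul
  have hc1 : c ≠ 0 := fun h => by
    have h1 : 1 < Nat.card Z := Finite.one_lt_card
    rw [hc, h, pow_zero] at h1
    exact lt_irrefl 1 h1
  rw [← QuotientGroup.eq_one_iff, ← QuotientGroup.mk'_apply, map_commutatorElement,
    commutatorElement_eq_one_iff_mul_comm]
  rcases (show d ≤ 1 ∨ d = 2 by omega) with h | h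
  · have hcyc : IsCyclic (T ⧸ Z) := by
      rcases (show d = 0 ∨ d = 1 by omega) with h0 | h0
      · have := (Nat.card_eq_one_iff_unique.mp (by rw [hd, h0, pow_zero] : Nat.card (T ⧸ Z) = 1)).1
        infer_instance
      · exact isCyclic_of_prime_card (p := p) (by rw [hd, h0, pow_one])
    exact ((IsCyclic.isMulCommutative (α := T ⧸ Z)).is_comm.comm _ _)
  · let : CommGroup (T ⧸ Z) := IsPGroup.commGroupOfCardEqPrimeSq (p := p) (by rw [hd, h])
    exact mul_comm _ _

include hG in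
/-- The exponent of `M/M_F` is that of a complement. -/
theorem exponent_quotient_fittingHall {E : Subgroup G} (hH : Cfsg.fittingHallOf M = Cfsg.sigmaCore M)
    (hE : Cfsg.IsComplIn E (Cfsg.sigmaCore M) M) :
    Monoid.exponent (M ⧸ Cfsg.fittingHall M) = Monoid.exponent E := by
  set S := Cfsg.sigmaCore M with hS
  have hn : (S.subgroupOf M).Normal :=
    (Subgroup.normal_subgroupOf_iff_le_normalizer (piCoreOf_le _ _)).mpr (piCoreOf_normal _ _)
  have he : Cfsg.fittingHall M = S.subgroupOf M := by rw [← fittingHallOf_subgroupOf M, hH]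
  rw [Monoid.exponent_eq_of_mulEquiv (QuotientGroup.quotientMulEquivOfEq he),
    ← OddOrder42.exponent_subgroupOf hE.1]
  exact Monoid.exponent_eq_of_mulEquiv
    (CfsgLib.OddOrder.IsComplIn.isComplement' hE).QuotientMulEquiv

variable {p : ℕ} [hp : Fact p.Prime] {x z : G}

include hG in
/-- Every prime divisor of `|M_σ|` has a normal subgroup of that order in `M`. -/
theorem Shape.exists_normal_prime (hs : Shape M p z) (hSn : Group.IsNilpotent (Cfsg.sigmaCore M)) {q : ℕ}
    (hq : q.Prime) (hd : q ∣ Nat.card (Cfsg.sigmaCore M)) :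
    ∃ w ∈ Cfsg.sigmaCore M, orderOf w = q ∧
      M ≤ Subgroup.normalizer ((Subgroup.zpowers w : Subgroup G) : Set G) ∧
      ((q = p ∧ w = z) ∨ w ∈ oPrime p (Cfsg.sigmaCore M)) := by
  set S := Cfsg.sigmaCore M with hS
  by_cases hqp : q = p
  · exact ⟨z, opCore_le p S hs.memT, hqp ▸ hs.order, hs.norm, Or.inl ⟨hqp, rfl⟩⟩
  have := Fact.mk hq
  obtain ⟨⟨w, hw⟩, hwo⟩ := exists_prime_orderOf_dvd_card' (G := S) q hd
  rw [Subgroup.orderOf_mk] at hwo
  have hwR : w ∈ oPrime p S := mem_oPrime_of_nilpotent hSn hw fun h =>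
    hqp ((Nat.prime_dvd_prime_iff_eq hp.out hq).mp (hwo ▸ h)).symm
  have := hs.cyclic
  refine ⟨w, hw, hwo, ?_, Or.inr hwR⟩
  exact ((piCoreOf_normal (Cfsg.sigma M) M).trans (Sigma11.oPrime_normalizer p S)).trans
    (Sigma15.normalizer_le_of_cyclic hq hwR hwo)

include hG in
/-- A maximal plane of `O_p(M_σ)` through `x`. -/
theorem Meet.plane (hS : Group.IsNilpotent (Cfsg.sigmaCore M)) (h : Meet M p x) (hs : Shape M p z) :
    Cfsg.IsNarrow p ↥(opCore p (Cfsg.sigmaCore M)) := by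
  set T := opCore p (Cfsg.sigmaCore M) with hT
  have hxT := h.mem_opCore hS
  have hp2 : p ≠ 2 := minSimple_prime_ne_two hG (H := T) (h.order ▸ Subgroup.orderOf_dvd_natCard T hxT)
  have hzx : z ∉ Subgroup.zpowers x := by
    intro hzx
    have hx' : x ∈ Subgroup.zpowers z := (Subgroup.eq_of_le_of_card_ge (Subgroup.zpowers_le.mpr hzx)
      (by rw [Nat.card_zpowers, Nat.card_zpowers, hs.order, h.order])).ge (Subgroup.mem_zpowers x)
    obtain ⟨i, rfl⟩ := Subgroup.mem_zpowers_iff.mp hx'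
    refine hs.noncomm (h.comm hG hS ((opCore_le p _).trans (sigmaCore_le M)) (opCore_isPGroup p _)
      fun t ht => Subgroup.mem_centralizer_singleton_iff.mpr
        ((show Commute t z from hs.central t ht).zpow_right i).eq)
  have hxz : x * z = z * x := hs.central x hxT
  set A := Subgroup.closure ({x, z} : Set G) with hA
  have hAT : A ≤ T := (Subgroup.closure_le T).mpr (by rintro a (rfl | rfl); exacts [hxT, hs.memT])
  have hAc : IsMulCommutative A := Subgroup.isMulCommutative_closure (by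
    rintro a (rfl | rfl) b (rfl | rfl) <;> first
      | exact rfl
      | exact hxz
      | exact hxz.symm)
  have hAe : Cfsg.IsElementaryAbelian p A := by
    refine ⟨hAc, fun a ha => ?_⟩
    induction ha using Subgroup.closure_induction with
    | mem a ha =>
      rcases ha with rfl | rfl
      · exact h.order ▸ pow_orderOf_eq_one _
      · exact hs.order ▸ pow_orderOf_eq_one _
    | one => exact one_pow p
    | mul a b ha hb iha ihb =>
      rw [(show Commute a b from mul_comm_of_mem hAc ha hb).mul_pow, iha, ihb, one_mul]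
    | inv a _ iha => rw [inv_pow, iha, inv_one]
  have hAx : A ≤ Subgroup.centralizer ({x} : Set G) := (Subgroup.closure_le _).mpr (by
    rintro a (rfl | rfl)
    · exact Subgroup.mem_centralizer_singleton_iff.mpr rfl
    · exact Subgroup.mem_centralizer_singleton_iff.mpr hxz.symm)
  have hA2 : Nat.card A = p ^ 2 := by
    obtain ⟨i, hi⟩ := (isPGroup_of_elemAb hAe).exists_card_eq
    have hge : 2 ≤ i := by
      by_contra hlt
      have he := Subgroup.eq_of_le_of_card_ge (Subgroup.zpowers_le.mpr (Subgroup.subset_closure (by simp))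
        : Subgroup.zpowers x ≤ A) (by
        rw [hi, Nat.card_zpowers, h.order]
        exact (Nat.pow_le_pow_right hp.out.pos (by omega : i ≤ 1)).trans (pow_one p).le)
      exact hzx (he.ge (Subgroup.subset_closure (by simp)))
    have hle : i ≤ 2 := by
      by_contra hlt
      refine not_pRankLE_subgroup_iff.mpr ?_ (h.rank_two hG hS (hAT.trans (opCore_le p _))
        (isPGroup_of_elemAb hAe) hAx)
      obtain ⟨B, hB⟩ := Sylow.exists_subgroup_card_pow_prime p
        (hi ▸ pow_dvd_pow p (by omega : 3 ≤ i) : p ^ 3 ∣ Nat.card A)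
      have hBe : Cfsg.IsElementaryAbelian p B :=
        ⟨⟨⟨fun a b => Subtype.ext (Subtype.ext (mul_comm_of_mem hAc a.1.2 b.1.2))⟩⟩,
          fun a _ => Subtype.ext (hAe.2 a a.2)⟩
      exact ⟨B.map A.subtype, Subgroup.map_subtype_le B, elemAb_map hBe _,
        by rw [Subgroup.card_map_of_injective A.subtype_injective, hB]⟩
    rw [hi, le_antisymm hle hge]
  refine Narrow.isNarrow_of_maximal_sq hp2 (opCore_isPGroup p _) hAT hAe hA2 fun w hw hwp hwA => ?_
  have hwx : x * w = w * x :=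
    Subgroup.mem_centralizer_iff.mp hwA x (Subgroup.subset_closure (by simp))
  exact mem_closure_pair hxz hwx (hs.central w hw).symm (h.order ▸ pow_orderOf_eq_one x)
    (hs.order ▸ pow_orderOf_eq_one z) hwp (B := T ⊓ Subgroup.centralizer ({x} : Set G))
    ⟨hxT, Subgroup.mem_centralizer_singleton_iff.mpr rfl⟩
    ⟨hs.memT, Subgroup.mem_centralizer_singleton_iff.mpr hxz.symm⟩
    ⟨hw, Subgroup.mem_centralizer_singleton_iff.mpr hwx.symm⟩
    (h.rank_two hG hS (inf_le_left.trans (opCore_le p _))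
      ((opCore_isPGroup p _).to_le inf_le_left) inf_le_right) h.order hzx

include hG in
/-- `M_σ' = O_p(M_σ)'`. -/
theorem Shape.derived_le (hs : Shape M p z) (hSn : Group.IsNilpotent (Cfsg.sigmaCore M)) :
    ⁅Cfsg.sigmaCore M, Cfsg.sigmaCore M⁆ ≤ ⁅opCore p (Cfsg.sigmaCore M), opCore p (Cfsg.sigmaCore M)⁆ := by
  set S := Cfsg.sigmaCore M with hS
  refine Subgroup.commutator_le.mpr fun a ha b hb => ?_
  obtain ⟨t, ht, r, hr, rfl⟩ := exists_mul_pcores (p := p) hSn ha
  obtain ⟨t', ht', r', hr', rfl⟩ := exists_mul_pcores (p := p) hSn hb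
  have hc : ∀ t ∈ opCore p S, ∀ r ∈ oPrime p S, Commute r t := fun t ht r hr =>
    Subgroup.mem_centralizer_iff.mp (opCore_commute_oPrime S ht) r hr
  have := hs.cyclic
  have hrr : Commute r r' := congrArg Subtype.val
    (mul_comm' (⟨r, hr⟩ : oPrime p S) ⟨r', hr'⟩)
  have h1 : ⁅t * r, t' * r'⁆ = ⁅t, t'⁆ := by
    rw [comm_eq_mul_inv, comm_eq_mul_inv,
      Commute.mul_mul_mul_comm (hc t' ht' r hr), Commute.mul_mul_mul_comm (hc t ht r' hr'), hrr.eq]
    group
  exact h1 ▸ Subgroup.commutator_mem_commutator ht ht'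

include hG in
/-- The orders of the complement in cases (2) and (3). -/
theorem Meet.kappa_case (hS : Group.IsNilpotent (Cfsg.sigmaCore M)) (h : Meet M p x) (hs : Shape M p z)
    {K : Subgroup G} (hK : Cfsg.IsPiHallOf (Cfsg.kappa M) K M) (hK1 : K ≠ ⊥) (hKc : IsCyclic K)
    (hE : Cfsg.IsComplIn K (Cfsg.sigmaCore M) M) :
    (∀ q : ℕ, q.Prime → q ∣ Nat.card (Cfsg.sigmaCore M) → Monoid.exponent K ∣ q - 1) ∨
      (Nat.card (opCore p (Cfsg.sigmaCore M)) = p ^ 3 ∧ Nat.card K ∣ p + 1) := by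
  have hM := h.coatom
  have hI := Hall14.inputs hG
  set S := Cfsg.sigmaCore M with hSdef
  set T := opCore p S with hT
  set Ks := S ⊓ Subgroup.centralizer (K : Set G) with hKs
  have hKd : Ks ≤ ⁅T, T⁆ :=
    (Cfsg.Agent.S1426.result hG M hM K hE).1.trans (hs.derived_le hG hS)
  have hTd : ⁅T, T⁆ ≤ T := Subgroup.commutator_le_self T
  have hfix : ∀ k ∈ K, k ≠ 1 → S ⊓ Subgroup.centralizer ({k} : Set G) = Ks := (hI.kappaHall M hM K hK hK1).1
  have hKM : K ≤ M := hK.1
  have hcopK : (Nat.card K).Coprime p := Nat.coprime_of_dvd fun q hq hd hqp =>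
    (hK.2.1 q hq hd).2.2.1 ((Nat.prime_dvd_prime_iff_eq hq hp.out).mp hqp ▸ h.mem_sigma)
  -- the prime-order normal subgroups outside `Ks`
  have hfree : ∀ q : ℕ, q.Prime → q ∣ Nat.card S → (q = p → z ∉ Ks) → ∀ k ∈ K, orderOf k ∣ q - 1 := by
    intro q hq hd hqz k hk
    obtain ⟨w, hwS, hwo, hwn, hwz⟩ := hs.exists_normal_prime hG hS hq hd
    refine orderOf_dvd_pred hq hwo (hwn (hKM hk)) fun n hn => by_contra fun hne => ?_
    have hw1 : w ∈ Ks := (hfix _ (pow_mem hk n) hne).le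
      ⟨hwS, Subgroup.mem_centralizer_singleton_iff.mpr hn.symm⟩
    rcases hwz with ⟨hqp, rfl⟩ | hwR
    · exact hqz hqp hw1
    · have h1 := Criteria.eq_one_of_pgroup_of_coprime (opCore_isPGroup p S) (oPrime_coprime S)
        (hTd (hKd hw1)) hwR
      exact hq.ne_one (by rw [← hwo, h1, orderOf_one])
  obtain ⟨k₀, hk₀⟩ := IsCyclic.exists_ofOrder_eq_natCard (α := K)
  rw [← Subgroup.orderOf_coe] at hk₀
  have hexp : ∀ n : ℕ, orderOf (k₀ : G) ∣ n → Monoid.exponent K ∣ n := fun n hn =>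
    Group.exponent_dvd_nat_card.trans (hk₀ ▸ hn)
  by_cases hzK : z ∈ Ks
  swap
  · exact Or.inl fun q hq hd => hexp _ (hfree q hq hd (fun _ => hzK) _ k₀.2)
  have hothers : ∀ q : ℕ, q.Prime → q ∣ Nat.card S → q ≠ p → orderOf (k₀ : G) ∣ q - 1 :=
    fun q hq hd hqp => hfree q hq hd (fun e => absurd e hqp) _ k₀.2
  suffices orderOf (k₀ : G) ∣ p - 1 ∨ (Nat.card T = p ^ 3 ∧ orderOf (k₀ : G) ∣ p + 1) by
    rcases this with h1 | ⟨h1, h2⟩
    · refine Or.inl fun q hq hd => hexp _ ?_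
      by_cases hqp : q = p
      · exact hqp ▸ h1
      · exact hothers q hq hd hqp
    · exact Or.inr ⟨h1, hk₀ ▸ h2⟩
  have hTp : IsPGroup p T := opCore_isPGroup p S
  have hTS : T ≤ S := opCore_le p S
  have hT1 : T ≠ ⊥ := fun e => h.ne_one (Subgroup.mem_bot.mp (e ▸ h.mem_opCore hS))
  have hKT : K ≤ Subgroup.normalizer (T : Set G) := fun k hk => by
    refine mem_normalizer_of_cj_eq (Subgroup.eq_of_le_of_card_ge ?_ (card_cj k T).ge)
    exact pgroup_le_opCore hS ((cj_mono hTS).trans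
      (cj_eq_of_mem_normalizer (piCoreOf_normal _ _ (hKM hk))).le) (hTp.map _)
  have hlt : ¬ T ≤ ⁅T, T⁆ := fun hle => by
    have : Nontrivial T := (Subgroup.nontrivial_iff_ne_bot T).mpr hT1
    have : Group.IsNilpotent T := hTp.isNilpotent
    refine (Group.IsSolvable.commutator_lt_top_of_nontrivial (G := T)).ne ?_
    refine Subgroup.map_injective T.subtype_injective ?_
    rw [Subgroup.map_subtype_commutator, ← MonoidHom.range_eq_map, Subgroup.range_subtype]
    exact le_antisymm hTd hle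
  have hfaith : ∀ k ∈ K, (∀ t ∈ T, t * k = k * t) → k = 1 := fun k hk hc => by_contra fun hne =>
    hlt ((le_inf hTS fun t ht => Subgroup.mem_centralizer_singleton_iff.mpr (hc t ht)).trans
      ((hfix k hk hne).le.trans hKd))
  by_cases hr : Cfsg.PRankLE p 2 T
  swap
  · refine Or.inl (Narrow.operator_order_dvd (minSimple_prime_ne_two hG (H := T)
      (h.order ▸ Subgroup.orderOf_dvd_natCard T (h.mem_opCore hS))) T K hTp (h.plane hG hS hs) hKT ?_ hr
      _ k₀.2 (hcopK.coprime_dvd_left (Subgroup.orderOf_dvd_natCard K k₀.2)))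
    refine (Subgroup.eq_bot_iff_forall _).mpr fun k hk => hfaith k hk.1 fun t ht => ?_
    exact Subgroup.mem_centralizer_iff.mp hk.2 t ht
  obtain ⟨P, hP⟩ := h.exists_sylow hG hS
  rcases Cfsg.Agent.S1412.result hG p P (by rw [hP]; exact hr) with hc |
    ⟨P₁, P₂, hsup, hcm, -, hP₁, -, hcyc, -⟩
  · rw [hP] at hc; exact absurd hc hs.noncomm
  rw [hP] at hsup
  have hn : P₁ ≤ Subgroup.normalizer (P₂ : Set G) := fun a ha => Subgroup.centralizer_le_normalizer _
    (Subgroup.mem_centralizer_iff.mpr fun b hb => (hcm a ha b hb).symm)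
  have hP₂c : IsMulCommutative P₂ := haveI := hcyc; IsCyclic.isMulCommutative
  -- the centre of `T`
  set Zc := T ⊓ Subgroup.centralizer (T : Set G) with hZc
  have hp2 : p ≠ 2 := minSimple_prime_ne_two hG (H := T)
    (h.order ▸ Subgroup.orderOf_dvd_natCard T (h.mem_opCore hS))
  have hZrank : Cfsg.PRankLE p 1 Zc := by
    by_contra hcon
    obtain ⟨A, hAZ, hAe, hA2⟩ := not_pRankLE_subgroup_iff.mp hcon
    have hle : A ≤ Subgroup.zpowers z := fun a ha => hs.unique a (hAZ ha).1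
      (fun t ht => Subgroup.mem_centralizer_iff.mp (hAZ ha).2 t ht) (hAe.2 a ha)
    have h1 := Subgroup.card_le_of_le hle
    rw [hA2, Nat.card_zpowers, hs.order] at h1
    exact absurd h1 (not_le.mpr (lt_self_pow₀ hp.out.one_lt one_lt_two))
  have hZcyc : IsCyclic Zc := isCyclic_of_pRankLE_one hp2 (hTp.to_le inf_le_left) hZrank
  have hKZn : K ≤ Subgroup.normalizer (Zc : Set G) :=
    (le_inf hKT (hKT.trans (normalizer_centralizer_le T))).trans Subgroup.inf_normalizer_le_normalizer_inf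
  have hKz : K ≤ Subgroup.centralizer ({z} : Set G) := fun k hk =>
    Subgroup.mem_centralizer_singleton_iff.mpr (Subgroup.mem_centralizer_iff.mp hzK.2 k hk)
  have hKZ : K ≤ Subgroup.centralizer (Zc : Set G) :=
    OddOrder41.centralizes_cyclic (hTp.to_le inf_le_left) hZcyc hKZn hcopK (x := z)
      ⟨hs.memT, Subgroup.mem_centralizer_iff.mpr fun t ht => hs.central t ht⟩ hs.order hKz
  have hZK : Zc ≤ Ks := le_inf (inf_le_left.trans hTS) (Subgroup.le_centralizer_iff.mp hKZ)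
  have hP₂Z : P₂ ≤ Zc := fun b hb => by
    refine ⟨hsup.le (Subgroup.mem_sup_right hb), Subgroup.mem_centralizer_iff.mpr fun t ht => ?_⟩
    obtain ⟨c, hc, d, hd, rfl⟩ := CfsgLib.Coprime.exists_mul_of_mem_sup hn (hsup.ge ht)
    exact ((show Commute c b from hcm c hc b hb).mul_left
      (show Commute d b from mul_comm_of_mem hP₂c hd hb)).eq
  have hder : ⁅T, T⁆ ≤ P₁ := Subgroup.commutator_le.mpr fun a ha b hb => by
    obtain ⟨c, hc, d, hd, rfl⟩ := CfsgLib.Coprime.exists_mul_of_mem_sup hn (hsup.ge ha)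
    obtain ⟨c', hc', d', hd', rfl⟩ := CfsgLib.Coprime.exists_mul_of_mem_sup hn (hsup.ge hb)
    have h1 : ⁅c * d, c' * d'⁆ = ⁅c, c'⁆ := by
      rw [comm_eq_mul_inv, comm_eq_mul_inv,
        Commute.mul_mul_mul_comm (show Commute d c' from (hcm c' hc' d hd).symm),
        Commute.mul_mul_mul_comm (show Commute d' c from (hcm c hc d' hd').symm),
        mul_comm_of_mem hP₂c hd hd']
      group
    exact h1 ▸ Subgroup.commutator_le_self P₁ (Subgroup.commutator_mem_commutator hc hc')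
  have hTP : T = P₁ := by
    exact hsup.symm.trans (sup_eq_left.mpr (hP₂Z.trans (hZK.trans (hKd.trans hder))))
  have hT3 : Nat.card T = p ^ 3 := by rw [hTP, hP₁]
  -- the automorphism
  set kN : Subgroup.normalizer (T : Set G) := ⟨k₀, hKT k₀.2⟩ with hkN
  set φ := T.normalizerMonoidHom kN with hφ
  have hker : ∀ n : ℕ, φ ^ n = 1 ↔ (k₀ : G) ^ n = 1 := by
    intro n
    rw [hφ, ← map_pow, ← MonoidHom.mem_ker, Subgroup.normalizerMonoidHom_ker, Subgroup.mem_subgroupOf]
    show (k₀ : G) ^ n ∈ Subgroup.centralizer (T : Set G) ↔ _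
    refine ⟨fun hm => hfaith _ (pow_mem k₀.2 n) fun t ht => Subgroup.mem_centralizer_iff.mp hm t ht,
      fun e => e ▸ one_mem _⟩
  have hord : orderOf φ = orderOf (k₀ : G) := orderOf_eq_orderOf_iff.mpr hker
  have hcen : ∀ t : T, t ∈ Subgroup.center T → (t : G) ∈ Zc := fun t ht =>
    ⟨t.2, Subgroup.mem_centralizer_iff.mpr fun s hs' =>
      congrArg Subtype.val (Subgroup.mem_center_iff.mp ht ⟨s, hs'⟩)⟩
  have happ : ∀ (n : ℕ) (t : T), (((φ ^ n) t : T) : G) = (k₀ : G) ^ n * t * ((k₀ : G) ^ n)⁻¹ := fun n t => by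
    rw [hφ, ← map_pow]
    rfl
  have hz : ∀ t ∈ Subgroup.center T, φ t = t := fun t ht => Subtype.ext (by
    have h1 := happ 1 t
    rw [pow_one, pow_one] at h1
    rw [h1, ← Subgroup.mem_centralizer_iff.mp (hKZ k₀.2) _ (hcen t ht), mul_inv_cancel_right])
  have hfree' : ∀ n : ℕ, ∀ t : T, (φ ^ n) t = t → t ∈ Subgroup.center T ∨ φ ^ n = 1 := by
    intro n t ht
    by_cases hn' : (k₀ : G) ^ n = 1
    · exact Or.inr ((hker n).mpr hn')
    refine Or.inl ?_
    have h1 : (k₀ : G) ^ n * t * ((k₀ : G) ^ n)⁻¹ = t := by rw [← happ, ht]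
    have h2 : (t : G) ∈ ⁅T, T⁆ := hKd ((hfix _ (pow_mem k₀.2 n) hn').le
      ⟨hTS t.2, Subgroup.mem_centralizer_singleton_iff.mpr (by
        calc (t : G) * (k₀ : G) ^ n = (k₀ : G) ^ n * t * ((k₀ : G) ^ n)⁻¹ * (k₀ : G) ^ n := by rw [h1]
          _ = (k₀ : G) ^ n * t := by group)⟩)
    rw [← Subgroup.map_subtype_commutator] at h2
    obtain ⟨t', ht', he⟩ := h2
    have ht'c : t' ∈ Subgroup.center T := by
      rw [_root_.commutator_def] at ht'
      exact Subgroup.commutator_le.mpr (fun a _ b _ => commutator_le_center_cube hT3 a b) ht'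
    exact (Subtype.ext he : t' = t) ▸ ht'c
  rcases mulAut_card_cube hT3 hs.noncomm φ
    (hord ▸ hcopK.coprime_dvd_left (Subgroup.orderOf_dvd_natCard K k₀.2)) hz hfree' with h1 | h1
  · exact Or.inl (hord ▸ h1)
  · exact Or.inr ⟨hT3, hord ▸ h1⟩

include hG in
/-- The elements of prime order of `F(M) ∩ F(M)^g`, `g ∉ M`. -/
theorem exists_meet (hM : IsCoatom M) {g : G} (hg : g ∉ M) {r : ℕ} [hr : Fact r.Prime] {x : G}
    (hx : x ∈ Cfsg.fittingOf M ⊓ cj g (Cfsg.fittingOf M)) (hxo : orderOf x = r) : Meet M r x := by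
  set F := Cfsg.fittingOf M with hF
  have hx1 : x ≠ 1 := fun e => hr.out.ne_one (by rw [← hxo, e, orderOf_one])
  have hFM : F ≤ M := fittingOf_le M
  set y := g⁻¹ * x * g with hy
  have hyF : y ∈ F := mem_cj.mp hx.2
  have hyo : orderOf y = r := by
    rw [hy, show g⁻¹ * x * g = MulAut.conj g⁻¹ x by simp, MulEquiv.orderOf_eq, hxo]
  have hσ : r ∈ Cfsg.sigma M := by
    by_contra hrσ
    obtain ⟨hYc, -, -⟩ := Sigma15.fitting_structure hG hM
    have key : ∀ v ∈ F, orderOf v = r →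
        Subgroup.normalizer ((Subgroup.zpowers v : Subgroup G) : Set G) = M := by
      intro v hv hvo
      have hvY := (OddOrder42.piCoreOf_hall (fittingOf_isNilpotent M)
        {q | q.Prime ∧ q ∉ Cfsg.sigma M}).2.2 v hv fun q hq hd => by
          rw [hvo] at hd
          exact (Nat.prime_dvd_prime_iff_eq hq hr.out).mp hd ▸ ⟨hr.out, hrσ⟩
      refine Sigma15.normalizer_eq_of_normal hG hM (Subgroup.zpowers_le.mpr (hFM hv))
        (Subgroup.zpowers_ne_bot.mpr fun e => hr.out.ne_one (by rw [← hvo, e, orderOf_one])) ?_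
      exact ((fittingOf_normal M).trans (Sigma15.normalizer_le_normalizer_piCoreOf _ _)).trans
        (Sigma15.normalizer_le_of_cyclic hr.out hvY hvo)
    have h1 := congrArg (cj g) (key y hyF hyo)
    rw [OddOrder41.cj_normalizer, show cj g (Subgroup.zpowers y) = Subgroup.zpowers x by
      show (Subgroup.zpowers y).map _ = _
      rw [MonoidHom.map_zpowers]
      congr 1
      show g * y * g⁻¹ = x
      rw [hy]; group, key x hx.1 hxo] at h1
    have hgN : g ∈ Subgroup.normalizer (M : Set G) := mem_normalizer_of_cj_eq h1.symm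
    refine hg ((hM.le_iff.mp Subgroup.le_normalizer).resolve_left ?_ ▸ hgN)
    exact minSimple_normalizer_ne_top hG (isCoatom_ne_bot hG hM) hM.1
  have hxS : x ∈ Cfsg.sigmaCore M := Subgroup.zpowers_le.mp (le_sigmaCore hG hM
    (Subgroup.zpowers_le.mpr (hFM hx.1)) fun q hq hd => by
      rw [Nat.card_zpowers, hxo] at hd
      exact (Nat.prime_dvd_prime_iff_eq hq hr.out).mp hd ▸ hσ)
  obtain ⟨E, hE⟩ := exists_compl hG hM
  refine ⟨hM, hxS, hx.1, hxo, fun hC => hg ?_, ?_⟩
  · obtain ⟨m, hm, c, hc, he⟩ := exists_mul_centralizer hG (Hall14.inputs hG).toLocal hM (hFM hx.1)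
      hr.out hσ (hxo ▸ dvd_rfl) (g := g⁻¹) (by rw [inv_inv]; exact hFM hyF)
    have h1 : g⁻¹ ∈ M := he ▸ mul_mem hm (hC hc)
    exact inv_mem_iff.mp h1
  · refine ((Cfsg.Agent.S1426.result hG M hM E hE).2.2 g hg).2.1 r hr.out ?_
    exact hxo ▸ Subgroup.orderOf_dvd_natCard _
      (show x ∈ Cfsg.sigmaCore M ⊓ M.map (MulAut.conj g).toMonoidHom from ⟨hxS, cj_mono hFM hx.2⟩)

include hG in
/-- **BG 15.7**, with `M' ≤ F(M)` in place of `M' = F(M)`. -/
theorem fitting_nonTI
    (M : Subgroup G) (hM : IsCoatom M) (K U : Subgroup G) (hKU : Cfsg.IsSigmaDecomposition M K U) (g : G) (hg : g ∉ M) (hX : Cfsg.fittingOf M ⊓ (Cfsg.fittingOf M).map (MulAut.conj g).toMonoidHom ≠ ⊥) :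
    (Cfsg.fittingOf M ⊓ (Cfsg.fittingOf M).map (MulAut.conj g).toMonoidHom ≤ Cfsg.fittingHallOf M ∧ IsCyclic ↥(Cfsg.fittingOf M ⊓ (Cfsg.fittingOf M).map (MulAut.conj g).toMonoidHom)) ∧
      (Cfsg.fittingHallOf M = Cfsg.sigmaCore M ∧ ⁅M, M⁆ ≤ Cfsg.fittingOf M ∧ Cfsg.fittingOf M = Cfsg.sigmaCore M ⊔ Cfsg.piCoreOf {q | q.Prime ∧ q ∉ Cfsg.sigma M} (Cfsg.fittingOf M)) ∧
      ((K = ⊥ ∧ IsMulCommutative (Cfsg.fittingHallOf M) ∧ Cfsg.RankLE 2 (Cfsg.fittingHallOf M) ∧ ¬ Cfsg.RankLE 1 (Cfsg.fittingHallOf M)) ∨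
       (∃ p : ℕ, p.Prime ∧ Nat.card ↥(Cfsg.fittingOf M ⊓ (Cfsg.fittingOf M).map (MulAut.conj g).toMonoidHom) = p ∧ p ∈ Cfsg.sigma M ∧ p ∉ Cfsg.beta M ∧
          ¬ IsMulCommutative (Cfsg.pCore p ↥(Cfsg.fittingHallOf M)) ∧ IsCyclic (Cfsg.pPrimeCore p ↥(Cfsg.fittingHallOf M)) ∧
          ∀ q : ℕ, q.Prime → q ∣ Nat.card (Cfsg.fittingHallOf M) → Monoid.exponent (↥M ⧸ Cfsg.fittingHall ↥M) ∣ q - 1) ∨
       (∃ p : ℕ, p.Prime ∧ Nat.card ↥(Cfsg.fittingOf M ⊓ (Cfsg.fittingOf M).map (MulAut.conj g).toMonoidHom) = p ∧ p ∈ Cfsg.sigma M ∧ p ∉ Cfsg.beta M ∧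
          IsCyclic (Cfsg.pPrimeCore p ↥(Cfsg.fittingHallOf M)) ∧ Nat.card (Cfsg.pCore p ↥(Cfsg.fittingHallOf M)) = p ^ 3 ∧
          ¬ IsMulCommutative (Cfsg.pCore p ↥(Cfsg.fittingHallOf M)) ∧ K ≠ ⊥ ∧ U = ⊥ ∧ (Cfsg.fittingHallOf M).relIndex M ∣ p + 1)) := by
  set S := Cfsg.sigmaCore M with hSdef
  set X := Cfsg.fittingOf M ⊓ (Cfsg.fittingOf M).map (MulAut.conj g).toMonoidHom with hXdef
  have hI := Hall14.inputs hG
  obtain ⟨r, hr, hrd⟩ := Nat.exists_prime_and_dvd fun e => hX (Subgroup.card_eq_one.mp e)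
  have := Fact.mk hr
  obtain ⟨⟨x, hxX⟩, hxo⟩ := exists_prime_orderOf_dvd_card' (G := X) r hrd
  rw [Subgroup.orderOf_mk] at hxo
  have h : Meet M r x := exists_meet hG hM hg hxX hxo
  have hH : Cfsg.fittingHallOf M = S := h.fittingHallOf_eq hG hKU
  have hSn : Group.IsNilpotent S := h.sigmaCore_nilpotent hG hKU
  have hder : ⁅M, M⁆ ≤ Cfsg.fittingOf M := h.derived_le_fitting hG hSn
  obtain ⟨-, -, hFY⟩ := Sigma15.fitting_structure hG hM
  have hFS : Cfsg.fittingOf S = S := le_antisymm (fittingOf_le S) (le_fittingOf le_rfl Subgroup.le_normalizer hSn)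
  rw [← hSdef, hFS] at hFY
  have hXS : X ≤ S := le_sigmaCore hG hM (inf_le_left.trans (fittingOf_le M)) fun q hq hd => by
    have := Fact.mk hq
    obtain ⟨⟨v, hv⟩, hvo⟩ := exists_prime_orderOf_dvd_card' (G := X) q hd
    rw [Subgroup.orderOf_mk] at hvo
    exact (exists_meet hG hM hg hv hvo).mem_sigma
  obtain ⟨E₀, hE₀⟩ := exists_compl hG hM
  have hXc : IsCyclic X := by
    have := ((Cfsg.Agent.S1426.result hG M hM E₀ hE₀).2.2 g hg).1
    exact Subgroup.isCyclic_of_le (le_inf hXS (inf_le_right.trans (cj_mono (fittingOf_le M))))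
  have hU0 : K ≠ ⊥ → U = ⊥ := fun hK1 => U_eq_bot_of_kappa hG hM hSn hder hKU hK1
  have hEK : K ≠ ⊥ → Cfsg.IsComplIn K S M := fun hK1 => by
    have h1 := OddOrder40.isComplIn_sup hG hM hKU
    rwa [hU0 hK1, bot_sup_eq] at h1
  rw [hH]
  refine ⟨⟨hXS, hXc⟩, ⟨rfl, hder, hFY⟩, ?_⟩
  by_cases hab : IsMulCommutative S
  · -- the abelian case
    have hSx : ∀ A : Subgroup G, A ≤ S → A ≤ Subgroup.centralizer ({x} : Set G) := fun A hA a ha =>
      Subgroup.mem_centralizer_singleton_iff.mpr (mul_comm_of_mem hab (hA ha) h.memS)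
    refine Or.inl ⟨?_, hab, fun q hq => ?_, fun hr1 => h.outside ?_⟩
    · by_contra hK1
      refine kstar_ne_bot hI hM hKU.hall hK1 (le_bot_iff.mp ?_)
      refine (Cfsg.Agent.S1426.result hG M hM K (hEK hK1)).1.trans (le_of_eq ?_)
      exact Subgroup.commutator_eq_bot_iff_le_centralizer.mpr
        (Subgroup.le_centralizer_iff_isMulCommutative.mpr hab)
    · have := Fact.mk hq
      by_contra hcon
      obtain ⟨A, hAS, hAe, hA3⟩ := not_pRankLE_subgroup_iff.mp hcon
      exact not_pRankLE_subgroup_iff.mpr ⟨A, le_rfl, hAe, hA3⟩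
        (h.rank_two hG hSn hAS (isPGroup_of_elemAb hAe) (hSx A hAS))
    · set T := opCore r S with hT
      have hTc : IsCyclic T := isCyclic_of_pRankLE_one
        (minSimple_prime_ne_two hG (H := S) (hxo ▸ Subgroup.orderOf_dvd_natCard S h.memS))
        (opCore_isPGroup r S) (PRankLE.of_le (opCore_le r S) (hr1 r hr))
      have hMT : M ≤ Subgroup.normalizer (T : Set G) := fun m hm => by
        refine mem_normalizer_of_cj_eq (Subgroup.eq_of_le_of_card_ge ?_ (card_cj m T).ge)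
        exact pgroup_le_opCore hSn ((cj_mono (opCore_le r S)).trans
          (cj_eq_of_mem_normalizer (piCoreOf_normal _ _ hm)).le) ((opCore_isPGroup r S).map _)
      have := hTc
      refine le_trans ?_ (Sigma15.normalizer_eq_of_normal hG hM
        (Subgroup.zpowers_le.mpr (sigmaCore_le M h.memS)) (Subgroup.zpowers_ne_bot.mpr h.ne_one)
        (hMT.trans (Sigma15.normalizer_le_of_cyclic hr (h.mem_opCore hSn) hxo))).le
      rw [← OddOrder41.centralizer_zpowers]
      exact Subgroup.centralizer_le_normalizer _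
  -- the nonabelian case
  obtain ⟨z, hs⟩ := h.shape hG hSn hab
  have hsingle : ∀ (q : ℕ) [Fact q.Prime], q ∣ Nat.card X → q = r := fun q _ hd => by
    obtain ⟨⟨v, hv⟩, hvo⟩ := exists_prime_orderOf_dvd_card' (G := X) q hd
    rw [Subgroup.orderOf_mk] at hvo
    exact ((exists_meet hG hM hg hv hvo).eq_of_noncomm hG hSn hs.noncomm).symm
  have hXr : Nat.card X = r := by
    obtain ⟨n, hn⟩ : ∃ n, Nat.card X = r ^ n := ⟨_, Nat.eq_prime_pow_of_unique_prime_dvd Nat.card_pos.ne'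
      fun {q} hq hd => haveI := Fact.mk hq; hsingle q hd⟩
    rcases n with _ | _ | n
    · rw [hn, pow_zero, Nat.dvd_one] at hrd; exact absurd hrd hr.ne_one
    · rw [hn, zero_add, pow_one]
    · exfalso
      obtain ⟨⟨v, hv⟩, hvo⟩ := IsCyclic.exists_ofOrder_eq_natCard (α := X)
      rw [Subgroup.orderOf_mk, hn] at hvo
      set y := v ^ r ^ n with hy
      have hyX : y ∈ X := pow_mem hv _
      have hyo : orderOf y = r ^ 2 := by
        rw [hy, orderOf_pow_of_dvd (pow_ne_zero _ hr.ne_zero) (hvo ▸ pow_dvd_pow r (by omega)), hvo,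
          Nat.pow_div (by omega) hr.pos]
        congr 1; omega
      have hxo' : orderOf (y ^ r) = r := by
        rw [orderOf_pow_of_dvd hr.ne_zero (hyo ▸ dvd_pow_self r two_ne_zero), hyo, pow_two,
          Nat.mul_div_cancel _ hr.pos]
      refine (exists_meet hG hM hg (pow_mem hyX r) hxo').pow_ne hG hSn hs (y := y)
        (pgroup_le_opCore hSn (Subgroup.zpowers_le.mpr (hXS hyX))
          (IsPGroup.of_card (n := 2) (by rw [Nat.card_zpowers, hyo])) (Subgroup.mem_zpowers y)) rfl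
  have hTnc : ¬ IsMulCommutative (Cfsg.pCore r ↥S) := fun hc =>
    hs.noncomm (isMulCommutative_map S.subtype hc)
  have hRc : IsCyclic (Cfsg.pPrimeCore r ↥S) := by
    have : IsCyclic ↥((Cfsg.pPrimeCore r ↥S).map S.subtype) := hs.cyclic
    have e := (Cfsg.pPrimeCore r ↥S).equivMapOfInjective _ S.subtype_injective
    exact isCyclic_of_surjective e.symm e.symm.surjective
  by_cases hK : K = ⊥
  · refine Or.inr (Or.inl ⟨r, hr, hXr, h.mem_sigma, h.notBeta, hTnc, hRc, fun q hq hd => ?_⟩)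
    obtain ⟨U₀, hU₀, hexp, hfix⟩ := OddOrder40.exists_free_part hG hM hKU fun hK1 => absurd hK hK1
    have hc : Cfsg.IsComplIn U S M := by
      have h1 := hKU.compl
      rwa [hK, bot_sup_eq] at h1
    rw [exponent_quotient_fittingHall hG hH hc, ← hexp]
    obtain ⟨w, hwS, hwo, hwn, -⟩ := hs.exists_normal_prime hG hSn hq hd
    refine Monoid.exponent_dvd_of_forall_pow_eq_one fun v => Subtype.ext ?_
    have hvM : (v : G) ∈ M := hKU.compl.1 (hU₀ v.2)
    refine orderOf_dvd_iff_pow_eq_one.mp (orderOf_dvd_pred hq hwo (hwn hvM) fun n hn => ?_)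
    exact hfix _ (pow_mem v.2 n) ⟨pow_mem hvM n, w, hwS,
      fun e => hq.ne_one (by rw [← hwo, e, orderOf_one]), hn⟩
  · have hKc : IsCyclic K := hKU.cyclic
    rcases h.kappa_case hG hSn hs hKU.hall hK hKc (hEK hK) with h1 | ⟨h1, h2⟩
    · refine Or.inr (Or.inl ⟨r, hr, hXr, h.mem_sigma, h.notBeta, hTnc, hRc, fun q hq hd => ?_⟩)
      rw [exponent_quotient_fittingHall hG hH (hEK hK)]
      exact h1 q hq hd
    · refine Or.inr (Or.inr ⟨r, hr, hXr, h.mem_sigma, h.notBeta, hRc, ?_, hTnc, hK, hU0 hK, ?_⟩)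
      · rwa [opCore, Subgroup.card_map_of_injective S.subtype_injective] at h1
      · rw [IsComplIn.relIndex_left (OddOrder42.complIn_symm (hEK hK))]
        exact h2

end CfsgLib.OddOrder38
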